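import Mathlib
import Cfsg.Agent.H952.S7.B6_m3
import Cfsg.Agent.H944.E6TwE_m3
import Cfsg.Agent.H401.E6Grp_m3
import Cfsg.Agent.H944.E6Tab
import Cfsg.Agent.H952.F4.KillBase_m3
import Cfsg.Agent.ChevalleyStructure.E6Min.Adjoint
import Cfsg.Agent.H952.F4.Scott_m3
import Cfsg.Agent.H944.E6TwC
import Cfsg.Agent.H251.E6.Up
import Cfsg.Agent.H16.E6.Cov
import Cfsg.Agent.Lib.FastPerm
import Cfsg.Agent.FastGrp
import Cfsg.Agent.Prune
set_option linter.all false

section
prune_inst 0x7f00000000000000000000000000000000000000000000000000000000000000000000000000000000000000000000000000000000000000000000000000000000000000000000000000000000000000003fffffffffffffffffffffffffffaeffbdffffffff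

-- part: H905/E6T/BigEight
section
set_option linter.all false
open scoped Cfsg.Agent.FastGrp

-- part: H905/E6T/Eight
section
/-!
# S5927, characteristic 2, `A₈`: the family of vectors indexed by pairs (helper905)

`NoPt σ` : the stabilizer of a point has no fixed vectors. Under this assumption for both modules there is (after a possible
exchange of the modules) a family `w i j` of singular vectors with `cr (w i j) (w i k) = 0`, and a 4-cycle does not vanish.
-/

set_option autoImplicit false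
set_option linter.unusedSectionVars false
set_option linter.unusedSimpArgs false
set_option linter.unusedTactic false
set_option linter.unusedVariables false

namespace Cfsg.Agent.H905.E6T

open Cfsg Cfsg.Lie Module Equiv
open Cfsg.Agent.ChevalleyStructure.E6Min.Tables
open Cfsg.Agent.H952.F4 (ev es sh cr tf tr1 u0 GenT)
open Cfsg.Agent.H952.F4.Jord Cfsg.Agent.H163.E6

universe u

variable {F : Type u} [Field F]

/-- the stabilizer of the point `k` has no fixed vectors -/
def NoPt (k : Fin 8) (σ : Representation F ↥(alternatingGroup (Fin 8)) (I27 → F)) : Prop :=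
  ∀ x : I27 → F, (∀ g : ↥(alternatingGroup (Fin 8)), (g : Perm (Fin 8)) k = k → σ g x = x) → x = 0

section

variable {σ σ' : Representation F ↥(alternatingGroup (Fin 8)) (I27 → F)}

theorem NoPt.move {k : Fin 8} (h : NoPt k σ) (l : Fin 8) : NoPt l σ := by
  intro x hx
  obtain ⟨t, ht⟩ := move1 (n := 8) (by norm_num) l k
  have h1 : σ t x = 0 := by
    apply h
    intro g hg
    have h2 := hx (t⁻¹ * g * t) (by
      rw [Subgroup.coe_mul, Subgroup.coe_mul, Perm.mul_apply, Perm.mul_apply, ht, hg, Subgroup.coe_inv,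
        Perm.inv_eq_iff_eq, ht])
    rw [mul_app, mul_app] at h2
    rw [← app_inv (σ := σ) t (σ g (σ t x)), h2]
  rw [← inv_app (σ := σ) t x, h1, map_zero]

theorem NoPt.inv {k : Fin 8} (h : NoPt k σ) : σ.invariants = ⊥ := by
  rw [eq_bot_iff]
  intro x hx
  rw [Representation.mem_invariants] at hx
  exact (Submodule.mem_bot F).2 (h x fun g _ => hx g)

/-- the invariants of `A₇` -/
theorem NoPt.res {k : Fin 8} (h : NoPt k σ) : (res (show 7 ≤ 8 by norm_num) σ).invariants = ⊥ := by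
  rw [eq_bot_iff]
  intro x hx
  rw [Representation.mem_invariants] at hx
  refine (Submodule.mem_bot F).2 (h.move 7 x fun g hg => ?_)
  obtain ⟨g', hg'⟩ := exists_io (show 7 ≤ 8 by norm_num) g (by
    intro i hi
    obtain rfl : i = 7 := Fin.ext (by have := i.2; change i.val = 7; omega)
    exact hg)
  rw [← hg']
  exact hx g'

theorem star8 {k : Fin 8} (h : NoPt k σ) {w : Fin 8 → Fin 8 → I27 → F} (hw : Fam2 σ w) (i : Fin 8) :
    ∑ j, w i j = 0 :=
  fam2_star (n := 8) (by norm_num) hw (h.move 0) i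

theorem star_sign {n : ℕ} (k : Fin (n + 2)) (hk : k ≠ 0) : swap 0 1 * swap 0 k ∈ alternatingGroup (Fin (n + 2)) := by
  rw [Perm.mem_alternatingGroup, Perm.sign_mul, Perm.sign_swap (by simp), Perm.sign_swap hk.symm]
  rfl

/-- fixed vectors can be recognized on generators -/
theorem fixed_of_star {n : ℕ} {ρ : Representation F ↥(alternatingGroup (Fin (n + 2))) (I27 → F)} {v : I27 → F}
    (h : ∀ (k : Fin (n + 2)) (hk : k ≠ 0), ρ ⟨swap 0 1 * swap 0 k, star_sign k hk⟩ v = v)
    (g : ↥(alternatingGroup (Fin (n + 2)))) : ρ g v = v := by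
  let S : Subgroup ↥(alternatingGroup (Fin (n + 2))) :=
    { carrier := {g | ρ g v = v}
      mul_mem' := by
        intro a b ha hb
        change ρ (a * b) v = v
        rw [mul_app, show ρ b v = v from hb, show ρ a v = v from ha]
      one_mem' := one_app v
      inv_mem' := by
        intro a ha
        change ρ a⁻¹ v = v
        conv_lhs => rw [← show ρ a v = v from ha]
        rw [inv_app] }
  have h1 : (g : Perm (Fin (n + 2))) ∈ S.map (alternatingGroup (Fin (n + 2))).subtype := by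
    refine Cfsg.Agent.H952.F4.Gen.mem_of_star _ ?_ ?_ g.2
    · rintro _ ⟨a, -, rfl⟩
      exact a.2
    · intro k hk
      exact ⟨⟨_, star_sign k hk⟩, h k hk, rfl⟩
  obtain ⟨a, ha, hag⟩ := h1
  obtain rfl : a = g := Subtype.ext hag
  exact ha

/-- if a 4-cycle vanishes the triangles vanish -/
theorem tri_of_Z (h2 : (2 : F) = 0) (hinv : σ.invariants = ⊥) {w : Fin 8 → Fin 8 → I27 → F} (hw : Fam2 σ w)
    (hZ : Z w 0 1 2 3 = 0) {a b c : Fin 8} (hab : a ≠ b) (hac : a ≠ c) (hbc : b ≠ c) : w a b + w a c + w b c = 0 := by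
  have h3 : ∀ k : Fin 8, k ≠ 0 → k ≠ 1 → k ≠ 2 → w k 0 + w k 2 + w 0 2 = w 0 1 + w 0 2 + w 1 2 := by
    intro k h0 h1 h3
    have h := Z_zero (n := 8) (by norm_num) hw hZ (by decide) (by decide) (by decide) (by decide) (by decide)
      (by decide) (show (0 : Fin 8) ≠ 2 by decide) (show (0 : Fin 8) ≠ 1 by decide) h0.symm
      (show (2 : Fin 8) ≠ 1 by decide) h3.symm h1.symm
    rw [Z, add_assoc (w 0 1 + w 2 1)] at h
    have h7 := eq_of_add2 h2 h
    rw [hw.comm k 0, hw.comm k 2, ← h7, hw.comm 2 1]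
    abel
  have h4 : w 0 1 + w 0 2 + w 1 2 = 0 := by
    apply mem_inv hinv
    refine fixed_of_star (n := 6) ?_
    intro k hk
    rw [map_add, map_add, hw.act, hw.act, hw.act]
    change w ((swap (0 : Fin 8) 1 * swap 0 k : Perm (Fin 8)) 0) ((swap (0 : Fin 8) 1 * swap 0 k : Perm (Fin 8)) 1) +
      w ((swap (0 : Fin 8) 1 * swap 0 k : Perm (Fin 8)) 0) ((swap (0 : Fin 8) 1 * swap 0 k : Perm (Fin 8)) 2) +
      w ((swap (0 : Fin 8) 1 * swap 0 k : Perm (Fin 8)) 1) ((swap (0 : Fin 8) 1 * swap 0 k : Perm (Fin 8)) 2) = _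
    by_cases h1 : k = 1
    · subst h1
      rw [swap_mul_self]
      rfl
    by_cases h3' : k = 2
    · subst h3'
      rw [show (swap (0 : Fin 8) 1 * swap (0 : Fin 8) 2 : Perm (Fin 8)) 0 = 2 by decide, show (swap (0 : Fin 8) 1 * swap (0 : Fin 8) 2 : Perm (Fin 8)) 1 = 0 by decide,
        show (swap (0 : Fin 8) 1 * swap (0 : Fin 8) 2 : Perm (Fin 8)) 2 = 1 by decide, hw.comm 2 0, hw.comm 2 1]
      abel
    have h5 : ∀ k : Fin 8, k ≠ 0 → k ≠ 1 → k ≠ 2 → (swap (0 : Fin 8) 1 * swap 0 k : Perm (Fin 8)) 0 = k ∧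
        (swap (0 : Fin 8) 1 * swap 0 k : Perm (Fin 8)) 1 = 0 ∧ (swap (0 : Fin 8) 1 * swap 0 k : Perm (Fin 8)) 2 = 2 := by decide
    obtain ⟨e0, e1, e2⟩ := h5 k hk h1 h3'
    rw [e0, e1, e2]
    exact h3 k hk h1 h3'
  obtain ⟨g, g0, g1, g2⟩ := move3 (n := 8) (by norm_num) (a := 0) (b := 1) (c := 2) (by decide) (by decide)
    (by decide) hab hac hbc
  have h5 := congrArg (σ g) h4
  rw [map_add, map_add, hw.act, hw.act, hw.act, g0, g1, g2, map_zero] at h5
  exact h5

/-- a pair family with vanishing triangles spans a totally singular 6-space -/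
theorem tri_kill (h2 : (2 : F) = 0) (hpt : NoPt 7 σ) (h6 : NoSix σ) {w : Fin 8 → Fin 8 → I27 → F} (hw : Fam2 σ w)
    (h0 : w 0 7 ≠ 0) (htri : ∀ {a b c : Fin 8}, a ≠ b → a ≠ c → b ≠ c → w a b + w a c + w b c = 0)
    (hsh : ∀ i j, sh (w i j) = 0) (hcr : ∀ i j k, cr (w i j) (w i k) = 0) : False := by
  let v : Fin 7 → I27 → F := fun i => w (Fin.castLE (show 7 ≤ 8 by norm_num) i) 7
  have hv : Fam (res (show 7 ≤ 8 by norm_num) σ) v := by
    intro g i
    change σ (io _ g) (w _ 7) = w _ 7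
    rw [hw.act, io_apply, io_apply_ge _ g 7 (by decide)]
  have hdim := finrank_fam h2 hpt.res hv h0
  have hspan : Submodule.span F (Set.range v) = Submodule.span F (Set.range fun p : Fin 8 × Fin 8 => w p.1 p.2) := by
    apply le_antisymm
    · rw [Submodule.span_le]
      rintro _ ⟨i, rfl⟩
      exact Submodule.subset_span ⟨(_, 7), rfl⟩
    · have h7 : ∀ i : Fin 8, w i 7 ∈ Submodule.span F (Set.range v) := by
        intro i
        by_cases hi : i = 7
        · rw [hi, hw.diag]; exact Submodule.zero_mem _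
        · exact Submodule.subset_span ⟨⟨i.val, by
            have := i.2
            have h8 : i.val ≠ 7 := fun h => hi (Fin.ext h)
            omega⟩, rfl⟩
      rw [Submodule.span_le]
      rintro _ ⟨⟨i, j⟩, rfl⟩
      change w i j ∈ Submodule.span F (Set.range v)
      by_cases hij : i = j
      · rw [hij, hw.diag]; exact Submodule.zero_mem _
      by_cases hi : i = 7
      · rw [hi, hw.comm]; exact h7 j
      by_cases hj : j = 7
      · rw [hj]; exact h7 i
      have h8 := htri hij hi hj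
      rw [add_assoc] at h8
      rw [eq_of_add2 h2 h8]
      exact Submodule.add_mem _ (h7 i) (h7 j)
  have hcr' : ∀ p q : Fin 8 × Fin 8, cr (w p.1 p.2) (w q.1 q.2) = 0 := by
    rintro ⟨i, j⟩ ⟨k, l⟩
    change cr (w i j) (w k l) = 0
    by_cases hik : i = k
    · rw [hik]; exact hcr _ _ _
    by_cases hil : i = l
    · rw [hil, hw.comm k l]; exact hcr _ _ _
    by_cases hkl : k = l
    · rw [hkl, hw.diag, cr_zero_right]
    have h8 := htri hik hil hkl
    rw [add_comm] at h8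
    rw [eq_of_add2 h2 h8, cr_add_right, hcr, hcr, add_zero]
  rw [hspan] at hdim
  exact h6 _ (span_stable fun g p => ⟨((g : Perm (Fin 8)) p.1, (g : Perm (Fin 8)) p.2), hw.act g p.1 p.2⟩) hdim
    (ts_span (fun p => hsh p.1 p.2) hcr')

/-- the properties of the family of pairs -/
structure Pairs (σ σ' : Representation F ↥(alternatingGroup (Fin 8)) (I27 → F)) (w : Fin 8 → Fin 8 → I27 → F) : Prop where
  fam : Fam2 σ w
  ne : w 0 7 ≠ 0
  adj : ∀ i j k, cr (w i j) (w i k) = 0
  tfa : ∀ i j k, tf (sh (w i j)) (w i k) = 0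
  sing : ∀ i j, sh (sh (w i j)) = 0
  adj' : ∀ i j k, cr (sh (w i j)) (sh (w i k)) = 0

theorem exists_pairs (h2 : (2 : F) = 0) (hP : PD σ σ') (hpt : NoPt 7 σ) (hpt' : NoPt 7 σ')
    (ha : 2 ≤ finrank F (res (show 6 ≤ 8 by norm_num) σ).invariants) : ∃ w, Pairs σ σ' w := by
  set I := (res (show 6 ≤ 8 by norm_num) σ).invariants with hI
  have hmem : ∀ x : I27 → F, x ∈ I ↔ ∀ g : ↥(alternatingGroup (Fin 8)), (g : Perm (Fin 8)) 6 = 6 →
      (g : Perm (Fin 8)) 7 = 7 → σ g x = x := by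
    intro x
    rw [hI, Representation.mem_invariants]
    constructor
    · intro h g h6 h7
      obtain ⟨g', hg'⟩ := exists_io (show 6 ≤ 8 by norm_num) g (by
        intro i hi
        have h8 : i = 6 ∨ i = 7 := by
          have := i.2
          rcases (show i.val = 6 ∨ i.val = 7 by omega) with h | h
          · left; exact Fin.ext h
          · right; exact Fin.ext h
        rcases h8 with rfl | rfl
        · exact h6
        · exact h7)
      rw [← hg']
      exact h g'
    · intro h g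
      exact h (io _ g) (io_apply_ge _ g 6 (by decide)) (io_apply_ge _ g 7 (by decide))
  let s : ↥(alternatingGroup (Fin 8)) := ⟨swap (6 : Fin 8) 7 * swap (0 : Fin 8) 1, by
    rw [Perm.mem_alternatingGroup]; decide⟩
  have s6 : (s : Perm (Fin 8)) 6 = 7 := by decide
  have s7 : (s : Perm (Fin 8)) 7 = 6 := by decide
  have ss : s * s = 1 := by decide
  have hs : ∀ x ∈ I, σ s x ∈ I := by
    intro x hx
    rw [hmem] at hx ⊢
    intro g h6 h7
    have h3 := hx (s * g * s) (by
      rw [Subgroup.coe_mul, Subgroup.coe_mul, Perm.mul_apply, Perm.mul_apply, s6, h7, s7]) (by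
      rw [Subgroup.coe_mul, Subgroup.coe_mul, Perm.mul_apply, Perm.mul_apply, s7, h6, s6])
    rw [mul_app, mul_app] at h3
    have h4 := congrArg (σ s) h3
    rw [← mul_app (σ := σ) s s, ss, one_app] at h4
    exact h4
  -- a vector fixed by `s`
  obtain ⟨x, hxI, hx0, hxs⟩ : ∃ x ∈ I, x ≠ 0 ∧ σ s x = x := by
    obtain ⟨l, hl0⟩ : ∃ l : I, l ≠ 0 := by
      have h3 : 0 < finrank F I := by omega
      have := Module.finrank_pos_iff_exists_ne_zero.1 h3
      exact this
    have hl0' : (l : I27 → F) ≠ 0 := fun h => hl0 (Subtype.ext h)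
    by_cases h3 : σ s (l : I27 → F) = l
    · exact ⟨l, l.2, hl0', h3⟩
    · refine ⟨(l : I27 → F) + σ s l, I.add_mem l.2 (hs _ l.2), ?_, ?_⟩
      · intro h4
        exact h3 (eq_of_add2 h2 h4).symm
      · rw [map_add, ← mul_app, ss, one_app, add_comm]
  obtain ⟨m, hm⟩ : ∃ m : I, LinearIndependent F ![(⟨x, hxI⟩ : I), m] :=
    exists_linearIndependent_pair_of_one_lt_finrank (by omega) (fun h => hx0 (congrArg Subtype.val h))
  obtain ⟨w, hw, hwx⟩ := exists_fam2 (n := 8) (σ := σ) (by norm_num) (show (6 : Fin 8) ≠ 7 by decide) x (by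
    rintro g (⟨h6, h7⟩ | ⟨h6, h7⟩)
    · exact (hmem x).1 hxI g h6 h7
    · have h3 := (hmem x).1 hxI (s * g) (by
        rw [Subgroup.coe_mul, Perm.mul_apply, h6, s7]) (by
        rw [Subgroup.coe_mul, Perm.mul_apply, h7, s6])
      rw [mul_app] at h3
      have h4 := congrArg (σ s) h3
      rw [← mul_app (σ := σ) s s, ss, one_app, hxs] at h4
      exact h4)
  -- the two families for `A₇`
  let v0 : Fin 7 → I27 → F := fun i => w (Fin.castLE (show 7 ≤ 8 by norm_num) i) 7
  have hv0 : Fam (res (show 7 ≤ 8 by norm_num) σ) v0 := by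
    intro g i
    change σ (io _ g) (w _ 7) = w _ 7
    rw [hw.act, io_apply, io_apply_ge _ g 7 (by decide)]
  obtain ⟨v1, hv1, hv16⟩ := exists_fam (n := 7) (σ := res (show 7 ≤ 8 by norm_num) σ) (by norm_num) 6 (m : I27 → F) (by
    intro g hg
    rw [res_apply]
    refine (hmem m).1 m.2 _ ?_ (io_apply_ge _ g 7 (by decide))
    have := io_apply (show 7 ≤ 8 by norm_num) g 6
    rw [hg] at this
    exact this)
  have hv06 : v0 6 = x := hwx
  obtain ⟨t, ht⟩ := move1 (n := 7) (by norm_num) 6 0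
  have hi : LinearIndependent F (fun k : Fin 2 => (![v0, v1] : Fin 2 → Fin 7 → I27 → F) k 0) := by
    have h1 := hm.map' (Submodule.subtype _) (Submodule.ker_subtype _)
    have h3 : Function.Injective (res (show 7 ≤ 8 by norm_num) σ t) := fun a b hab => by
      rw [← inv_app (σ := res (show 7 ≤ 8 by norm_num) σ) t a, hab, inv_app]
    have h4 := h1.map' (res (show 7 ≤ 8 by norm_num) σ t) (LinearMap.ker_eq_bot.2 h3)
    have h5 : (fun k : Fin 2 => (![v0, v1] : Fin 2 → Fin 7 → I27 → F) k 0) = (res (show 7 ≤ 8 by norm_num) σ t) ∘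
        ((Submodule.subtype I) ∘ ![(⟨x, hxI⟩ : I), m]) := by
      funext k
      fin_cases k
      · change v0 0 = res (show 7 ≤ 8 by norm_num) σ t x
        rw [← hv06, hv0, ht]
      · change v1 0 = res (show 7 ≤ 8 by norm_num) σ t (m : I27 → F)
        rw [← hv16, hv1, ht]
    rw [h5]
    exact h4
  have hcr := seven_main h2 (hP.res (show 7 ≤ 8 by norm_num)) hpt.res hpt'.res (v := ![v0, v1])
    (by
      intro k
      fin_cases k
      · exact hv0
      · exact hv1) hi
  have h00 : v0 0 ≠ 0 := hi.ne_zero 0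
  obtain ⟨hN, hT, h3, h4⟩ := fam_sing h2 (hP.res (show 7 ≤ 8 by norm_num)) hpt.res hv0 h00 hcr
  -- everything for the point 7
  have hc : ∀ i : Fin 8, i ≠ 7 → ∃ i' : Fin 7, v0 i' = w i 7 := by
    intro i hi
    exact ⟨⟨i.val, by
      have := i.2
      have h8 : i.val ≠ 7 := fun h => hi (Fin.ext h)
      omega⟩, rfl⟩
  have r1 : ∀ j k : Fin 8, j ≠ 7 → k ≠ 7 → cr (w j 7) (w k 7) = 0 ∧ tf (sh (w j 7)) (w k 7) = 0 ∧
      sh (sh (w j 7)) = 0 ∧ cr (sh (w j 7)) (sh (w k 7)) = 0 := by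
    intro j k hj hk
    obtain ⟨j', hj'⟩ := hc j hj
    obtain ⟨k', hk'⟩ := hc k hk
    rw [← hj', ← hk']
    exact ⟨hcr j' k', hT j' k', h3 j', h4 j' k'⟩
  have r2 : ∀ i j k : Fin 8, i ≠ j → i ≠ k → cr (w i j) (w i k) = 0 ∧ tf (sh (w i j)) (w i k) = 0 ∧
      sh (sh (w i j)) = 0 ∧ cr (sh (w i j)) (sh (w i k)) = 0 := by
    intro i j k hij hik
    obtain ⟨g, hg⟩ := move1 (n := 8) (by norm_num) i 7
    have hj : (g : Perm (Fin 8)) j ≠ 7 := by
      rw [← hg]; exact fun h => hij ((g : Perm (Fin 8)).injective h).symm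
    have hk : (g : Perm (Fin 8)) k ≠ 7 := by
      rw [← hg]; exact fun h => hik ((g : Perm (Fin 8)).injective h).symm
    obtain ⟨a1, a2, a3, a4⟩ := r1 _ _ hj hk
    have e1 : σ g (w i j) = w ((g : Perm (Fin 8)) j) 7 := by rw [hw.act, hg, hw.comm]
    have e2 : σ g (w i k) = w ((g : Perm (Fin 8)) k) 7 := by rw [hw.act, hg, hw.comm]
    rw [← e1, ← e2] at a1 a2 a4
    rw [← e1] at a3
    rw [hP.hcr] at a1
    rw [hP.hsh, hP.symm.htf] at a2
    rw [hP.hsh, hP.hsh'] at a3
    rw [hP.hsh, hP.hsh, hP.symm.hcr] at a4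
    refine ⟨?_, a2, ?_, ?_⟩
    · rw [← inv_app (σ := σ') g (cr _ _), a1, map_zero]
    · rw [← inv_app (σ := σ) g (sh (sh _)), a3, map_zero]
    · rw [← inv_app (σ := σ) g (cr _ _), a4, map_zero]
  refine ⟨w, hw, ?_, ?_, ?_, ?_, ?_⟩
  · exact h00
  · intro i j k
    by_cases hij : i = j
    · rw [hij, hw.diag, cr_zero_left]
    by_cases hik : i = k
    · rw [← hik, hw.diag, cr_zero_right]
    exact (r2 i j k hij hik).1
  · intro i j k
    by_cases hij : i = j
    · rw [hij, hw.diag, sh_zero, tf_zero_left]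
    by_cases hik : i = k
    · rw [← hik, hw.diag, tf_zero_right]
    exact (r2 i j k hij hik).2.1
  · intro i j
    by_cases hij : i = j
    · rw [hij, hw.diag, sh_zero, sh_zero]
    exact (r2 i j j hij hij).2.2.1
  · intro i j k
    by_cases hij : i = j
    · rw [hij, hw.diag, sh_zero, cr_zero_left]
    by_cases hik : i = k
    · rw [← hik, hw.diag, sh_zero, cr_zero_right]
    exact (r2 i j k hij hik).2.2.2

end

end Cfsg.Agent.H905.E6T
end

-- part: H905/E6T/EightSh
section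
/-!
# S5927, characteristic 2, `A₈`: the pair vectors are singular (helper905)

`Pairs.sh0`, `Pairs.z_ne`, `Pairs.tri0` (the trilinear form vanishes), `Pairs.collapse` : the product `cr (w i j) (w k l)`
depends only on the set `{i, j, k, l}`.
-/

set_option autoImplicit false
set_option linter.unusedSectionVars false
set_option linter.unusedSimpArgs false
set_option linter.unusedTactic false
set_option linter.unusedVariables false

namespace Cfsg.Agent.H905.E6T

open Cfsg Cfsg.Lie Module Equiv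
open Cfsg.Agent.ChevalleyStructure.E6Min.Tables
open Cfsg.Agent.H952.F4 (ev es sh cr tf tr1 u0 GenT)
open Cfsg.Agent.H952.F4.Jord Cfsg.Agent.H163.E6

universe u

variable {F : Type u} [Field F]

/-- transitivity on lists of distinct points -/
theorem move_list {n : ℕ} {L L' : List (Fin n)} (h : L.Nodup) (h' : L'.Nodup) (hl : L.length = L'.length)
    (hn : L.length + 2 ≤ n) : ∃ g : ↥(alternatingGroup (Fin n)), L.map (g : Perm (Fin n)) = L' := by
  obtain ⟨g, hg⟩ := move (k := L.length) hn ⟨L.get, List.nodup_iff_injective_get.1 h⟩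
    ⟨fun i => L'.get (Fin.cast hl i), (List.nodup_iff_injective_get.1 h').comp (Fin.cast_injective hl)⟩
  refine ⟨g, List.ext_get (by rw [List.length_map, hl]) ?_⟩
  intro i h1 h2
  have h3 := hg ⟨i, by rw [List.length_map] at h1; exact h1⟩
  change (g : Perm (Fin n)) (L.get ⟨i, _⟩) = L'.get ⟨i, _⟩ at h3
  rw [← h3]
  simp

section

variable {σ σ' : Representation F ↥(alternatingGroup (Fin 8)) (I27 → F)} {w : Fin 8 → Fin 8 → I27 → F}

/-- equality of a scalar function of four points -/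
theorem scal4 {e : Fin 8 → Fin 8 → Fin 8 → Fin 8 → F}
    (he : ∀ (g : ↥(alternatingGroup (Fin 8))) (i j k l : Fin 8), e ((g : Perm (Fin 8)) i) ((g : Perm (Fin 8)) j)
      ((g : Perm (Fin 8)) k) ((g : Perm (Fin 8)) l) = e i j k l) {i j k l : Fin 8} (h : [i, j, k, l].Nodup) :
    e i j k l = e 0 1 2 3 := by
  obtain ⟨g, hg⟩ := move_list (L := [0, 1, 2, 3]) (by decide) h rfl (by simp)
  simp only [List.map_cons, List.map_nil, List.cons.injEq, and_true] at hg
  rw [← hg.1, ← hg.2.1, ← hg.2.2.1, ← hg.2.2.2, he]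

theorem Pairs.tf_disj (h2 : (2 : F) = 0) (hP : PD σ σ') (hpt : NoPt 7 σ) (hp : Pairs σ σ' w) (i j k l : Fin 8) :
    tf (sh (w i j)) (w k l) = 0 := by
  have hz : ∀ y : F, y + y = 0 := fun y => by rw [← two_mul, h2, zero_mul]
  by_cases h1 : i = k
  · rw [← h1]; exact hp.tfa _ _ _
  by_cases h3 : i = l
  · rw [← h3, hp.fam.comm k i]; exact hp.tfa _ _ _
  by_cases h4 : j = k
  · rw [← h4, hp.fam.comm i j]; exact hp.tfa _ _ _
  by_cases h5 : j = l
  · rw [← h5, hp.fam.comm i j, hp.fam.comm k j]; exact hp.tfa _ _ _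
  by_cases h6 : i = j
  · rw [h6, hp.fam.diag, sh_zero, tf_zero_left]
  by_cases h7 : k = l
  · rw [h7, hp.fam.diag, tf_zero_right]
  have he : ∀ (g : ↥(alternatingGroup (Fin 8))) (i j k l : Fin 8),
      tf (sh (w ((g : Perm (Fin 8)) i) ((g : Perm (Fin 8)) j))) (w ((g : Perm (Fin 8)) k) ((g : Perm (Fin 8)) l)) =
        tf (sh (w i j)) (w k l) := by
    intro g i j k l
    rw [← hp.fam.act, ← hp.fam.act, hP.hsh, hP.symm.htf]
  have key := fun {i j k l : Fin 8} (h : [i, j, k, l].Nodup) =>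
    scal4 (e := fun i j k l => tf (sh (w i j)) (w k l)) he h
  have h8 := star_tf (star8 hpt hp.fam 2) (sh (w 0 1))
  rw [Fin.sum_univ_eight, hp.fam.comm 2 0, hp.tfa, hp.fam.comm 2 1, hp.fam.comm 0 1, hp.tfa, hp.fam.diag, tf_zero_right,
    hp.fam.comm 1 0, key (i := 0) (j := 1) (k := 2) (l := 4) (by decide), key (i := 0) (j := 1) (k := 2) (l := 5) (by decide),
    key (i := 0) (j := 1) (k := 2) (l := 6) (by decide), key (i := 0) (j := 1) (k := 2) (l := 7) (by decide)] at h8
  rw [key (i := i) (j := j) (k := k) (l := l) (by simp; (clear * - h1 h3 h4 h5 h6 h7; tauto))]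
  change tf (sh (w 0 1)) (w 2 3) = 0
  have h9 : (0 : F) + 0 + 0 + tf (sh (w 0 1)) (w 2 3) + tf (sh (w 0 1)) (w 2 3) + tf (sh (w 0 1)) (w 2 3) +
      tf (sh (w 0 1)) (w 2 3) + tf (sh (w 0 1)) (w 2 3) = (tf (sh (w 0 1)) (w 2 3) + tf (sh (w 0 1)) (w 2 3)) +
      (tf (sh (w 0 1)) (w 2 3) + tf (sh (w 0 1)) (w 2 3)) + tf (sh (w 0 1)) (w 2 3) := by ring
  rw [h9] at h8
  simpa only [hz, zero_add] using h8

theorem finrank20 (h2 : (2 : F) = 0) (hw : Fam2 σ w) (hZ : Z w 0 1 2 3 ≠ 0) :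
    20 ≤ finrank F (Submodule.span F (Set.range fun p : Fin 8 × Fin 8 => w p.1 p.2)) := by
  have hli := indep h2 (by norm_num) good8 hw (z0 := 0) (z1 := 1) (z2 := 2) (z3 := 3) rfl rfl rfl rfl hZ
  have h1 := finrank_span_eq_card hli
  rw [card_BP8] at h1
  rw [← h1]
  apply Submodule.finrank_mono
  apply Submodule.span_mono
  rintro _ ⟨p, rfl⟩
  exact ⟨p.1, rfl⟩

/-- the pair vectors are singular -/
theorem Pairs.sh0 (h2 : (2 : F) = 0) (hP : PD σ σ') (hpt : NoPt 7 σ) (hpt' : NoPt 7 σ') (h6' : NoSix σ')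
    (hp : Pairs σ σ' w) (i j : Fin 8) : sh (w i j) = 0 := by
  have hy : Fam2 σ' (fun i j => sh (w i j)) :=
    ⟨fun g i j => by rw [← hP.hsh, hp.fam.act], fun i j => by rw [hp.fam.comm], fun i => by rw [hp.fam.diag, sh_zero]⟩
  by_contra hne
  have hij : i ≠ j := by
    rintro rfl
    exact hne (by rw [hp.fam.diag, sh_zero])
  have h0 : sh (w 0 7) ≠ 0 := by
    intro h
    obtain ⟨g, g0, g1⟩ := move2 (n := 8) (by norm_num) (a := 0) (b := 7) (by decide) hij
    apply hne
    rw [← g0, ← g1, ← hp.fam.act, hP.hsh, h, map_zero]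
  have htri : ∀ {a b c : Fin 8}, a ≠ b → a ≠ c → b ≠ c → sh (w a b) + sh (w a c) + sh (w b c) = 0 := by
    intro a b c hab hac hbc
    by_cases hZ : Z w 0 1 2 3 = 0
    · have h1 := eq_of_add2 h2 (tri_of_Z h2 hpt.inv hp.fam hZ hab hac hbc)
      rw [← h1, sh_add, hp.adj, add_zero]
      exact add_self2 h2 _
    · by_cases hZ' : Z (fun i j => sh (w i j)) 0 1 2 3 = 0
      · exact tri_of_Z h2 hpt'.inv hy hZ' hab hac hbc
      · exfalso
        have h1 := finrank20 h2 hp.fam hZ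
        have h3 := finrank20 h2 hy hZ'
        have h4 := finrank_perp (Submodule.span F (Set.range fun p : Fin 8 × Fin 8 => w p.1 p.2))
        have h5 : Submodule.span F (Set.range fun p : Fin 8 × Fin 8 => sh (w p.1 p.2)) ≤
            perp (Submodule.span F (Set.range fun p : Fin 8 × Fin 8 => w p.1 p.2)) := by
          rw [Submodule.span_le]
          rintro _ ⟨p, rfl⟩
          rw [SetLike.mem_coe, perp_span]
          intro q
          rw [tf_comm]
          exact hp.tf_disj h2 hP hpt _ _ _ _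
        have h7 := Submodule.finrank_mono h5
        omega
  exact tri_kill h2 hpt' h6' hy h0 htri hp.sing hp.adj'

/-- a 4-cycle does not vanish -/
theorem Pairs.z_ne (h2 : (2 : F) = 0) (hP : PD σ σ') (hpt : NoPt 7 σ) (hpt' : NoPt 7 σ') (h6 : NoSix σ) (h6' : NoSix σ')
    (hp : Pairs σ σ' w) : Z w 0 1 2 3 ≠ 0 := fun hZ =>
  tri_kill h2 hpt h6 hp.fam hp.ne (fun h1 h3 h4 => tri_of_Z h2 hpt.inv hp.fam hZ h1 h3 h4)
    (hp.sh0 h2 hP hpt hpt' h6') hp.adj

/-- the products -/
def qq (w : Fin 8 → Fin 8 → I27 → F) (i j k l : Fin 8) : I27 → F := cr (w i j) (w k l)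

theorem Pairs.qq_act (hP : PD σ σ') (hp : Pairs σ σ' w) (g : ↥(alternatingGroup (Fin 8))) (i j k l : Fin 8) :
    σ' g (qq w i j k l) = qq w ((g : Perm (Fin 8)) i) ((g : Perm (Fin 8)) j) ((g : Perm (Fin 8)) k)
      ((g : Perm (Fin 8)) l) := by
  rw [qq, ← hP.hcr, hp.fam.act, hp.fam.act, qq]

theorem Pairs.qq12 (hp : Pairs σ σ' w) (i j k l : Fin 8) : qq w i j k l = qq w j i k l := by
  rw [qq, qq, hp.fam.comm i j]

theorem Pairs.qq34 (hp : Pairs σ σ' w) (i j k l : Fin 8) : qq w i j k l = qq w i j l k := by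
  rw [qq, qq, hp.fam.comm k l]

theorem qq_swap (i j k l : Fin 8) : qq w i j k l = qq w k l i j := cr_comm _ _

theorem Pairs.qq_zero (hp : Pairs σ σ' w) {i j k l : Fin 8} (h : ¬ [i, j, k, l].Nodup) : qq w i j k l = 0 := by
  by_cases h1 : i = j
  · rw [qq, h1, hp.fam.diag, cr_zero_left]
  by_cases h2 : k = l
  · rw [qq, h2, hp.fam.diag, cr_zero_right]
  by_cases h3 : i = k
  · rw [qq, h3]; exact hp.adj _ _ _
  by_cases h4 : i = l
  · rw [qq, h4, hp.fam.comm k l]; exact hp.adj _ _ _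
  by_cases h5 : j = k
  · rw [qq, h5, hp.fam.comm i k]; exact hp.adj _ _ _
  by_cases h6 : j = l
  · rw [qq, h6, hp.fam.comm i l, hp.fam.comm k l]; exact hp.adj _ _ _
  exfalso
  apply h
  simp
  tauto

/-- the trilinear form vanishes on the pair vectors -/
theorem Pairs.tri0 (h2 : (2 : F) = 0) (hP : PD σ σ') (hpt : NoPt 7 σ) (hp : Pairs σ σ' w) (i j k l m n : Fin 8) :
    tf (qq w i j k l) (w m n) = 0 := by
  have hz : ∀ y : F, y + y = 0 := fun y => by rw [← two_mul, h2, zero_mul]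
  have r1 : ∀ i j k l m n : Fin 8, ¬ [k, l, m, n].Nodup → tf (qq w i j k l) (w m n) = 0 := by
    intro i j k l m n h
    rw [qq, tf_cr]
    have := hp.qq_zero h
    rw [qq] at this
    rw [this, tf_zero_right]
  have r2 : ∀ i j k l m n : Fin 8, ¬ [i, j, m, n].Nodup → tf (qq w i j k l) (w m n) = 0 := by
    intro i j k l m n h
    rw [qq_swap]
    exact r1 _ _ _ _ _ _ h
  by_cases h1 : [k, l, m, n].Nodup
  swap
  · exact r1 _ _ _ _ _ _ h1
  by_cases h3 : [i, j, m, n].Nodup
  swap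
  · exact r2 _ _ _ _ _ _ h3
  by_cases h4 : [i, j, k, l].Nodup
  swap
  · rw [hp.qq_zero h4, tf_zero_left]
  have h5 : [i, j, k, l, m, n].Nodup := by
    simp only [_root_.List.nodup_cons, _root_.List.mem_cons, _root_.List.not_mem_nil, _root_.or_false, _root_.not_or, _root_.not_false_eq_true, _root_.List.nodup_nil, _root_.and_self, _root_.and_true] at h1 h3 h4 ⊢
    (clear * - h1 h3 h4; tauto)
  have act : ∀ (g : ↥(alternatingGroup (Fin 8))) (i j k l m n : Fin 8),
      tf (qq w ((g : Perm (Fin 8)) i) ((g : Perm (Fin 8)) j) ((g : Perm (Fin 8)) k) ((g : Perm (Fin 8)) l))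
        (w ((g : Perm (Fin 8)) m) ((g : Perm (Fin 8)) n)) = tf (qq w i j k l) (w m n) := by
    intro g i j k l m n
    rw [← hp.qq_act hP, ← hp.fam.act, hP.symm.htf]
  have key : ∀ {i j k l m n : Fin 8}, [i, j, k, l, m, n].Nodup → tf (qq w i j k l) (w m n) = tf (qq w 0 1 2 3) (w 4 5) := by
    intro i j k l m n h
    obtain ⟨g, hg⟩ := move_list (L := [0, 1, 2, 3, 4, 5]) (by decide) h rfl (by simp)
    simp only [List.map_cons, List.map_nil, List.cons.injEq, and_true] at hg
    rw [← hg.1, ← hg.2.1, ← hg.2.2.1, ← hg.2.2.2.1, ← hg.2.2.2.2.1, ← hg.2.2.2.2.2, act]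
  rw [key h5]
  have h8 := star_tf (star8 hpt hp.fam 4) (qq w 0 1 2 3)
  rw [Fin.sum_univ_eight, r2 0 1 2 3 4 0 (by decide), r2 0 1 2 3 4 1 (by decide), r1 0 1 2 3 4 2 (by decide),
    r1 0 1 2 3 4 3 (by decide), r1 0 1 2 3 4 4 (by decide), key (i := 0) (j := 1) (k := 2) (l := 3) (m := 4) (n := 6)
    (by decide), key (i := 0) (j := 1) (k := 2) (l := 3) (m := 4) (n := 7) (by decide)] at h8
  have h9 : (0 : F) + 0 + 0 + 0 + 0 + tf (qq w 0 1 2 3) (w 4 5) + tf (qq w 0 1 2 3) (w 4 5) + tf (qq w 0 1 2 3) (w 4 5) =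
      (tf (qq w 0 1 2 3) (w 4 5) + tf (qq w 0 1 2 3) (w 4 5)) + tf (qq w 0 1 2 3) (w 4 5) := by ring
  rw [h9] at h8
  simpa only [hz, zero_add] using h8

end

end Cfsg.Agent.H905.E6T
end

-- part: H905/E6T/EightCol
section
/-!
# S5927, characteristic 2, `A₈`: the products of disjoint pairs (helper905)

`Pairs.qq23` : the product `cr (w i j) (w k l)` depends only on the set `{i, j, k, l}`.
-/

set_option autoImplicit false
set_option linter.unusedSectionVars false
set_option linter.unusedSimpArgs false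
set_option linter.unusedTactic false
set_option linter.unusedVariables false

namespace Cfsg.Agent.H905.E6T

open Cfsg Cfsg.Lie Module Equiv
open Cfsg.Agent.ChevalleyStructure.E6Min.Tables
open Cfsg.Agent.H952.F4 (ev es sh cr tf tr1 u0 GenT)
open Cfsg.Agent.H952.F4.Jord Cfsg.Agent.H163.E6

universe u

variable {F : Type u} [Field F]

/-- relations between the members of some families -/
theorem fam_rel_aux {n : ℕ} {σ : Representation F ↥(alternatingGroup (Fin n)) (I27 → F)} (h2 : (2 : F) = 0) (hn : 5 ≤ n)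
    {κ : Type*} [Fintype κ]
    {v : κ → Fin n → I27 → F} (hv : ∀ k, Fam σ (v k)) {c : κ → Fin n → F} (hc : ∑ k, ∑ i, c k i • v k i = 0)
    {a b : Fin n} (hab : a ≠ b) : ∑ k, (c k a + c k b) • (v k a + v k b) = 0 := by
  classical
  obtain ⟨m, hm0, hm1⟩ := move2 (n := n) (by omega) (a := ⟨0, by omega⟩) (b := ⟨1, by omega⟩) (c := a) (d := b)
    (by simp) hab
  set d : Fin n := (m : Perm (Fin n)) ⟨2, by omega⟩ with hd
  set e : Fin n := (m : Perm (Fin n)) ⟨3, by omega⟩ with he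
  set f : Fin n := (m : Perm (Fin n)) ⟨4, by omega⟩ with hf
  have had : a ≠ d := by rw [← hm0, hd]; exact fun h => by simpa using (m : Perm (Fin n)).injective h
  have hae : a ≠ e := by rw [← hm0, he]; exact fun h => by simpa using (m : Perm (Fin n)).injective h
  have haf : a ≠ f := by rw [← hm0, hf]; exact fun h => by simpa using (m : Perm (Fin n)).injective h
  have hbd : b ≠ d := by rw [← hm1, hd]; exact fun h => by simpa using (m : Perm (Fin n)).injective h
  have hbe : b ≠ e := by rw [← hm1, he]; exact fun h => by simpa using (m : Perm (Fin n)).injective h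
  have hbf : b ≠ f := by rw [← hm1, hf]; exact fun h => by simpa using (m : Perm (Fin n)).injective h
  have hde : d ≠ e := by rw [hd, he]; exact fun h => by simpa using (m : Perm (Fin n)).injective h
  have hdf : d ≠ f := by rw [hd, hf]; exact fun h => by simpa using (m : Perm (Fin n)).injective h
  have hef : e ≠ f := by rw [he, hf]; exact fun h => by simpa using (m : Perm (Fin n)).injective h
  clear_value d e f
  let t : ↥(alternatingGroup (Fin n)) := ⟨swap d e * swap e f, by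
    rw [Perm.mem_alternatingGroup, Perm.sign_mul, Perm.sign_swap hde, Perm.sign_swap hef]; rfl⟩
  let g : ↥(alternatingGroup (Fin n)) := ⟨swap a b * swap d e, by
    rw [Perm.mem_alternatingGroup, Perm.sign_mul, Perm.sign_swap hab, Perm.sign_swap hde]; rfl⟩
  have ht : ∀ x, (t : Perm (Fin n)) x = swap d e (swap e f x) := fun x => rfl
  have hg : ∀ x, (g : Perm (Fin n)) x = swap a b (swap d e x) := fun x => rfl
  have tn : ∀ x, x ≠ d → x ≠ e → x ≠ f → (t : Perm (Fin n)) x = x := by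
    intro x h1 h2 h3
    rw [ht, swap_apply_of_ne_of_ne h2 h3, swap_apply_of_ne_of_ne h1 h2]
  have td : (t : Perm (Fin n)) d = e := by
    rw [ht, swap_apply_of_ne_of_ne hde hdf, swap_apply_left]
  have te : (t : Perm (Fin n)) e = f := by
    rw [ht, swap_apply_left, swap_apply_of_ne_of_ne hdf.symm hef.symm]
  have tf' : (t : Perm (Fin n)) f = d := by
    rw [ht, swap_apply_right, swap_apply_right]
  have gn : ∀ x, x ≠ a → x ≠ b → x ≠ d → x ≠ e → (g : Perm (Fin n)) x = x := by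
    intro x h1 h2 h3 h4
    rw [hg, swap_apply_of_ne_of_ne h3 h4, swap_apply_of_ne_of_ne h1 h2]
  have ga : (g : Perm (Fin n)) a = b := by
    rw [hg, swap_apply_of_ne_of_ne had hae, swap_apply_left]
  have gb : (g : Perm (Fin n)) b = a := by
    rw [hg, swap_apply_of_ne_of_ne hbd hbe, swap_apply_right]
  have gd : (g : Perm (Fin n)) d = e := by
    rw [hg, swap_apply_left, swap_apply_of_ne_of_ne hae.symm hbe.symm]
  have ge : (g : Perm (Fin n)) e = d := by
    rw [hg, swap_apply_right, swap_apply_of_ne_of_ne had.symm hbd.symm]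
  have gf : (g : Perm (Fin n)) f = f := gn f haf.symm hbf.symm hdf.symm hef.symm
  let T : (I27 → F) →ₗ[F] (I27 → F) := σ 1 + σ t + σ (t * t) + σ g + σ (g * t) + σ (g * t * t)
  have hT : ∀ (u : Fin n → I27 → F), Fam σ u → ∀ x, T (u x) = u x + u ((t : Perm (Fin n)) x) +
      u ((t : Perm (Fin n)) ((t : Perm (Fin n)) x)) + u ((g : Perm (Fin n)) x) +
      u ((g : Perm (Fin n)) ((t : Perm (Fin n)) x)) +
      u ((g : Perm (Fin n)) ((t : Perm (Fin n)) ((t : Perm (Fin n)) x))) := by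
    intro u hu x
    simp only [T, LinearMap.add_apply]
    rw [hu 1 x, hu t x, hu (t * t) x, hu g x, hu (g * t) x, hu (g * t * t) x]
    rfl
  have hz : ∀ y : I27 → F, y + y = 0 := fun y => add_self2 h2 y
  have hT0 : ∀ (u : Fin n → I27 → F), Fam σ u → ∀ x, T (u x) = if x = a ∨ x = b then u a + u b else 0 := by
    intro u hu x
    rw [hT u hu]
    by_cases hxa : x = a
    · subst hxa
      rw [if_pos (Or.inl rfl), tn _ had hae haf, tn _ had hae haf, ga]
      have : u x + u x + u x + u b + u b + u b = (u x + u b) + (u x + u x) + (u b + u b) := by abel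
      rw [this]; simp only [hz, add_zero]
    by_cases hxb : x = b
    · subst hxb
      rw [if_pos (Or.inr rfl), tn _ hbd hbe hbf, tn _ hbd hbe hbf, gb]
      have : u x + u x + u x + u a + u a + u a = (u a + u x) + (u x + u x) + (u a + u a) := by abel
      rw [this]; simp only [hz, add_zero]
    rw [if_neg (by (clear * - hxa hxb; tauto))]
    by_cases hxd : x = d
    · subst hxd
      rw [td, te, gd, ge, gf]
      have : u x + u e + u f + u e + u x + u f = (u x + u x) + (u e + u e) + (u f + u f) := by abel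
      rw [this]; simp only [hz, add_zero]
    by_cases hxe : x = e
    · subst hxe
      rw [te, tf', ge, gf, gd]
      have : u x + u f + u d + u d + u f + u x = (u x + u x) + (u f + u f) + (u d + u d) := by abel
      rw [this]; simp only [hz, add_zero]
    by_cases hxf : x = f
    · subst hxf
      rw [tf', td, gf, gd, ge]
      have : u x + u d + u e + u x + u e + u d = (u x + u x) + (u e + u e) + (u d + u d) := by abel
      rw [this]; simp only [hz, add_zero]
    rw [tn x hxd hxe hxf, tn x hxd hxe hxf, gn x hxa hxb hxd hxe]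
    have : u x + u x + u x + u x + u x + u x = (u x + u x) + (u x + u x) + (u x + u x) := by abel
    rw [this]; simp only [hz, add_zero]
  · have h4 := congrArg T hc
    rw [map_sum, map_zero] at h4
    rw [← h4]
    apply Finset.sum_congr rfl
    intro k _
    rw [map_sum]
    have h5 : ∀ x ∈ Finset.univ, T (c k x • v k x) = (if x = a then c k a • (v k a + v k b) else 0) +
        (if x = b then c k b • (v k a + v k b) else 0) := by
      intro x _
      rw [map_smul, hT0 (v k) (hv k)]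
      by_cases hxa : x = a
      · subst hxa
        simp [hab]
      by_cases hxb : x = b
      · subst hxb
        simp [hxa]
      · simp [hxa, hxb]
    rw [Finset.sum_congr rfl h5, Finset.sum_add_distrib, Finset.sum_ite_eq', Finset.sum_ite_eq',
      if_pos (Finset.mem_univ _), if_pos (Finset.mem_univ _), add_smul]

section

variable {σ σ' : Representation F ↥(alternatingGroup (Fin 8)) (I27 → F)} {w : Fin 8 → Fin 8 → I27 → F}

/-- the first family -/
def mv (w : Fin 8 → Fin 8 → I27 → F) (k : Fin 8) : I27 → F := qq w 5 6 7 k + qq w 5 7 6 k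

/-- the second family -/
def yv (w : Fin 8 → Fin 8 → I27 → F) (k : Fin 8) : I27 → F := qq w 6 7 5 k + qq w 6 5 7 k

theorem Pairs.mem_perp (h2 : (2 : F) = 0) (hP : PD σ σ') (hpt : NoPt 7 σ) (hp : Pairs σ σ' w) (i j k l : Fin 8) :
    qq w i j k l ∈ perp (Submodule.span F (Set.range fun p : Fin 8 × Fin 8 => w p.1 p.2)) := by
  rw [perp_span]
  intro p
  rw [tf_comm]
  exact hp.tri0 h2 hP hpt _ _ _ _ _ _

theorem Pairs.perp_le (h2 : (2 : F) = 0) (hP : PD σ σ') (hpt : NoPt 7 σ) (hpt' : NoPt 7 σ') (h6 : NoSix σ) (h6' : NoSix σ')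
    (hp : Pairs σ σ' w) :
    finrank F (perp (Submodule.span F (Set.range fun p : Fin 8 × Fin 8 => w p.1 p.2))) ≤ 7 := by
  have h1 := finrank20 h2 hp.fam (hp.z_ne h2 hP hpt hpt' h6 h6')
  have h3 := finrank_perp (Submodule.span F (Set.range fun p : Fin 8 × Fin 8 => w p.1 p.2))
  omega

/-- the first step -/
theorem Pairs.step (h2 : (2 : F) = 0) (hP : PD σ σ') (hpt : NoPt 7 σ) (hpt' : NoPt 7 σ') (h6 : NoSix σ) (h6' : NoSix σ')
    (hp : Pairs σ σ' w) : ∃ k : Fin 8, k.val < 4 ∧ mv w k = mv w 4 := by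
  have hz : ∀ y : I27 → F, y + y = 0 := fun y => add_self2 h2 y
  have h58 : 5 ≤ 8 := by norm_num
  let v : Fin 2 → Fin 5 → I27 → F := ![fun k => mv w (Fin.castLE h58 k), fun k => yv w (Fin.castLE h58 k)]
  have hv : ∀ κ, Fam (res h58 σ') (v κ) := by
    intro κ g k
    have e5 : ((io h58 g : ↥(alternatingGroup (Fin 8))) : Perm (Fin 8)) 5 = 5 := io_apply_ge _ g 5 (by decide)
    have e6 : ((io h58 g : ↥(alternatingGroup (Fin 8))) : Perm (Fin 8)) 6 = 6 := io_apply_ge _ g 6 (by decide)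
    have e7 : ((io h58 g : ↥(alternatingGroup (Fin 8))) : Perm (Fin 8)) 7 = 7 := io_apply_ge _ g 7 (by decide)
    have ek := io_apply h58 g k
    fin_cases κ
    · change σ' (io h58 g) (qq w 5 6 7 _ + qq w 5 7 6 _) = qq w 5 6 7 _ + qq w 5 7 6 _
      rw [map_add, hp.qq_act hP, hp.qq_act hP, e5, e6, e7, ek]
    · change σ' (io h58 g) (qq w 6 7 5 _ + qq w 6 5 7 _) = qq w 6 7 5 _ + qq w 6 5 7 _
      rw [map_add, hp.qq_act hP, hp.qq_act hP, e5, e6, e7, ek]
  set Y := perp (Submodule.span F (Set.range fun p : Fin 8 × Fin 8 => w p.1 p.2)) with hY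
  have hvY : ∀ κ k, v κ k ∈ Y := by
    intro κ k
    fin_cases κ
    · exact Submodule.add_mem _ (hp.mem_perp h2 hP hpt _ _ _ _) (hp.mem_perp h2 hP hpt _ _ _ _)
    · exact Submodule.add_mem _ (hp.mem_perp h2 hP hpt _ _ _ _) (hp.mem_perp h2 hP hpt _ _ _ _)
  have hdep : ¬ LinearIndependent F (fun p : Fin 2 × Fin 4 => v p.1 p.2.castSucc) := by
    intro hli
    have h1 := finrank_span_eq_card hli
    rw [Fintype.card_prod, Fintype.card_fin, Fintype.card_fin] at h1
    have h3 : Submodule.span F (Set.range fun p : Fin 2 × Fin 4 => v p.1 p.2.castSucc) ≤ Y := by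
      rw [Submodule.span_le]
      rintro _ ⟨p, rfl⟩
      exact hvY _ _
    have h4 := Submodule.finrank_mono h3
    have h5 := hp.perp_le h2 hP hpt hpt' h6 h6'
    rw [← hY] at h5
    omega
  obtain ⟨c, hc, ⟨κ, k⟩, hck⟩ := Fintype.not_linearIndependent_iff.1 hdep
  have hc' : ∑ κ, ∑ i, (Fin.snoc (α := fun _ => F) (fun i : Fin 4 => c (κ, i)) 0 : Fin 5 → F) i • v κ i = 0 := by
    rw [← hc, Fintype.sum_prod_type]
    apply Finset.sum_congr rfl
    intro κ _
    rw [Fin.sum_univ_castSucc, Fin.snoc_last, zero_smul, add_zero]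
    apply Finset.sum_congr rfl
    intro i _
    rw [Fin.snoc_castSucc]
  have h3 := fam_rel_aux h2 (le_refl 5) hv hc' (a := k.castSucc) (b := Fin.last 4) (Fin.castSucc_lt_last k).ne
  rw [Fin.sum_univ_two, Fin.snoc_castSucc, Fin.snoc_last, Fin.snoc_castSucc, Fin.snoc_last, add_zero, add_zero] at h3
  obtain ⟨K, hK⟩ : ∃ K : Fin 8, K = Fin.castLE h58 k.castSucc := ⟨_, rfl⟩
  have hK4 : K.val < 4 := by rw [hK]; exact k.2
  have e1 : v 0 k.castSucc + v 0 (Fin.last 4) = mv w K + mv w 4 := by rw [hK]; rfl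
  have e2 : v 1 k.castSucc + v 1 (Fin.last 4) = yv w K + yv w 4 := by rw [hK]; rfl
  rw [e1, e2] at h3
  -- the element of order 2
  obtain ⟨a, b, hab, ha, hb, hKa, hKb⟩ : ∃ a b : Fin 8, a ≠ b ∧ a.val < 4 ∧ b.val < 4 ∧ K ≠ a ∧ K ≠ b := by
    clear hK e1 e2 h3
    revert K
    decide
  let t : ↥(alternatingGroup (Fin 8)) := ⟨swap (6 : Fin 8) 7 * swap a b, by
    rw [Perm.mem_alternatingGroup, Perm.sign_mul, Perm.sign_swap hab, Perm.sign_swap (by decide)]; rfl⟩
  have ne : ∀ {x y : Fin 8}, x.val ≠ y.val → x ≠ y := fun h h' => h (congrArg Fin.val h')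
  have ht : ∀ x, (t : Perm (Fin 8)) x = swap (6 : Fin 8) 7 (swap a b x) := fun x => rfl
  have t5 : (t : Perm (Fin 8)) 5 = 5 := by
    rw [ht, swap_apply_of_ne_of_ne (a := a) (ne (by change 5 ≠ a.val; omega)) (ne (by change 5 ≠ b.val; omega))]
    decide
  have t6 : (t : Perm (Fin 8)) 6 = 7 := by
    rw [ht, swap_apply_of_ne_of_ne (a := a) (ne (by change 6 ≠ a.val; omega)) (ne (by change 6 ≠ b.val; omega))]
    decide
  have t7 : (t : Perm (Fin 8)) 7 = 6 := by
    rw [ht, swap_apply_of_ne_of_ne (a := a) (ne (by change 7 ≠ a.val; omega)) (ne (by change 7 ≠ b.val; omega))]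
    decide
  have t4 : (t : Perm (Fin 8)) 4 = 4 := by
    rw [ht, swap_apply_of_ne_of_ne (a := a) (ne (by change 4 ≠ a.val; omega)) (ne (by change 4 ≠ b.val; omega))]
    decide
  have tK : (t : Perm (Fin 8)) K = K := by
    rw [ht, swap_apply_of_ne_of_ne hKa hKb, swap_apply_of_ne_of_ne (ne (by change K.val ≠ 6; omega))
      (ne (by change K.val ≠ 7; omega))]
  have tm : ∀ k, (t : Perm (Fin 8)) k = k → σ' t (mv w k) = mv w k := by
    intro k hk
    rw [mv, map_add, hp.qq_act hP, hp.qq_act hP, t5, t6, t7, hk, add_comm]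
  have ty : ∀ k, (t : Perm (Fin 8)) k = k → σ' t (yv w k) = mv w k + yv w k := by
    intro k hk
    rw [yv, mv, map_add, hp.qq_act hP, hp.qq_act hP, t5, t6, t7, hk, hp.qq12 7 6 5 k, hp.qq12 7 5 6 k, hp.qq12 6 5 7 k]
    have : qq w 5 6 7 k + qq w 5 7 6 k + (qq w 6 7 5 k + qq w 5 6 7 k) = (qq w 6 7 5 k + qq w 5 7 6 k) +
      (qq w 5 6 7 k + qq w 5 6 7 k) := by abel
    rw [this, hz, add_zero]
  have h4 := congrArg (σ' t) h3
  rw [map_add, map_smul, map_smul, map_add, map_add, tm K tK, tm 4 t4, ty K tK, ty 4 t4, map_zero] at h4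
  have h5 : c (1, k) • (mv w K + mv w 4) = 0 := by
    have h7 : c (0, k) • (mv w K + mv w 4) + c (1, k) • (mv w K + yv w K + (mv w 4 + yv w 4)) =
        (c (0, k) • (mv w K + mv w 4) + c (1, k) • (yv w K + yv w 4)) + c (1, k) • (mv w K + mv w 4) := by module
    rw [h7, h3, zero_add] at h4
    exact h4
  refine ⟨K, hK4, eq_of_add2 h2 ?_⟩
  by_cases h1 : c (1, k) = 0
  · rw [h1, zero_smul, add_zero] at h3
    refine (smul_eq_zero.1 h3).resolve_left ?_
    fin_cases κ
    · exact hck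
    · exact fun _ => hck h1
  · exact (smul_eq_zero.1 h5).resolve_left h1

/-- the product depends only on the set -/
theorem Pairs.qq23 (h2 : (2 : F) = 0) (hP : PD σ σ') (hpt : NoPt 7 σ) (hpt' : NoPt 7 σ') (h6 : NoSix σ) (h6' : NoSix σ')
    (hp : Pairs σ σ' w) (i j k l : Fin 8) : qq w i j k l = qq w i k j l := by
  obtain ⟨K, hK, hm⟩ := hp.step h2 hP hpt hpt' h6 h6'
  have key : ∀ {i k l a b : Fin 8}, [i, k, l, a, b].Nodup →
      qq w i k l a + qq w i l k a = qq w i k l b + qq w i l k b := by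
    intro i k l a b h
    obtain ⟨g, hg⟩ := move_list (L := [5, 6, 7, K, 4]) (by
      revert hK; clear hm; revert K; decide) h rfl (by simp)
    simp only [List.map_cons, List.map_nil, List.cons.injEq, and_true] at hg
    have h1 := congrArg (σ' g) hm
    rw [mv, mv, map_add, map_add, hp.qq_act hP, hp.qq_act hP, hp.qq_act hP, hp.qq_act hP, hg.1, hg.2.1, hg.2.2.1,
      hg.2.2.2.1, hg.2.2.2.2] at h1
    exact h1
  have e1 := key (i := 0) (k := 2) (l := 3) (a := 1) (b := 4) (by decide)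
  have e2 := key (i := 3) (k := 0) (l := 4) (a := 2) (b := 1) (by decide)
  have e3 := key (i := 0) (k := 1) (l := 3) (a := 4) (b := 2) (by decide)
  have f2 : qq w 3 0 4 2 + qq w 3 4 0 2 = qq w 0 2 3 4 + qq w 0 3 2 4 := by
    rw [hp.qq12 3 0 4 2, hp.qq34 0 3 4 2, qq_swap 3 4 0 2, add_comm]
  have f3 : qq w 3 0 4 1 + qq w 3 4 0 1 = qq w 0 1 3 4 + qq w 0 3 1 4 := by
    rw [hp.qq12 3 0 4 1, hp.qq34 0 3 4 1, qq_swap 3 4 0 1, add_comm]
  have h3 : qq w 0 2 1 3 = qq w 0 1 2 3 := by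
    have h4 : qq w 0 2 3 1 + qq w 0 3 2 1 = qq w 0 1 3 2 + qq w 0 3 1 2 := by
      rw [e1, ← f2, e2, f3, e3]
    rw [hp.qq34 0 3 2 1] at h4
    rw [hp.qq34 0 2 1 3, hp.qq34 0 1 2 3]
    exact add_right_cancel h4
  by_cases h : [i, j, k, l].Nodup
  · obtain ⟨g, hg⟩ := move_list (L := [0, 1, 2, 3]) (by decide) h rfl (by simp)
    simp only [List.map_cons, List.map_nil, List.cons.injEq, and_true] at hg
    have h1 := congrArg (σ' g) h3
    rw [hp.qq_act hP, hp.qq_act hP, hg.1, hg.2.1, hg.2.2.1, hg.2.2.2] at h1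
    exact h1.symm
  · rw [hp.qq_zero h, hp.qq_zero]
    intro h'
    apply h
    simp at h' ⊢
    (clear * - h'; tauto)

end

end Cfsg.Agent.H905.E6T
end

-- part: H905/E6T/EightFin
section
/-!
# S5927, characteristic 2, `A₈`: the end of the case without `A₇`-fixed vectors (helper905)

The product of the pair vectors is a function on the 4-subsets; the sum over the 4-subsets of a 5-subset vanishes, so the
triangles span a totally singular subspace of dimension at least 14: contradiction (`Pairs.false`).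
-/

set_option autoImplicit false
set_option linter.unusedSectionVars false
set_option linter.unusedSimpArgs false
set_option linter.unusedTactic false
set_option linter.unusedVariables false

namespace Cfsg.Agent.H905.E6T

open Cfsg Cfsg.Lie Module Equiv
open Cfsg.Agent.ChevalleyStructure.E6Min.Tables
open Cfsg.Agent.H952.F4 (ev es sh cr tf tr1 u0 GenT)
open Cfsg.Agent.H952.F4.Jord Cfsg.Agent.H163.E6

universe u

variable {F : Type u} [Field F]

/-- a sum in which all codes `≠ 0` occur an even number of times is zero -/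
theorem par_xor (h2 : (2 : F) = 0) {ι M : Type*} [AddCommGroup M] [Module F M] (code : ι → ℕ) (N : ℕ) (f : ι → M)
    (hf : ∀ x y, code x = code y → f x = f y) (h0 : ∀ x, code x = 0 → f x = 0) (hN : ∀ x, code x < N) (L : List ι)
    (hL : L.foldr (fun x a => a ^^^ 2 ^ code x) 0 ≤ 1) : (L.map f).sum = 0 := by
  classical
  have hz : ∀ y : M, y + y = 0 := fun y => add_self2 h2 y
  let r : ℕ → M := fun k => if h : ∃ x, code x = k then f h.choose else 0
  have hr : ∀ x, r (code x) = f x := by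
    intro x
    have h : ∃ y, code y = code x := ⟨x, rfl⟩
    simp only [r, dif_pos h]
    exact hf _ _ h.choose_spec
  have key : ∀ L : List ι, (L.map f).sum = ∑ k ∈ Finset.range N,
      if (L.foldr (fun x a => a ^^^ 2 ^ code x) 0).testBit k = true then r k else 0 := by
    intro L
    induction L with
    | nil => simp
    | cons x L ih =>
      rw [List.map_cons, List.sum_cons, ih, List.foldr_cons]
      have h1 : ∀ k ∈ Finset.range N,
          (if ((L.foldr (fun x a => a ^^^ 2 ^ code x) 0) ^^^ 2 ^ code x).testBit k = true then r k else 0) =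
          (if k = code x then r k else 0) +
            (if (L.foldr (fun x a => a ^^^ 2 ^ code x) 0).testBit k = true then r k else 0) := by
        intro k _
        rw [Nat.testBit_xor, Nat.testBit_two_pow]
        by_cases h : k = code x
        · cases (L.foldr (fun x a => a ^^^ 2 ^ code x) 0).testBit k
          · simp [h]
          · simp [h, hz]
        · have h' : ¬ code x = k := fun e => h e.symm
          simp [h, h']
      rw [Finset.sum_congr rfl h1, Finset.sum_add_distrib, Finset.sum_ite_eq', if_pos (Finset.mem_range.2 (hN x)), hr]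
  rw [key]
  apply Finset.sum_eq_zero
  intro k hk
  rcases Nat.eq_zero_or_pos k with rfl | hk0
  · have : r 0 = 0 := by
      by_cases h : ∃ x, code x = 0
      · simp only [r, dif_pos h]
        exact h0 _ h.choose_spec
      · simp only [r, dif_neg h]
    rw [this, ite_self]
  · rw [if_neg]
    rw [Nat.testBit_lt_two_pow]
    · exact Bool.false_ne_true
    · have : 2 ^ 1 ≤ 2 ^ k := Nat.pow_le_pow_right (by norm_num) hk0
      omega

/-! ### quadruples of points -/

abbrev Q4 : Type := Fin 8 × Fin 8 × Fin 8 × Fin 8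

def cs1 (x : Q4) : Q4 := if x.1 ≤ x.2.1 then x else (x.2.1, x.1, x.2.2.1, x.2.2.2)
def cs2 (x : Q4) : Q4 := if x.2.1 ≤ x.2.2.1 then x else (x.1, x.2.2.1, x.2.1, x.2.2.2)
def cs3 (x : Q4) : Q4 := if x.2.2.1 ≤ x.2.2.2 then x else (x.1, x.2.1, x.2.2.2, x.2.2.1)

/-- sorting -/
def net (x : Q4) : Q4 := cs1 (cs2 (cs1 (cs3 (cs2 (cs1 x)))))

def enc (x : Q4) : ℕ := ((x.1.val * 8 + x.2.1.val) * 8 + x.2.2.1.val) * 8 + x.2.2.2.val

theorem enc_inj {x y : Q4} (h : enc x = enc y) : x = y := by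
  obtain ⟨a, b, c, d⟩ := x
  obtain ⟨a', b', c', d'⟩ := y
  unfold enc at h
  simp only at h
  have := a.2; have := b.2; have := c.2; have := d.2
  have := a'.2; have := b'.2; have := c'.2; have := d'.2
  simp only [Prod.mk.injEq, Fin.ext_iff]
  omega

/-- the code of a quadruple -/
def cd (x : Q4) : ℕ := if [x.1, x.2.1, x.2.2.1, x.2.2.2].Nodup then enc (net x) + 1 else 0

theorem cd_lt (x : Q4) : cd x < 4097 := by
  unfold cd
  split_ifs
  · obtain ⟨a, b, c, d⟩ := net x
    unfold enc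
    simp only
    have := a.2; have := b.2; have := c.2; have := d.2
    omega
  · norm_num

/-- the pairs `i < j` -/
def PL : List (Fin 8 × Fin 8) := (List.finRange 8).flatMap fun i => (List.finRange 8).filterMap fun j =>
  if i < j then some (i, j) else none

/-- the quadruples `i < j < k < l` -/
def TL : List Q4 := PL.flatMap fun p => PL.filterMap fun q => if p.2 < q.1 then some (p.1, p.2, q.1, q.2) else none

def gact (k : Fin 8) (x : Q4) : Q4 :=
  ((swap (0 : Fin 8) 1 * swap 0 k : Perm (Fin 8)) x.1, (swap (0 : Fin 8) 1 * swap 0 k : Perm (Fin 8)) x.2.1,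
    (swap (0 : Fin 8) 1 * swap 0 k : Perm (Fin 8)) x.2.2.1, (swap (0 : Fin 8) 1 * swap 0 k : Perm (Fin 8)) x.2.2.2)

def xorL (L : List Q4) : ℕ := L.foldr (fun x a => a ^^^ 2 ^ cd x) 0

private noncomputable def _root_.Cfsg.Agent.KOa007329.k0 : type_of% @Decidable.decide := @(fun x0 x1 => @Decidable.rec.{1} _ @(fun x2 => @Bool) @(fun x2 => @Bool.false) @(fun x2 => @Bool.true) @x1)
private theorem _root_.Cfsg.Agent.KOa007329.e0 : @Decidable.decide = @_root_.Cfsg.Agent.KOa007329.k0 := by delta _root_.Cfsg.Agent.KOa007329.k0; rfl'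
private noncomputable def _root_.Cfsg.Agent.KOa007329.k1l (n : Nat) (P : ∀ k, k < n → Prop) (H : ∀ k h, Decidable (P k h)) (m : Nat) : m ≤ n → Bool := @Nat.rec (fun m => m ≤ n → Bool) (fun _ => true) (fun k ih h => @Decidable.rec (P k h) (fun _ => Bool) (fun _ => false) (fun _ => ih (Nat.le_of_succ_le h)) (H k h)) m
private theorem _root_.Cfsg.Agent.KOa007329.k1ls (n : Nat) (P : ∀ k, k < n → Prop) (H : ∀ k h, Decidable (P k h)) (m : Nat) : ∀ h : m ≤ n, _root_.Cfsg.Agent.KOa007329.k1l n P H m h = true ↔ ∀ k (g : k < m), P k (Nat.lt_of_lt_of_le g h) := by induction m with | zero => exact fun _ => ⟨fun _ _ g => absurd g (Nat.not_lt_zero _), fun _ => rfl⟩ | succ m ih => intro h; show @Decidable.rec (P m h) (fun _ => Bool) (fun _ => false) (fun _ => _root_.Cfsg.Agent.KOa007329.k1l n P H m (Nat.le_of_succ_le h)) (H m h) = true ↔ _; cases H m h with | isFalse q => exact ⟨fun g => absurd g Bool.false_ne_true, fun g => absurd (g m (Nat.lt_succ_self m)) q⟩ |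 isTrue q => exact ⟨fun g k hk => (Nat.lt_succ_iff_lt_or_eq.1 hk).elim ((ih _).1 g k) fun e => by subst e; exact q, fun g => (ih _).2 fun k hk => g k (Nat.lt_succ_of_lt hk)⟩
private noncomputable def _root_.Cfsg.Agent.KOa007329.k1 (n : Nat) (P : ∀ k, k < n → Prop) (H : ∀ k h, Decidable (P k h)) : Decidable (∀ k h, P k h) := @Bool.rec (fun b => _root_.Cfsg.Agent.KOa007329.k1l n P H n (Nat.le_refl n) = b → Decidable (∀ k h, P k h)) (fun g => isFalse fun q => Bool.false_ne_true (g.symm.trans ((_root_.Cfsg.Agent.KOa007329.k1ls n P H n _).2 fun k h => q k h))) (fun g => isTrue fun k h => (_root_.Cfsg.Agent.KOa007329.k1ls n P H n _).1 g k h) (_root_.Cfsg.Agent.KOa007329.k1l n P H n (Nat.le_refl n)) rfl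
private theorem _root_.Cfsg.Agent.KOa007329.e1 : @Nat.decidableBallLT = @_root_.Cfsg.Agent.KOa007329.k1 := funext fun _ => funext fun _ => funext fun _ => Subsingleton.elim _ _
private noncomputable def _root_.Cfsg.Agent.KOa007329.k2 : type_of% @Nat.decidableForallFin := @(fun x0 x1 x2 => @Decidable.rec.{1} _ @(fun x3 => @Decidable ((x4 : @Fin @x0) → @x1 @x4)) @(fun x3 => @Decidable.isFalse _ (@decidable_of_decidable_of_iff._proof_1 _ _ (@Nat.decidableForallFin._proof_1 _ @x1) @x3)) @(fun x3 => @Decidable.isTrue _ (@Iff.mp _ _ (@Nat.decidableForallFin._proof_1 _ @x1) @x3)) (@Cfsg.Agent.KOa007329.k1 @x0 @(fun x3 x4 => @x1 (@Fin.mk _ @x3 @x4)) @(fun x3 x4 => @x2 (@Fin.mk _ @x3 @x4))))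
private theorem _root_.Cfsg.Agent.KOa007329.e2 : @Nat.decidableForallFin = @_root_.Cfsg.Agent.KOa007329.k2 := by delta _root_.Cfsg.Agent.KOa007329.k2; rewrite [← Cfsg.Agent.KOa007329.e1]; rfl'
private noncomputable def _root_.Cfsg.Agent.KOa007329.k3 : type_of% @forall_prop_decidable := @(fun x0 x1 x2 x3 => @Decidable.rec.{1} _ @(fun x4 => @Decidable ((x5 : @x0) → @x1 @x5)) @(fun x4 => @Decidable.isTrue _ (@forall_prop_decidable._proof_2 _ @x1 @x4)) @(fun x4 => @Decidable.rec.{1} _ @(fun x5 => @Decidable ((x6 : @x0) → @x1 @x6)) @(fun x5 => @Decidable.isFalse _ (@decidable_of_decidable_of_iff._proof_1 _ _ (@forall_prop_decidable._proof_1 _ @x1 @x4) @x5)) @(fun x5 => @Decidable.isTrue _ (@Iff.mp _ _ (@forall_prop_decidable._proof_1 _ @x1 @x4) @x5)) (@x3 @x4)) @x2)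
private theorem _root_.Cfsg.Agent.KOa007329.e3 : @forall_prop_decidable = @_root_.Cfsg.Agent.KOa007329.k3 := by delta _root_.Cfsg.Agent.KOa007329.k3; rfl'
private noncomputable def _root_.Cfsg.Agent.KOa007329.k4 : type_of% @instDecidableNot := @(fun x0 x1 => @Decidable.rec.{1} _ @(fun x2 => @Decidable (¬ @x0)) @(fun x2 => @Decidable.isTrue _ @x2) @(fun x2 => @Decidable.isFalse _ (@absurd.{0} _ _ @x2)) @x1)
private theorem _root_.Cfsg.Agent.KOa007329.e4 : @instDecidableNot = @_root_.Cfsg.Agent.KOa007329.k4 := by delta _root_.Cfsg.Agent.KOa007329.k4; rfl'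
private noncomputable def _root_.Cfsg.Agent.KOa007329.k5 : type_of% @Nat.decEq := @(fun x0 x1 => @Bool.rec.{1} @(fun x2 => (@Eq.{1} _ (@Nat.beq @x0 @x1) @x2) → @Decidable (@Eq.{1} _ @x0 @x1)) @(fun x2 => @Decidable.isFalse _ (@Nat.ne_of_beq_eq_false _ _ @x2)) @(fun x2 => @Decidable.isTrue _ (@Nat.eq_of_beq_eq_true _ _ @x2)) (@Nat.beq @x0 @x1) (@Eq.refl.{1} _ (@Nat.beq @x0 @x1)))
private theorem _root_.Cfsg.Agent.KOa007329.e5 : @Nat.decEq = @_root_.Cfsg.Agent.KOa007329.k5 := by delta _root_.Cfsg.Agent.KOa007329.k5; rfl'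
private noncomputable def _root_.Cfsg.Agent.KOa007329.k6 : type_of% @instDecidableEqFin := @(fun x0 x1 x2 => @Decidable.rec.{1} _ @(fun x3 => @Decidable (@Eq.{1} _ @x1 @x2)) @(fun x3 => @Decidable.isFalse _ (@instDecidableEqFin._proof_1 @x0 @x1 @x2 @x3)) @(fun x3 => @Decidable.isTrue _ (@Fin.eq_of_val_eq _ _ _ @x3)) (@Cfsg.Agent.KOa007329.k5 (@Fin.val _ @x1) (@Fin.val _ @x2)))
private theorem _root_.Cfsg.Agent.KOa007329.e6 : @instDecidableEqFin = @_root_.Cfsg.Agent.KOa007329.k6 := by delta _root_.Cfsg.Agent.KOa007329.k6; rewrite [← Cfsg.Agent.KOa007329.e5]; rfl'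
private noncomputable def _root_.Cfsg.Agent.KOa007329.k7 : type_of% @Bool.decEq := @(fun x0 x1 => @Bool.rec.{1} @(fun x2 => @Decidable (@Eq.{1} _ @x2 @x1)) (@Bool.rec.{1} @(fun x2 => @Decidable (@Eq.{1} _ @Bool.false @x2)) (@Decidable.isTrue _ (@rfl.{1} _ _)) (@Decidable.isFalse _ @(fun x2 => @Bool.noConfusion.{0} _ _ _ @x2)) @x1) (@Bool.rec.{1} @(fun x2 => @Decidable (@Eq.{1} _ @Bool.true @x2)) (@Decidable.isFalse _ @(fun x2 => @Bool.noConfusion.{0} _ _ _ @x2)) (@Decidable.isTrue _ (@rfl.{1} _ _)) @x1) @x0)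
private theorem _root_.Cfsg.Agent.KOa007329.e7 : @Bool.decEq = @_root_.Cfsg.Agent.KOa007329.k7 := by delta _root_.Cfsg.Agent.KOa007329.k7; rfl'
private noncomputable def _root_.Cfsg.Agent.KOa007329.k8 : type_of% @Nat.decLe := @(fun x0 x1 => @Decidable.rec.{1} _ @(fun x2 => @Decidable (@LE.le.{0} _ _ @x0 @x1)) @(fun x2 => @Decidable.isFalse _ (@Nat.not_le_of_not_ble_eq_true _ _ @x2)) @(fun x2 => @Decidable.isTrue _ (@Nat.le_of_ble_eq_true _ _ @x2)) (@Cfsg.Agent.KOa007329.k7 (@Nat.ble @x0 @x1) @Bool.true))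
private theorem _root_.Cfsg.Agent.KOa007329.e8 : @Nat.decLe = @_root_.Cfsg.Agent.KOa007329.k8 := by delta _root_.Cfsg.Agent.KOa007329.k8; rewrite [← Cfsg.Agent.KOa007329.e7]; rfl'
private theorem _root_.Cfsg.Agent.KOa007329.e9.{ku, kv} {α : Type kv} {M : List α → Sort ku} (φ : ∀ l, M l) {z : M List.nil} {s : ∀ a l, M l → M (List.cons a l)} (h0 : φ List.nil = z) (hs : ∀ a l, φ (List.cons a l) = s a l (φ l)) (l : List α) : φ l = @List.rec α M z s l := List.rec h0 (fun a l ih => (hs a l).trans (congrArg (s a l) ih)) l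
private noncomputable def _root_.Cfsg.Agent.KOa007329.k10.{ku0, ku1} : type_of% @List.foldr.{ku0, ku1} := @(fun x0 x1 x2 x3 x4 => @List.rec.{(ku1+1), ku0} @x0 @(fun x5 => @x1) @x3 @(fun x5 x6 x7 => @x2 @x5 @x7) @x4)
private theorem _root_.Cfsg.Agent.KOa007329.e10.{ku0, ku1} : @List.foldr.{ku0, ku1} = @_root_.Cfsg.Agent.KOa007329.k10.{ku0, ku1} := by delta _root_.Cfsg.Agent.KOa007329.k10; funext a0 a1 a2 a3 a4; refine (_root_.Cfsg.Agent.KOa007329.e9 (fun a4 => @List.foldr.{ku0, ku1} a0 a1 a2 a3 a4) ?_ (fun c0 c1 => ?_) a4 :) <;> (rfl')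
private noncomputable def _root_.Cfsg.Agent.KOa007329.k11 : (by first | exact type_of% @Cfsg.Agent.H905.E6T.enc | exact Unit : Sort _) := by first | (refine @Subtype.val _ (fun g => @Cfsg.Agent.H905.E6T.enc = @g) (@Subtype.mk _ _ (@(fun x0 => @Nat.add (@Nat.mul (@Nat.add (@Nat.mul (@Nat.add (@Nat.mul (@Fin.val _ (@Prod.fst.{0, 0} _ _ @x0)) (nat_lit 8)) (@Fin.val _ (@Prod.fst.{0, 0} _ _ (@Prod.snd.{0, 0} _ _ @x0)))) (nat_lit 8)) (@Fin.val _ (@Prod.fst.{0, 0} _ _ (@Prod.snd.{0, 0} _ _ (@Prod.snd.{0, 0} _ _ @x0))))) (nat_lit 8)) (@Fin.val _ (@Prod.snd.{0, 0} _ _ (@Prod.snd.{0, 0} _ _ (@Prod.snd.{0, 0} _ _ @x0)))))) ?_); rfl') | exact @Cfsg.Agent.H905.E6T.enc | exact ()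
private theorem _root_.Cfsg.Agent.KOa007329.e11 : (by first | exact @Cfsg.Agent.H905.E6T.enc = @_root_.Cfsg.Agent.KOa007329.k11 | exact True : Prop) := by first | (delta _root_.Cfsg.Agent.KOa007329.k11; exact @Subtype.property _ (fun g => @Cfsg.Agent.H905.E6T.enc = @g) _) | rfl | trivial
private noncomputable def _root_.Cfsg.Agent.KOa007329.oLe.{ku} (α : Sort ku) (a b : Nat) (f t : α) : α := @Decidable.rec (@LE.le Nat instLENat a b) (fun _ => α) (fun _ => f) (fun _ => t) (Nat.decLe a b)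
private noncomputable def _root_.Cfsg.Agent.KOa007329.k12.{ku} (α : Sort ku) (a b : Nat) (f t : α) : α := @Bool.rec (fun _ => α) f t (Nat.ble a b)
private theorem _root_.Cfsg.Agent.KOa007329.e12.{ku} : @_root_.Cfsg.Agent.KOa007329.oLe.{ku} = @_root_.Cfsg.Agent.KOa007329.k12.{ku} := funext fun α => funext fun a => funext fun b => funext fun f => funext fun t => by delta _root_.Cfsg.Agent.KOa007329.oLe _root_.Cfsg.Agent.KOa007329.k12; cases h : Nat.ble a b <;> cases Nat.decLe a b <;> rename_i g <;> first | rfl | exact absurd (h.symm.trans (Nat.ble_eq_true_of_le g)) Bool.false_ne_true | exact absurd (Nat.le_of_ble_eq_true h) g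
private noncomputable def _root_.Cfsg.Agent.KOa007329.k13 : (by first | exact type_of% @Cfsg.Agent.H905.E6T.cs1 | exact Unit : Sort _) := by first | (refine @Subtype.val _ (fun g => @Cfsg.Agent.H905.E6T.cs1 = @g) (@Subtype.mk _ _ (@(fun x0 => @Cfsg.Agent.KOa007329.k12.{1} @Cfsg.Agent.H905.E6T.Q4 (@Fin.val _ (@Prod.fst.{0, 0} _ _ @x0)) (@Fin.val _ (@Prod.fst.{0, 0} _ _ (@Prod.snd.{0, 0} _ _ @x0))) ((@Prod.fst.{0, 0} _ _ (@Prod.snd.{0, 0} _ _ @x0), (@Prod.fst.{0, 0} _ _ @x0, (@Prod.fst.{0, 0} _ _ (@Prod.snd.{0, 0} _ _ (@Prod.snd.{0, 0} _ _ @x0)), @Prod.snd.{0, 0} _ _ (@Prod.snd.{0, 0} _ _ (@Prod.snd.{0, 0} _ _ @x0)))))) @x0)) ?_); rewrite [← Cfsg.Agent.KOa007329.e12.{1}]; rfl') | exact @Cfsg.Agent.H905.E6T.cs1 | exact ()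
private theorem _root_.Cfsg.Agent.KOa007329.e13 : (by first | exact @Cfsg.Agent.H905.E6T.cs1 = @_root_.Cfsg.Agent.KOa007329.k13 | exact True : Prop) := by first | (delta _root_.Cfsg.Agent.KOa007329.k13; exact @Subtype.property _ (fun g => @Cfsg.Agent.H905.E6T.cs1 = @g) _) | rfl | trivial
private noncomputable def _root_.Cfsg.Agent.KOa007329.k14 : (by first | exact type_of% @Cfsg.Agent.H905.E6T.cs2 | exact Unit : Sort _) := by first | (refine @Subtype.val _ (fun g => @Cfsg.Agent.H905.E6T.cs2 = @g) (@Subtype.mk _ _ (@(fun x0 => @Cfsg.Agent.KOa007329.k12.{1} @Cfsg.Agent.H905.E6T.Q4 (@Fin.val _ (@Prod.fst.{0, 0} _ _ (@Prod.snd.{0, 0} _ _ @x0))) (@Fin.val _ (@Prod.fst.{0, 0} _ _ (@Prod.snd.{0, 0} _ _ (@Prod.snd.{0, 0} _ _ @x0)))) ((@Prod.fst.{0, 0} _ _ @x0, (@Prod.fst.{0, 0} _ _ (@Prod.snd.{0, 0} _ _ (@Prod.snd.{0, 0} _ _ @x0)), (@Prod.fst.{0, 0} _ _ (@Prod.snd.{0, 0} _ _ @x0), @Prod.snd.{0, 0} _ _ (@Prod.snd.{0, 0} _ _ (@Prod.snd.{0, 0} _ _ @x0)))))) @x0))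 ?_); rewrite [← Cfsg.Agent.KOa007329.e12.{1}]; rfl') | exact @Cfsg.Agent.H905.E6T.cs2 | exact ()
private theorem _root_.Cfsg.Agent.KOa007329.e14 : (by first | exact @Cfsg.Agent.H905.E6T.cs2 = @_root_.Cfsg.Agent.KOa007329.k14 | exact True : Prop) := by first | (delta _root_.Cfsg.Agent.KOa007329.k14; exact @Subtype.property _ (fun g => @Cfsg.Agent.H905.E6T.cs2 = @g) _) | rfl | trivial
private noncomputable def _root_.Cfsg.Agent.KOa007329.k15 : (by first | exact type_of% @Cfsg.Agent.H905.E6T.cs3 | exact Unit : Sort _) := by first | (refine @Subtype.val _ (fun g => @Cfsg.Agent.H905.E6T.cs3 = @g) (@Subtype.mk _ _ (@(fun x0 => @Cfsg.Agent.KOa007329.k12.{1} @Cfsg.Agent.H905.E6T.Q4 (@Fin.val _ (@Prod.fst.{0, 0} _ _ (@Prod.snd.{0, 0} _ _ (@Prod.snd.{0, 0} _ _ @x0)))) (@Fin.val _ (@Prod.snd.{0, 0} _ _ (@Prod.snd.{0, 0} _ _ (@Prod.snd.{0, 0} _ _ @x0)))) ((@Prod.fst.{0, 0} _ _ @x0, (@Prod.fst.{0, 0} _ _ (@Prod.snd.{0, 0} _ _ @x0), (@Prod.snd.{0, 0} _ _ (@Prod.snd.{0,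 0} _ _ (@Prod.snd.{0, 0} _ _ @x0)), @Prod.fst.{0, 0} _ _ (@Prod.snd.{0, 0} _ _ (@Prod.snd.{0, 0} _ _ @x0)))))) @x0)) ?_); rewrite [← Cfsg.Agent.KOa007329.e12.{1}]; rfl') | exact @Cfsg.Agent.H905.E6T.cs3 | exact ()
private theorem _root_.Cfsg.Agent.KOa007329.e15 : (by first | exact @Cfsg.Agent.H905.E6T.cs3 = @_root_.Cfsg.Agent.KOa007329.k15 | exact True : Prop) := by first | (delta _root_.Cfsg.Agent.KOa007329.k15; exact @Subtype.property _ (fun g => @Cfsg.Agent.H905.E6T.cs3 = @g) _) | rfl | trivial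
private noncomputable def _root_.Cfsg.Agent.KOa007329.k16.{ku0} : type_of% @List.decidableBAll.{ku0} := @(fun x0 x1 x2 x3 => @List.rec.{1, ku0} @x0 @(fun x4 => @Decidable ((x5 : @x0) → (@Membership.mem.{ku0, ku0} _ _ _ @x4 @x5) → @x1 @x5)) (@Decidable.isTrue _ (@List.decidableBAll._proof_1.{ku0} _ @x1)) @(fun x4 x5 x6 => @Decidable.rec.{1} _ @(fun x7 => @Decidable ((x8 : @x0) → (@Membership.mem.{ku0, ku0} _ _ _ (@x4 :: @x5) @x8) → @x1 @x8)) @(fun x7 => @Decidable.isFalse _ (@List.decidableBAll._proof_4.{ku0} _ @x1 @x4 @x5 @x7)) @(fun x7 => @Decidable.rec.{1} _ @(fun x8 => @Decidable ((x9 : @x0) → (@Membership.mem.{ku0, ku0} _ _ _ (@x4 :: @x5) @x9) → @x1 @x9)) @(fun x8 => @Decidable.isFalse _ (@List.decidableBAll._proof_3.{ku0} _ @x1 @x4 @x5 @x8)) @(fun x8 => @Decidable.isTrue _ (@List.decidableBAll._proof_2.{ku0} _ @x1 @x4 @x5 @x7 @x8)) @x6) (@x2 @x4)) @x3)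
private theorem _root_.Cfsg.Agent.KOa007329.e16.{ku0} : @List.decidableBAll.{ku0} = @_root_.Cfsg.Agent.KOa007329.k16.{ku0} := by delta _root_.Cfsg.Agent.KOa007329.k16; funext a0 a1 a2 a3; refine (_root_.Cfsg.Agent.KOa007329.e9 (fun a3 => @List.decidableBAll.{ku0} a0 a1 a2 a3) ?_ (fun c0 c1 => ?_) a3 :) <;> (rfl')
private noncomputable def _root_.Cfsg.Agent.KOa007329.k17.{ku0} : type_of% @List.instDecidablePairwise.{ku0} := @(fun x0 x1 x2 x3 => @List.rec.{1, ku0} @x0 @(fun x4 => @Decidable (@List.Pairwise.{ku0} _ @x1 @x4)) (@Decidable.isTrue _ (@List.Pairwise.nil.{ku0} _ _)) @(fun x4 x5 x6 => @Decidable.rec.{1} _ @(fun x7 => @Decidable (@List.Pairwise.{ku0} _ @x1 (@x4 :: @x5))) @(fun x7 => @Decidable.isFalse _ (@List.instDecidablePairwise._proof_3.{ku0} _ _ @x4 @x5 @x7)) @(fun x7 => @Decidable.rec.{1} _ @(fun x8 => @Decidable (@List.Pairwise.{ku0} _ @x1 (@x4 :: @x5))) @(fun x8 => @Decidable.isFalse _ (@List.instDecidablePairwise._proof_1.{ku0} _ _ @x4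 @x5 @x8)) @(fun x8 => @Decidable.isTrue _ (@List.instDecidablePairwise._proof_2.{ku0} _ _ @x4 @x5 @x7 @x8)) (@Cfsg.Agent.KOa007329.k16.{ku0} _ (@x1 @x4) (@x2 @x4) @x5)) @x6) @x3)
private theorem _root_.Cfsg.Agent.KOa007329.e17.{ku0} : @List.instDecidablePairwise.{ku0} = @_root_.Cfsg.Agent.KOa007329.k17.{ku0} := by delta _root_.Cfsg.Agent.KOa007329.k17; rewrite [← Cfsg.Agent.KOa007329.e16.{ku0}]; funext a0 a1 a2 a3; refine (_root_.Cfsg.Agent.KOa007329.e9 (fun a3 => @List.instDecidablePairwise.{ku0} a0 a1 a2 a3) ?_ (fun c0 c1 => ?_) a3 :) <;> (rfl')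
private noncomputable def _root_.Cfsg.Agent.KOa007329.k18 : (by first | exact type_of% @Cfsg.Agent.H905.E6T.cd | exact Unit : Sort _) := by first | (refine @Subtype.val _ (fun g => @Cfsg.Agent.H905.E6T.cd = @g) (@Subtype.mk _ _ (@(fun x0 => @Decidable.rec.{1} _ @(fun x1 => ℕ) @(fun x1 => nat_lit 0) @(fun x1 => @Nat.add (@Cfsg.Agent.KOa007329.k11 (@Cfsg.Agent.KOa007329.k13 (@Cfsg.Agent.KOa007329.k14 (@Cfsg.Agent.KOa007329.k13 (@Cfsg.Agent.KOa007329.k15 (@Cfsg.Agent.KOa007329.k14 (@Cfsg.Agent.KOa007329.k13 @x0))))))) (nat_lit 1)) (@Cfsg.Agent.KOa007329.k17.{0} _ @(fun x1 x2 => @Ne.{1} _ @x1 @x2) @(fun x1 x2 => @Decidable.rec.{1} _ @(fun x3 => @Decidable (¬ (@Eq.{1} _ @x1 @x2))) @(fun x3 => @Decidable.isTrue _ @x3) @(fun x3 => @Decidable.isFalse _ (@absurd.{0} _ _ @x3)) (@Cfsg.Agent.KOa007329.k6 (nat_lit 8) @x1 @x2)) ((@Prod.fst.{0, 0} _ _ @x0) :: ((@Prod.fst.{0, 0} _ _ (@Prod.snd.{0, 0} _ _ @x0)) :: ((@Prod.fst.{0, 0} _ _ (@Prod.snd.{0, 0} _ _ (@Prod.snd.{0,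 0} _ _ @x0))) :: ((@Prod.snd.{0, 0} _ _ (@Prod.snd.{0, 0} _ _ (@Prod.snd.{0, 0} _ _ @x0))) :: []))))))) ?_); rewrite [← Cfsg.Agent.KOa007329.e6, ← Cfsg.Agent.KOa007329.e17.{0}, ← Cfsg.Agent.KOa007329.e15, ← Cfsg.Agent.KOa007329.e14, ← Cfsg.Agent.KOa007329.e13, ← Cfsg.Agent.KOa007329.e11]; (try delta Cfsg.Agent.H905.E6T.cd Cfsg.Agent.H905.E6T.net); (try generalize @Cfsg.Agent.H905.E6T.enc = g0); (try generalize @Cfsg.Agent.H905.E6T.cs1 = g1); (try generalize @Cfsg.Agent.H905.E6T.cs2 = g2); (try generalize @Cfsg.Agent.H905.E6T.cs3 = g3); rfl') | exact @Cfsg.Agent.H905.E6T.cd | exact ()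
private theorem _root_.Cfsg.Agent.KOa007329.e18 : (by first | exact @Cfsg.Agent.H905.E6T.cd = @_root_.Cfsg.Agent.KOa007329.k18 | exact True : Prop) := by first | (delta _root_.Cfsg.Agent.KOa007329.k18; exact @Subtype.property _ (fun g => @Cfsg.Agent.H905.E6T.cd = @g) _) | rfl | trivial
private noncomputable def _root_.Cfsg.Agent.KOa007329.k19 : (by first | exact type_of% @Cfsg.Agent.H905.E6T.xorL | exact Unit : Sort _) := by first | (refine @Subtype.val _ (fun g => @Cfsg.Agent.H905.E6T.xorL = @g) (@Subtype.mk _ _ (@(fun x0 => @Cfsg.Agent.KOa007329.k10.{0, 0} _ _ @(fun x1 x2 => @Nat.xor @x2 (@Nat.pow (nat_lit 2) (@Cfsg.Agent.KOa007329.k18 @x1))) (nat_lit 0) @x0)) ?_); rewrite [← Cfsg.Agent.KOa007329.e18, ← Cfsg.Agent.KOa007329.e10.{0, 0}]; (try delta Cfsg.Agent.H905.E6T.xorL); (try generalize @Cfsg.Agent.H905.E6T.cd = g0); rfl') | exact @Cfsg.Agent.H905.E6T.xorL | exact ()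
private theorem _root_.Cfsg.Agent.KOa007329.e19 : (by first | exact @Cfsg.Agent.H905.E6T.xorL = @_root_.Cfsg.Agent.KOa007329.k19 | exact True : Prop) := by first | (delta _root_.Cfsg.Agent.KOa007329.k19; exact @Subtype.property _ (fun g => @Cfsg.Agent.H905.E6T.xorL = @g) _) | rfl | trivial
private noncomputable def _root_.Cfsg.Agent.KOa007329.k20.{ku0, ku1} : type_of% @List.map.{ku0, ku1} := @(fun x0 x1 x2 x3 => @List.rec.{(ku1+1), ku0} @x0 @(fun x4 => @List.{ku1} @x1) [] @(fun x4 x5 x6 => (@x2 @x4) :: @x6) @x3)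
private theorem _root_.Cfsg.Agent.KOa007329.e20.{ku0, ku1} : @List.map.{ku0, ku1} = @_root_.Cfsg.Agent.KOa007329.k20.{ku0, ku1} := by delta _root_.Cfsg.Agent.KOa007329.k20; funext a0 a1 a2 a3; refine (_root_.Cfsg.Agent.KOa007329.e9 (fun a3 => @List.map.{ku0, ku1} a0 a1 a2 a3) ?_ (fun c0 c1 => ?_) a3 :) <;> (rfl')

theorem TL_inv : ∀ k : Fin 8, k ≠ 0 → xorL (TL.map (gact k) ++ TL) ≤ 1 := by (first | (refine of_decide_eq_true ?_; rewrite [Cfsg.Agent.KOa007329.e0, Cfsg.Agent.KOa007329.e2, Cfsg.Agent.KOa007329.e3, Cfsg.Agent.KOa007329.e4, Cfsg.Agent.KOa007329.e6, Cfsg.Agent.KOa007329.e8, Cfsg.Agent.KOa007329.e19, Cfsg.Agent.KOa007329.e20.{0, 0}]; decide +kernel) | decide +kernel)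

def star4 (t : Fin 8 × Fin 8 × Fin 8) : List Q4 := (List.finRange 8).map fun l => (t.1, t.2.1, t.2.2, l)

def pair4 (p : Fin 8 × Fin 8) : List Q4 := PL.map fun q => (p.1, p.2, q.1, q.2)

def PP (a b c d e : Fin 8) : List Q4 := [(b, c, d, e), (a, c, d, e), (a, b, d, e), (a, b, c, e), (a, b, c, d)]

def pr5 : List (Fin 8 × Fin 8) :=
  [(0, 1), (0, 2), (0, 3), (0, 4), (1, 2), (1, 3), (1, 4), (2, 3), (2, 4), (3, 4)]

private theorem _root_.Cfsg.Agent.KOa007329.e21.{ku} {M : Nat → Sort ku} (φ : ∀ n, M n) {z : M Nat.zero} {s : ∀ n, M n → M (Nat.succ n)} (h0 : φ Nat.zero = z) (hs : ∀ n, φ (Nat.succ n) = s n (φ n)) (n : Nat) : φ n = @Nat.rec M z s n := Nat.rec h0 (fun n ih => (hs n).trans (congrArg (s n) ih)) n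
private noncomputable def _root_.Cfsg.Agent.KOa007329.k22.{ku0} : type_of% @Fin.foldr.loop.{ku0} := @(fun x0 x1 x2 x3 x4 x5 => @Nat.rec.{ku0} @(fun x6 => (@LE.le.{0} _ _ @x6 @x1) → @x0 → @x0) @(fun x6 x7 => @x7) @(fun x6 x7 x8 x9 => @x7 (@Nat.le_of_lt _ _ @x8) (@x2 (@Fin.mk _ @x6 @x8) @x9)) @x3 @x4 @x5)
private theorem _root_.Cfsg.Agent.KOa007329.e22.{ku0} : @Fin.foldr.loop.{ku0} = @_root_.Cfsg.Agent.KOa007329.k22.{ku0} := by delta _root_.Cfsg.Agent.KOa007329.k22; funext a0 a1 a2 a3 a4 a5; refine (congrFun (congrFun (_root_.Cfsg.Agent.KOa007329.e21 (fun a3 a4 a5 => @Fin.foldr.loop.{ku0} a0 a1 a2 a3 a4 a5) ?_ (fun c0 => ?_) a3) a4) a5 :) <;> (rfl')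
private noncomputable def _root_.Cfsg.Agent.KOa007329.k23 : (by first | exact type_of% @Cfsg.Agent.H905.E6T.star4 | exact Unit : Sort _) := by first | (refine @Subtype.val _ (fun g => @Cfsg.Agent.H905.E6T.star4 = @g) (@Subtype.mk _ _ (@(fun x0 => @Cfsg.Agent.KOa007329.k20.{0, 0} _ _ @(fun x1 => (@Prod.fst.{0, 0} _ _ @x0, (@Prod.fst.{0, 0} _ _ (@Prod.snd.{0, 0} _ _ @x0), (@Prod.snd.{0, 0} _ _ (@Prod.snd.{0, 0} _ _ @x0), @x1)))) (@Cfsg.Agent.KOa007329.k22.{1} _ (nat_lit 8) @(fun x1 x2 => @x1 :: @x2) (nat_lit 8) (@Nat.le_refl ((8 : ℕ))) []))) ?_); rewrite [← Cfsg.Agent.KOa007329.e22.{1}, ← Cfsg.Agent.KOa007329.e20.{0, 0}]; rfl') | exact @Cfsg.Agent.H905.E6T.star4 | exact ()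
private theorem _root_.Cfsg.Agent.KOa007329.e23 : (by first | exact @Cfsg.Agent.H905.E6T.star4 = @_root_.Cfsg.Agent.KOa007329.k23 | exact True : Prop) := by first | (delta _root_.Cfsg.Agent.KOa007329.k23; exact @Subtype.property _ (fun g => @Cfsg.Agent.H905.E6T.star4 = @g) _) | rfl | trivial
private noncomputable def _root_.Cfsg.Agent.KOa007329.k24.{ku0} : type_of% @List.append.{ku0} := @(fun x0 x1 x2 => @List.rec.{(ku0+1), ku0} @x0 @(fun x3 => (@List.{ku0} @x0) → @List.{ku0} @x0) @(fun x3 => @x3) @(fun x3 x4 x5 x6 => @x3 :: (@x5 @x6)) @x1 @x2)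
private theorem _root_.Cfsg.Agent.KOa007329.e24.{ku0} : @List.append.{ku0} = @_root_.Cfsg.Agent.KOa007329.k24.{ku0} := by delta _root_.Cfsg.Agent.KOa007329.k24; funext a0 a1 a2; refine (congrFun (_root_.Cfsg.Agent.KOa007329.e9 (fun a1 a2 => @List.append.{ku0} a0 a1 a2) ?_ (fun c0 c1 => ?_) a1) a2 :) <;> (rfl')
private noncomputable def _root_.Cfsg.Agent.KOa007329.k25.{ku0} : type_of% @List.flatten.{ku0} := @(fun x0 x1 => @List.rec.{(ku0+1), ku0} (@List.{ku0} @x0) @(fun x2 => @List.{ku0} @x0) [] @(fun x2 x3 x4 => @Cfsg.Agent.KOa007329.k24.{ku0} _ @x2 @x4) @x1)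
private theorem _root_.Cfsg.Agent.KOa007329.e25.{ku0} : @List.flatten.{ku0} = @_root_.Cfsg.Agent.KOa007329.k25.{ku0} := by delta _root_.Cfsg.Agent.KOa007329.k25; rewrite [← Cfsg.Agent.KOa007329.e24.{ku0}]; funext a0 a1; refine (_root_.Cfsg.Agent.KOa007329.e9 (fun a1 => @List.flatten.{ku0} a0 a1) ?_ (fun c0 c1 => ?_) a1 :) <;> (rfl')
private noncomputable def _root_.Cfsg.Agent.KOa007329.k26.{ku0, ku1} : type_of% @List.flatMap.{ku0, ku1} := @(fun x0 x1 x2 x3 => @Cfsg.Agent.KOa007329.k25.{ku1} _ (@Cfsg.Agent.KOa007329.k20.{ku0, ku1} _ _ @x2 @x3))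
private theorem _root_.Cfsg.Agent.KOa007329.e26.{ku0, ku1} : @List.flatMap.{ku0, ku1} = @_root_.Cfsg.Agent.KOa007329.k26.{ku0, ku1} := by delta _root_.Cfsg.Agent.KOa007329.k26; rewrite [← Cfsg.Agent.KOa007329.e20.{ku0, ku1}, ← Cfsg.Agent.KOa007329.e25.{ku1}]; rfl'
private noncomputable def _root_.Cfsg.Agent.KOa007329.k27 : (by first | exact type_of% @Cfsg.Agent.H905.E6T.pair4 | exact Unit : Sort _) := by first | (refine @Subtype.val _ (fun g => @Cfsg.Agent.H905.E6T.pair4 = @g) (@Subtype.mk _ _ (@(fun x0 => @Cfsg.Agent.KOa007329.k20.{0, 0} _ _ @(fun x1 => (@Prod.fst.{0, 0} _ _ @x0, (@Prod.snd.{0, 0} _ _ @x0, (@Prod.fst.{0, 0} _ _ @x1, @Prod.snd.{0, 0} _ _ @x1)))) @Cfsg.Agent.H905.E6T.PL)) ?_); rewrite [← Cfsg.Agent.KOa007329.e20.{0, 0}]; (try delta Cfsg.Agent.H905.E6T.pair4); (try generalize @Cfsg.Agent.H905.E6T.PL = g0); rfl') | exact @Cfsg.Agent.H905.E6T.pair4 | exact ()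
private theorem _root_.Cfsg.Agent.KOa007329.e27 : (by first | exact @Cfsg.Agent.H905.E6T.pair4 = @_root_.Cfsg.Agent.KOa007329.k27 | exact True : Prop) := by first | (delta _root_.Cfsg.Agent.KOa007329.k27; exact @Subtype.property _ (fun g => @Cfsg.Agent.H905.E6T.pair4 = @g) _) | rfl | trivial

theorem five_rel : xorL (star4 (5, 6, 7) ++ (pr5.flatMap pair4 ++ (TL ++ PP 0 1 2 3 4))) ≤ 1 := by (first | (refine of_decide_eq_true ?_; rewrite [Cfsg.Agent.KOa007329.e0, Cfsg.Agent.KOa007329.e8, Cfsg.Agent.KOa007329.e19, Cfsg.Agent.KOa007329.e23, Cfsg.Agent.KOa007329.e26.{0, 0}, Cfsg.Agent.KOa007329.e27]; decide +kernel) | decide +kernel)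

private noncomputable def _root_.Cfsg.Agent.KOa007329.k28.{ku0} : type_of% @List.nodupDecidable.{ku0} := @(fun x0 x1 => @Cfsg.Agent.KOa007329.k17.{ku0} _ @(fun x2 x3 => @Ne.{(ku0+1)} _ @x2 @x3) @(fun x2 x3 => @Decidable.rec.{1} _ @(fun x4 => @Decidable (¬ (@Eq.{(ku0+1)} _ @x2 @x3))) @(fun x4 => @Decidable.isTrue _ @x4) @(fun x4 => @Decidable.isFalse _ (@absurd.{0} _ _ @x4)) (@x1 @x2 @x3)))
private theorem _root_.Cfsg.Agent.KOa007329.e28.{ku0} : @List.nodupDecidable.{ku0} = @_root_.Cfsg.Agent.KOa007329.k28.{ku0} := by delta _root_.Cfsg.Agent.KOa007329.k28; rewrite [← Cfsg.Agent.KOa007329.e17.{ku0}]; rfl'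

theorem deg_rel : ∀ j k l m : Fin 8, ¬ [0, j, k, l, m].Nodup → xorL (PP 0 j k l m) ≤ 1 := by (first | (refine of_decide_eq_true ?_; rewrite [Cfsg.Agent.KOa007329.e0, Cfsg.Agent.KOa007329.e2, Cfsg.Agent.KOa007329.e3, Cfsg.Agent.KOa007329.e4, Cfsg.Agent.KOa007329.e28.{0}, Cfsg.Agent.KOa007329.e6, Cfsg.Agent.KOa007329.e8, Cfsg.Agent.KOa007329.e19]; decide +kernel) | decide +kernel)

theorem PL_nodup : PL.Nodup := by decide +kernel

theorem PL_finset : PL.toFinset = Finset.univ.filter (fun p : Fin 8 × Fin 8 => p.1 < p.2) := by decide +kernel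

section

variable {σ σ' : Representation F ↥(alternatingGroup (Fin 8)) (I27 → F)} {w : Fin 8 → Fin 8 → I27 → F}

/-- the products as a function of quadruples -/
def fq (w : Fin 8 → Fin 8 → I27 → F) (x : Q4) : I27 → F := qq w x.1 x.2.1 x.2.2.1 x.2.2.2

theorem map_list_sum (g : ↥(alternatingGroup (Fin 8))) (L : List Q4) (f : Q4 → I27 → F) :
    σ g (L.map f).sum = (L.map fun x => σ g (f x)).sum := by
  induction L with
  | nil => simp
  | cons a L ih => rw [List.map_cons, List.sum_cons, List.map_cons, List.sum_cons, ← ih, map_add]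

theorem sum_flat {α : Type*} (T : List α) (g : α → List Q4) (f : Q4 → I27 → F) (h : ∀ t ∈ T, ((g t).map f).sum = 0) :
    ((T.flatMap g).map f).sum = 0 := by
  induction T with
  | nil => simp
  | cons a T ih =>
    rw [List.flatMap_cons, List.map_append, List.sum_append, h a (List.mem_cons_self), zero_add]
    exact ih fun t ht => h t (List.mem_cons_of_mem _ ht)

/-- cancellation for quadruples -/
theorem Pairs.xor (h2 : (2 : F) = 0) (hP : PD σ σ') (hpt : NoPt 7 σ) (hpt' : NoPt 7 σ') (h6 : NoSix σ) (h6' : NoSix σ')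
    (hp : Pairs σ σ' w) (L : List Q4) (hL : xorL L ≤ 1) : (L.map (fq w)).sum = 0 := by
  have h23 := hp.qq23 h2 hP hpt hpt' h6 h6'
  have e1 : ∀ x, fq w (cs1 x) = fq w x := by
    intro x
    unfold cs1
    split_ifs
    · rfl
    · exact hp.qq12 _ _ _ _
  have e2 : ∀ x, fq w (cs2 x) = fq w x := by
    intro x
    unfold cs2
    split_ifs
    · rfl
    · exact h23 _ _ _ _
  have e3 : ∀ x, fq w (cs3 x) = fq w x := by
    intro x
    unfold cs3
    split_ifs
    · rfl
    · exact hp.qq34 _ _ _ _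
  have en : ∀ x, fq w (net x) = fq w x := by
    intro x
    rw [net, e1, e2, e1, e3, e2, e1]
  have z0 : ∀ x, cd x = 0 → fq w x = 0 := by
    intro x h
    unfold cd at h
    split_ifs at h with h'
    exact hp.qq_zero h'
  refine par_xor h2 cd 4097 (fq w) ?_ z0 cd_lt L hL
  intro x y h
  by_cases hx : cd x = 0
  · rw [z0 x hx, z0 y (by rw [← h, hx])]
  · have hy : cd y ≠ 0 := by rw [← h]; exact hx
    have h1 : [x.1, x.2.1, x.2.2.1, x.2.2.2].Nodup := by
      by_contra h1
      exact hx (by unfold cd; rw [if_neg h1])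
    have h3 : [y.1, y.2.1, y.2.2.1, y.2.2.2].Nodup := by
      by_contra h3
      exact hy (by unfold cd; rw [if_neg h3])
    unfold cd at h
    rw [if_pos h1, if_pos h3] at h
    have := enc_inj (Nat.succ_injective h)
    rw [← en x, this, en y]

theorem Pairs.star_zero (hpt : NoPt 7 σ) (hp : Pairs σ σ' w) (t : Fin 8 × Fin 8 × Fin 8) :
    ((star4 t).map (fq w)).sum = 0 := by
  rw [star4, List.map_map]
  have h1 := star_cr (star8 hpt hp.fam t.2.2) (w t.1 t.2.1)
  rw [Fin.sum_univ_def] at h1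
  exact h1

theorem Pairs.pair_zero (hpt : NoPt 7 σ) (hp : Pairs σ σ' w) (p : Fin 8 × Fin 8) : ((pair4 p).map (fq w)).sum = 0 := by
  rw [pair4, List.map_map]
  have h1 := fam2_all hp.fam hpt.inv
  rw [← PL_finset] at h1
  have h3 := congrArg (crB F (w p.1 p.2)) h1
  rw [map_sum, map_zero, List.sum_toFinset _ PL_nodup] at h3
  exact h3

theorem Pairs.total_zero (h2 : (2 : F) = 0) (hP : PD σ σ') (hpt : NoPt 7 σ) (hpt' : NoPt 7 σ') (h6 : NoSix σ)
    (h6' : NoSix σ') (hp : Pairs σ σ' w) : (TL.map (fq w)).sum = 0 := by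
  apply mem_inv hpt'.inv
  refine fixed_of_star (n := 6) ?_
  intro k hk
  rw [map_list_sum]
  have h1 := hp.xor h2 hP hpt hpt' h6 h6' _ (TL_inv k hk)
  rw [List.map_append, List.sum_append, List.map_map] at h1
  rw [← eq_of_add2 h2 h1]
  congr 1
  apply List.map_congr_left
  intro x _
  exact hp.qq_act hP _ _ _ _ _

theorem Pairs.five_zero (h2 : (2 : F) = 0) (hP : PD σ σ') (hpt : NoPt 7 σ) (hpt' : NoPt 7 σ') (h6 : NoSix σ)
    (h6' : NoSix σ') (hp : Pairs σ σ' w) : ((PP 0 1 2 3 4).map (fq w)).sum = 0 := by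
  have h1 := hp.xor h2 hP hpt hpt' h6 h6' _ five_rel
  rw [List.map_append, List.sum_append, List.map_append, List.sum_append, List.map_append, List.sum_append,
    hp.star_zero hpt, sum_flat _ _ _ (fun t _ => hp.pair_zero hpt t), hp.total_zero h2 hP hpt hpt' h6 h6', zero_add,
    zero_add, zero_add] at h1
  exact h1

theorem Pairs.PP_zero (h2 : (2 : F) = 0) (hP : PD σ σ') (hpt : NoPt 7 σ) (hpt' : NoPt 7 σ') (h6 : NoSix σ)
    (h6' : NoSix σ') (hp : Pairs σ σ' w) (j k l m : Fin 8) : ((PP 0 j k l m).map (fq w)).sum = 0 := by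
  by_cases h : [0, j, k, l, m].Nodup
  · obtain ⟨g, hg⟩ := move_list (L := [0, 1, 2, 3, 4]) (by decide) h rfl (by simp)
    simp only [List.map_cons, List.map_nil, List.cons.injEq, and_true] at hg
    have h1 := congrArg (σ' g) (hp.five_zero h2 hP hpt hpt' h6 h6')
    simp only [PP, List.map_cons, List.map_nil, List.sum_cons, List.sum_nil, fq, add_zero, map_add, map_zero,
      hp.qq_act hP, hg.1, hg.2.1, hg.2.2.1, hg.2.2.2.1, hg.2.2.2.2] at h1 ⊢
    exact h1
  · exact hp.xor h2 hP hpt hpt' h6 h6' _ (deg_rel j k l m h)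

/-- the triangles through the point 0 -/
def tri (w : Fin 8 → Fin 8 → I27 → F) (j k : Fin 8) : I27 → F := w 0 j + w 0 k + w j k

theorem Pairs.cr_tri (h2 : (2 : F) = 0) (hP : PD σ σ') (hpt : NoPt 7 σ) (hpt' : NoPt 7 σ') (h6 : NoSix σ)
    (h6' : NoSix σ') (hp : Pairs σ σ' w) (j k l m : Fin 8) : cr (tri w j k) (tri w l m) = 0 := by
  have h23 := hp.qq23 h2 hP hpt hpt' h6 h6'
  have h1 := hp.PP_zero h2 hP hpt hpt' h6 h6' j k l m
  simp only [PP, List.map_cons, List.map_nil, List.sum_cons, List.sum_nil, fq, add_zero] at h1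
  have f1 : cr (w 0 j) (w l m) = qq w 0 j l m := rfl
  have f2 : cr (w 0 k) (w l m) = qq w 0 k l m := rfl
  have f3 : cr (w j k) (w 0 l) = qq w 0 j k l := by
    rw [cr_comm, show cr (w 0 l) (w j k) = qq w 0 l j k from rfl, h23, hp.qq34]
  have f4 : cr (w j k) (w 0 m) = qq w 0 j k m := by
    rw [cr_comm, show cr (w 0 m) (w j k) = qq w 0 m j k from rfl, h23, hp.qq34]
  have f5 : cr (w j k) (w l m) = qq w j k l m := rfl
  rw [tri, tri]
  simp only [cr_add_left, cr_add_right, hp.adj, f1, f2, f3, f4, f5, zero_add]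
  rw [← h1]
  abel

theorem Pairs.sh_tri (h2 : (2 : F) = 0) (hP : PD σ σ') (hpt : NoPt 7 σ) (hpt' : NoPt 7 σ') (h6 : NoSix σ)
    (h6' : NoSix σ') (hp : Pairs σ σ' w) (j k : Fin 8) : sh (tri w j k) = 0 := by
  have hs := hp.sh0 h2 hP hpt hpt' h6'
  have a1 : cr (w 0 j) (w j k) = 0 := by rw [hp.fam.comm 0 j]; exact hp.adj _ _ _
  have a2 : cr (w 0 k) (w j k) = 0 := by rw [hp.fam.comm 0 k, hp.fam.comm j k]; exact hp.adj _ _ _
  rw [tri, sh_add, sh_add, hs, hs, hs, hp.adj, cr_add_left, a1, a2]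
  simp

/-- the contradiction -/
theorem Pairs.false (h2 : (2 : F) = 0) (hP : PD σ σ') (hpt : NoPt 7 σ) (hpt' : NoPt 7 σ') (h6 : NoSix σ)
    (h6' : NoSix σ') (hp : Pairs σ σ' w) : False := by
  set U := Submodule.span F (Set.range fun p : Fin 8 × Fin 8 => tri w p.1 p.2) with hU
  set B := Submodule.span F (Set.range fun j : Fin 6 => w 0 (Fin.castLE (show 7 ≤ 8 by norm_num) j.succ)) with hB
  have hts : TS U := ts_span (fun p => hp.sh_tri h2 hP hpt hpt' h6 h6' p.1 p.2)
    (fun p q => hp.cr_tri h2 hP hpt hpt' h6 h6' p.1 p.2 q.1 q.2)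
  have h13 := ts_le hts
  have h20 := finrank20 h2 hp.fam (hp.z_ne h2 hP hpt hpt' h6 h6')
  have hB6 : finrank F B ≤ 6 := by
    have := finrank_range_le_card (R := F) (fun j : Fin 6 => w 0 (Fin.castLE (show 7 ≤ 8 by norm_num) j.succ))
    rw [Fintype.card_fin] at this
    exact this
  have h0 : ∀ j : Fin 8, w 0 j ∈ U ⊔ B := by
    have hlt : ∀ j : Fin 8, j ≠ 7 → w 0 j ∈ B := by
      intro j hj
      by_cases hj0 : j = 0
      · rw [hj0, hp.fam.diag]; exact Submodule.zero_mem _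
      · refine Submodule.subset_span ⟨⟨j.val - 1, ?_⟩, ?_⟩
        · have := j.2
          have h8 : j.val ≠ 7 := fun h => hj (Fin.ext h)
          omega
        · have h8 : j.val ≠ 0 := fun h => hj0 (Fin.ext h)
          change w 0 _ = w 0 j
          congr 1
          apply Fin.ext
          change j.val - 1 + 1 = j.val
          omega
    intro j
    apply Submodule.mem_sup_right
    by_cases hj : j = 7
    · have h1 := star8 hpt hp.fam 0
      rw [Fin.sum_univ_castSucc] at h1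
      have h3 := eq_of_add2 h2 h1
      rw [hj]
      change w 0 (Fin.last 7) ∈ B
      rw [← h3]
      exact Submodule.sum_mem _ fun i _ => hlt _ (Fin.castSucc_lt_last i).ne
    · exact hlt j hj
  have hle : Submodule.span F (Set.range fun p : Fin 8 × Fin 8 => w p.1 p.2) ≤ U ⊔ B := by
    rw [Submodule.span_le]
    rintro _ ⟨p, rfl⟩
    change w p.1 p.2 ∈ U ⊔ B
    have h1 : w p.1 p.2 = tri w p.1 p.2 + (w 0 p.1 + w 0 p.2) := by
      rw [tri]
      have : w 0 p.1 + w 0 p.2 + w p.1 p.2 + (w 0 p.1 + w 0 p.2) = w p.1 p.2 + ((w 0 p.1 + w 0 p.2) +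
        (w 0 p.1 + w 0 p.2)) := by abel
      rw [this, add_self2 h2, add_zero]
    rw [h1]
    exact Submodule.add_mem _ (Submodule.mem_sup_left (Submodule.subset_span ⟨p, rfl⟩))
      (Submodule.add_mem _ (h0 _) (h0 _))
  have h1 := Submodule.finrank_mono hle
  have h3 := Submodule.finrank_add_le_finrank_add_finrank U B
  omega

end

end Cfsg.Agent.H905.E6T
end

-- part: H905/E6T/EightKill
section
/-!
# S5927, characteristic 2, `A₈` (helper905)

`eight_kill_of` : `A₈` in characteristic 2, without fixed vectors and totally singular 6-spaces: contradiction, provided the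
case with a vector fixed by `A₇` is settled.
-/

set_option autoImplicit false
set_option linter.unusedSectionVars false

namespace Cfsg.Agent.H905.E6T

open Cfsg Cfsg.Lie Module Equiv
open Cfsg.Agent.ChevalleyStructure.E6Min.Tables
open Cfsg.Agent.H952.F4 (ev es sh cr tf tr1 u0 GenT)
open Cfsg.Agent.H952.F4.Jord Cfsg.Agent.H163.E6

universe u

variable {F : Type u} [Field F] {σ σ' : Representation F ↥(alternatingGroup (Fin 8)) (I27 → F)}

/-- a vector fixed by a point stabilizer gives a family -/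
theorem fam_of_not_noPt (h : ¬ NoPt 7 σ) : ∃ u : Fin 8 → I27 → F, Fam σ u ∧ u 0 ≠ 0 := by
  unfold NoPt at h
  push Not at h
  obtain ⟨x, hx, hx0⟩ := h
  obtain ⟨u, hu, hu7⟩ := exists_fam (n := 8) (σ := σ) (by norm_num) 7 x hx
  refine ⟨u, hu, fun h0 => hx0 ?_⟩
  rw [← hu7]
  exact fam_eq_zero (by norm_num) hu h0 7

/-- the case without vectors fixed by point stabilizers -/
theorem eight_two_kill (h2 : (2 : F) = 0) (hP : PD σ σ') (hpt : NoPt 7 σ) (hpt' : NoPt 7 σ')
    (h6 : NoSix σ) (h6' : NoSix σ') (h15 : ∀ g, g * g = 1 → 15 ≤ ev (σ g) 1) (h8 : ∀ g, g ^ 4 = 1 → 8 ≤ ev (σ g) 1)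
    (h5 : ∀ g : ↥(alternatingGroup (Fin 8)), (g : Perm (Fin 8)).cycleType = {5} → 7 ≤ ev (σ g) 1) : False := by
  obtain ⟨x, y, hgen, hx, hy, hxy⟩ := gen6c
  have h1 := (hP.res (show 6 ≤ 8 by norm_num)).scott hgen
  have h3 := h15 (io (show 6 ≤ 8 by norm_num) x) (by
    rw [← map_mul]
    have := pow_of_ct x hx
    rw [show ({2, 2} : Multiset ℕ).lcm = 2 by decide, pow_two] at this
    rw [this, map_one])
  have h4 := h8 (io (show 6 ≤ 8 by norm_num) y) (by
    rw [← map_pow]
    have := pow_of_ct y hy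
    rw [show ({4, 2} : Multiset ℕ).lcm = 4 by decide] at this
    rw [this, map_one])
  have h7 := h5 (io (show 6 ≤ 8 by norm_num) (x * y)) (by rw [ct_io]; exact hxy)
  rw [res_apply, res_apply, res_apply] at h1
  rcases le_or_gt 2 (finrank F (res (show 6 ≤ 8 by norm_num) σ).invariants) with h | h
  · obtain ⟨w, hw⟩ := exists_pairs h2 hP hpt hpt' h
    exact hw.false h2 hP hpt hpt' h6 h6'
  · obtain ⟨w, hw⟩ := exists_pairs h2 hP.symm hpt' hpt (by omega)
    exact hw.false h2 hP.symm hpt' hpt h6' h6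

theorem eight_kill_of (h2 : (2 : F) = 0) (hP : PD σ σ') (hinv : σ.invariants = ⊥) (hinv' : σ'.invariants = ⊥)
    (h6 : NoSix σ) (h6' : NoSix σ') (h15 : ∀ g, g * g = 1 → 15 ≤ ev (σ g) 1) (h8 : ∀ g, g ^ 4 = 1 → 8 ≤ ev (σ g) 1)
    (h5 : ∀ g : ↥(alternatingGroup (Fin 8)), (g : Perm (Fin 8)).cycleType = {5} → 7 ≤ ev (σ g) 1)
    (hone : ∀ {σ σ' : Representation F ↥(alternatingGroup (Fin 8)) (I27 → F)}, PD σ σ' → σ.invariants = ⊥ →
      σ'.invariants = ⊥ → NoSix σ → NoSix σ' → ∀ {u : Fin 8 → I27 → F}, Fam σ u → u 0 ≠ 0 → False) : False := by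
  by_cases hpt : NoPt 7 σ
  · by_cases hpt' : NoPt 7 σ'
    · exact eight_two_kill h2 hP hpt hpt' h6 h6' h15 h8 h5
    · obtain ⟨u, hu, h0⟩ := fam_of_not_noPt hpt'
      exact hone hP.symm hinv' hinv h6' h6 hu h0
  · obtain ⟨u, hu, h0⟩ := fam_of_not_noPt hpt
    exact hone hP hinv hinv' h6 h6' hu h0

end Cfsg.Agent.H905.E6T
end

-- part: H905/E6T/Wrap
section
/-!
# S5927, S5928: characteristic 2, the wrapper (helper905)

`facts` : the situation `Sit H n φ` with a lift gives the hypotheses of the abstract theorems.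
`seven_two` : `A₇`, characteristic 2.
-/

set_option autoImplicit false

namespace Cfsg.Agent.H905.E6T

open Cfsg Cfsg.Lie Module Equiv
open Cfsg.Agent.ChevalleyStructure.E6Min.Tables Cfsg.Agent.ChevalleyStructure.E6Min.Basic
  Cfsg.Agent.ChevalleyStructure.E6Min.Adjoint
open Cfsg.Agent.H952.F4 (ev es sh cr tf)
open Cfsg.Agent.H163.E6

universe u

variable {F : Type u} [Field F] {H : Subgroup ↥(chevE6.group F)}

/-- the two modules restricted to the lift -/
theorem pd_lift {n : ℕ} (ψ : ↥(alternatingGroup (Fin n)) →* ↥(Zgrp F)) :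
    PD (MonoidHom.comp (V F) ψ : Representation F ↥(alternatingGroup (Fin n)) (I27 → F))
      (MonoidHom.comp (V' F) ψ : Representation F ↥(alternatingGroup (Fin n)) (I27 → F)) where
  htf g x y := Act.tf_act (ψ g) x y
  hsh g x := Act.sh_act (ψ g) x
  hsh' g x := Act.sh_act' (ψ g) x

/-- the hypotheses of the abstract theorems -/
theorem facts [Finite F] [CharP F 2] {n : ℕ} (hn : 7 ≤ n) {φ : ↥(alternatingGroup (Fin n)) →* ↥(chevE6.group F)}
    (hS : Sit H n φ) {ψ : ↥(alternatingGroup (Fin n)) →* ↥(Zgrp F)} (hψ : Lift φ ψ) :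
    ∃ σ σ' : Representation F ↥(alternatingGroup (Fin n)) (I27 → F), PD σ σ' ∧ σ.invariants = ⊥ ∧
      σ'.invariants = ⊥ ∧ NoSix σ ∧ NoSix σ' ∧ (∀ g, g * g = 1 → 15 ≤ ev (σ g) 1) ∧
      (∀ g, g ^ 4 = 1 → 8 ≤ ev (σ g) 1) ∧
      (∀ g : ↥(alternatingGroup (Fin n)), (g : Perm (Fin n)).cycleType = {5} → 7 ≤ ev (σ g) 1) := by
  refine ⟨MonoidHom.comp (V F) ψ, MonoidHom.comp (V' F) ψ, pd_lift ψ, (hS.no_fixed ψ hψ).1, (hS.no_fixed ψ hψ).2,
    ?_, ?_, ?_, ?_, ?_⟩
  · intro W hW h6 hts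
    exact hS.no_six (V F) (Or.inl rfl) W (stab_of_lift (Or.inl rfl) hψ hW) h6 hts
  · intro W hW h6 hts
    exact hS.no_six (V' F) (Or.inr rfl) W (stab_of_lift (Or.inr rfl) hψ hW) h6 hts
  · intro g hg
    exact Tor.two_two (ψ g) (by rw [← map_mul, hg, map_one])
  · intro g hg
    exact Tor.two_four (ψ g) (by rw [← map_pow, hg, map_one])
  · intro g hg
    have hT : Tab 2 F := Tor.tab 2
    have hinj : Function.Injective ψ := fun a b h => hS.inj (by rw [← hψ a, ← hψ b, h])
    obtain ⟨k, hk⟩ := Cfsg.Agent.H177.F4.rat_five hn hg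
    have h1 : ψ g ≠ 1 := fun h => Cfsg.Agent.H177.F4.ne_one_of_type hg (by decide) (hinj (h.trans (map_one ψ).symm))
    have h2 := hT.five_rat (by norm_num) (ψ g) h1
      (by rw [← map_pow, Cfsg.Agent.H177.F4.pow_of_type hg (by decide), map_one])
      ⟨ψ k, by rw [← map_inv, ← map_mul, ← map_mul, hk, map_pow]⟩
    exact h2.1.symm.le

end Cfsg.Agent.H905.E6T

namespace Cfsg.Agent.H163.E6.Cases

open Cfsg Cfsg.Lie Module
open Cfsg.Agent.ChevalleyStructure.E6Min.Tables Cfsg.Agent.ChevalleyStructure.E6Min.Basic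
  Cfsg.Agent.ChevalleyStructure.E6Min.Adjoint

universe u

variable {F : Type u} [Field F] [Finite F] {H : Subgroup ↥(chevE6.group F)}

/-- `A₇`, characteristic 2 -/
theorem seven_two [CharP F 2] {φ : ↥(alternatingGroup (Fin 7)) →* ↥(chevE6.group F)} (hS : Sit H 7 φ)
    {ψ : ↥(alternatingGroup (Fin 7)) →* ↥(Zgrp F)} (hψ : Lift φ ψ) : False := by
  have h2 : (2 : F) = 0 := by exact_mod_cast CharP.cast_eq_zero F 2
  obtain ⟨σ, σ', hP, hinv, hinv', h6, h6', h15, h8, h5⟩ := Cfsg.Agent.H905.E6T.facts (le_refl 7) hS hψ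
  exact Cfsg.Agent.H905.E6T.seven_kill h2 hP hinv hinv' h6 h6' h15 h8 h5

end Cfsg.Agent.H163.E6.Cases
end

-- part: H288/E6/EightOne
section
/-!
# S5927, characteristic 2, `A₈`, case (I): `A₇` has fixed vectors (helper288, after helper905's paper proof)
-/

set_option autoImplicit false
set_option linter.unusedSectionVars false
set_option linter.unusedSimpArgs false
set_option linter.unusedVariables false

namespace Cfsg.Agent.H288.E6

open Cfsg Cfsg.Lie Module Equiv
open Cfsg.Agent.ChevalleyStructure.E6Min.Tables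
open Cfsg.Agent.H952.F4 (ev es sh cr tf)
open Cfsg.Agent.H952.F4.Jord Cfsg.Agent.H905.E6T Cfsg.Agent.H163.E6

universe u

variable {F : Type u} [Field F]

section eight

variable {σ σ' : Representation F ↥(alternatingGroup (Fin 8)) (I27 → F)}

theorem z2 (h2 : (2 : F) = 0) (y : F) : y + y = 0 := by rw [← two_mul, h2, zero_mul]

theorem three_one (h2 : (2 : F) = 0) (y : F) : 3 * y = y := by linear_combination y * h2

/-- no linear relations except the sum -/
theorem indep8 (h2 : (2 : F) = 0) (hinv : σ.invariants = ⊥) {u : Fin 8 → I27 → F} (hu : Fam σ u) (h0 : u 0 ≠ 0)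
    {c : Fin 8 → F} (hc : ∑ i, c i • u i = 0) (a b : Fin 8) : c a = c b := by
  by_cases hab : a = b
  · rw [hab]
  have h1 : ∑ _k : Unit, ∑ i, c i • u i = 0 := by rw [Fintype.sum_unique]; exact hc
  have h3 := fam_rel (v := fun _ : Unit => u) h2 (by norm_num) hinv (fun _ => hu) h1 hab 0
  rw [Fintype.sum_unique] at h3
  have h4 := (smul_eq_zero.1 h3).resolve_right h0
  have h5 := z2 h2 (c b)
  linear_combination h4 - h5

theorem indep7 (h2 : (2 : F) = 0) (hinv : σ.invariants = ⊥) {u : Fin 8 → I27 → F} (hu : Fam σ u) (h0 : u 0 ≠ 0) :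
    LinearIndependent F (fun i : Fin 7 => u i.succ) := by
  rw [Fintype.linearIndependent_iff]
  intro c hc i
  have h1 : ∑ i, (Fin.cons 0 c : Fin 8 → F) i • u i = 0 := by
    rw [Fin.sum_univ_succ, Fin.cons_zero, zero_smul, zero_add]
    simpa only [_root_.Fin.cons_succ] using hc
  have h3 := indep8 h2 hinv hu h0 h1 0 i.succ
  rw [Fin.cons_zero, Fin.cons_succ] at h3
  exact h3.symm

theorem finrank_fam8 (h2 : (2 : F) = 0) (hinv : σ.invariants = ⊥) {u : Fin 8 → I27 → F} (hu : Fam σ u)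
    (h0 : u 0 ≠ 0) : finrank F (Submodule.span F (Set.range u)) = 7 := by
  have h3 := finrank_span_eq_card (indep7 h2 hinv hu h0)
  rw [Fintype.card_fin] at h3
  have h4 : Submodule.span F (Set.range u) = Submodule.span F (Set.range fun i : Fin 7 => u i.succ) := by
    apply le_antisymm
    · rw [Submodule.span_le]
      rintro _ ⟨i, rfl⟩
      refine Fin.cases ?_ (fun i => ?_) i
      · have h5 := fam_sum hinv hu
        rw [Fin.sum_univ_succ, add_eq_zero_iff_eq_neg] at h5
        change u 0 ∈ _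
        rw [h5]
        exact Submodule.neg_mem _ (Submodule.sum_mem _ fun i _ => Submodule.subset_span ⟨i, rfl⟩)
      · exact Submodule.subset_span ⟨i, rfl⟩
    · rw [Submodule.span_le]
      rintro _ ⟨i, rfl⟩
      exact Submodule.subset_span ⟨i.succ, rfl⟩
  rw [h4, h3]

/-- coefficients of fixed vectors -/
theorem coef (h2 : (2 : F) = 0) (hinv : σ.invariants = ⊥) {u : Fin 8 → I27 → F} (hu : Fam σ u) (h0 : u 0 ≠ 0)
    {c : Fin 8 → F} {g : ↥(alternatingGroup (Fin 8))} (hg : σ g (∑ i, c i • u i) = ∑ i, c i • u i) {p : Fin 8}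
    (hp : (g : Perm (Fin 8)) p = p) (i : Fin 8) : c ((g : Perm (Fin 8)) i) = c i := by
  have h1 : ∑ i, (c ((g : Perm (Fin 8)) i) - c i) • u ((g : Perm (Fin 8)) i) = 0 := by
    rw [map_sum] at hg
    simp_rw [sub_smul]
    rw [Finset.sum_sub_distrib, sub_eq_zero]
    rw [Equiv.sum_comp (g : Perm (Fin 8)) (fun i => c i • u i), ← hg]
    exact Finset.sum_congr rfl fun i _ => by rw [map_smul, hu]
  have h3 : ∑ i, (c i - c ((g : Perm (Fin 8)).symm i)) • u i = 0 := by
    rw [← h1, ← Equiv.sum_comp (g : Perm (Fin 8)) (fun i => (c i - c ((g : Perm (Fin 8)).symm i)) • u i)]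
    simp
  have h4 := indep8 h2 hinv hu h0 h3 ((g : Perm (Fin 8)) i) ((g : Perm (Fin 8)) p)
  rw [Equiv.symm_apply_apply, Equiv.symm_apply_apply, hp, sub_self, sub_eq_zero] at h4
  exact h4

/-- the situation -/
structure Dat (u : Fin 8 → I27 → F) (w : Fin 8 → Fin 8 → I27 → F) (b : F) : Prop where
  wd : ∀ i j, cr (u i) (u j) = w i j
  N : ∀ i, cubicT (u i) = b
  T : ∀ i j, tf (sh (u i)) (u j) = b
  TW : ∀ i j k, tf (w i j) (u k) = 0

theorem sum_lt_eq (f : Fin 8 → Fin 8 → F) :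
    ∑ p ∈ Finset.univ.filter (fun p : Fin 8 × Fin 8 => p.1 < p.2), f p.1 p.2 =
    f 0 1 + f 0 2 + f 0 3 + f 0 4 + f 0 5 + f 0 6 + f 0 7 + f 1 2 + f 1 3 + f 1 4 + f 1 5 + f 1 6 + f 1 7 + f 2 3 + f 2 4 +
      f 2 5 + f 2 6 + f 2 7 + f 3 4 + f 3 5 + f 3 6 + f 3 7 + f 4 5 + f 4 6 + f 4 7 + f 5 6 + f 5 7 + f 6 7 := by
  have h1 : (Finset.univ.filter fun p : Fin 8 × Fin 8 => p.1 < p.2) =
      {(0, 1), (0, 2), (0, 3), (0, 4), (0, 5), (0, 6), (0, 7), (1, 2), (1, 3), (1, 4), (1, 5), (1, 6), (1, 7), (2, 3),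
        (2, 4), (2, 5), (2, 6), (2, 7), (3, 4), (3, 5), (3, 6), (3, 7), (4, 5), (4, 6), (4, 7), (5, 6), (5, 7),
        (6, 7)} := by decide +kernel
  rw [h1]
  repeat rw [Finset.sum_insert (by decide +kernel)]
  rw [Finset.sum_singleton]
  simp only [add_assoc]

theorem exists_dat (h2 : (2 : F) = 0) (hP : PD σ σ') (hinv : σ.invariants = ⊥) (hinv' : σ'.invariants = ⊥)
    {u : Fin 8 → I27 → F} (hu : Fam σ u) :
    ∃ w b, Dat u w b ∧ Fam2 σ' w ∧ ∀ i, ∑ j, w i j = 0 := by
  obtain ⟨w, hwd⟩ : ∃ w : Fin 8 → Fin 8 → I27 → F, w = fun i j => cr (u i) (u j) := ⟨_, rfl⟩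
  have hw : Fam2 σ' w := by rw [hwd]; exact fam2_cr h2 hP hu
  have hs : ∑ i, u i = 0 := fam_sum hinv hu
  have hstar : ∀ i, ∑ j, w i j = 0 := fun i => by rw [hwd]; exact star_cr hs _
  have hwij : ∀ i j, cr (u i) (u j) = w i j := fun i j => by rw [hwd]
  clear hwd
  have hsh : ∀ (g : ↥(alternatingGroup (Fin 8))) i j,
      tf (sh (u ((g : Perm (Fin 8)) i))) (u ((g : Perm (Fin 8)) j)) = tf (sh (u i)) (u j) := by
    intro g i j
    rw [← hu, ← hu, hP.hsh, tf_comm, hP.htf, tf_comm]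
  have e1 : ∀ i, tf (sh (u i)) (u i) = tf (sh (u 0)) (u 0) := by
    intro i
    obtain ⟨g, hg⟩ := move1 (n := 8) (by norm_num) 0 i
    rw [← hg, hsh]
  have e2 : ∀ i j, i ≠ j → tf (sh (u i)) (u j) = tf (sh (u 0)) (u 1) := by
    intro i j hij
    obtain ⟨g, g0, g1⟩ := move2 (n := 8) (by norm_num) (a := 0) (b := 1) (by decide) hij
    rw [← g0, ← g1, hsh]
  have e3 : tf (sh (u 0)) (u 1) = tf (sh (u 0)) (u 0) := by
    have h1 := star_tf hs (sh (u 0))
    rw [Fin.sum_univ_eight, e2 0 2 (by decide), e2 0 3 (by decide), e2 0 4 (by decide), e2 0 5 (by decide),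
      e2 0 6 (by decide), e2 0 7 (by decide)] at h1
    linear_combination h1 - tf (sh (u 0)) (u 0) * h2 - 3 * tf (sh (u 0)) (u 1) * h2
  have act : ∀ (g : ↥(alternatingGroup (Fin 8))) (i j k : Fin 8),
      tf (w ((g : Perm (Fin 8)) i) ((g : Perm (Fin 8)) j)) (u ((g : Perm (Fin 8)) k)) = tf (w i j) (u k) := by
    intro g i j k
    rw [← hw.act, ← hu, hP.symm.htf]
  have f1 : ∀ {a b c : Fin 8}, a ≠ b → a ≠ c → b ≠ c → tf (w a b) (u c) = tf (w 1 2) (u 0) := by
    intro a b c hab hac hbc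
    obtain ⟨g, g0, g1, g2⟩ := move3 (n := 8) (by norm_num) (a := 1) (b := 2) (c := 0) (by decide) (by decide)
      (by decide) hab hac hbc
    rw [← g0, ← g1, ← g2, act]
  have f2 : ∀ a b : Fin 8, tf (w a b) (u b) = 0 := by
    intro a b
    rw [← hwij, tf_cr, cr_self2 h2, tf_zero_right]
  have f3 : ∀ a b : Fin 8, tf (w a b) (u a) = 0 := by
    intro a b
    rw [hw.comm, f2]
  have f4 : tf (w 1 2) (u 0) = 0 := by
    have h1 := fam2_all hw hinv'
    have h3 : ∑ p ∈ Finset.univ.filter (fun p : Fin 8 × Fin 8 => p.1 < p.2), tf (w p.1 p.2) (u 0) = 0 := by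
      have h4 := map_sum ((tfB F).flip (u 0)) (fun p : Fin 8 × Fin 8 => w p.1 p.2)
        (Finset.univ.filter (fun p : Fin 8 × Fin 8 => p.1 < p.2))
      rw [h1, map_zero] at h4
      exact h4.symm
    rw [sum_lt_eq (fun i j => tf (w i j) (u 0))] at h3
    simp only [f3] at h3
    simp only [f1 (show (1 : Fin 8) ≠ 3 by decide) (show (1 : Fin 8) ≠ 0 by decide) (show (3 : Fin 8) ≠ 0 by decide),
      f1 (show (1 : Fin 8) ≠ 4 by decide) (show (1 : Fin 8) ≠ 0 by decide) (show (4 : Fin 8) ≠ 0 by decide),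
      f1 (show (1 : Fin 8) ≠ 5 by decide) (show (1 : Fin 8) ≠ 0 by decide) (show (5 : Fin 8) ≠ 0 by decide),
      f1 (show (1 : Fin 8) ≠ 6 by decide) (show (1 : Fin 8) ≠ 0 by decide) (show (6 : Fin 8) ≠ 0 by decide),
      f1 (show (1 : Fin 8) ≠ 7 by decide) (show (1 : Fin 8) ≠ 0 by decide) (show (7 : Fin 8) ≠ 0 by decide),
      f1 (show (2 : Fin 8) ≠ 3 by decide) (show (2 : Fin 8) ≠ 0 by decide) (show (3 : Fin 8) ≠ 0 by decide),
      f1 (show (2 : Fin 8) ≠ 4 by decide) (show (2 : Fin 8) ≠ 0 by decide) (show (4 : Fin 8) ≠ 0 by decide),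
      f1 (show (2 : Fin 8) ≠ 5 by decide) (show (2 : Fin 8) ≠ 0 by decide) (show (5 : Fin 8) ≠ 0 by decide),
      f1 (show (2 : Fin 8) ≠ 6 by decide) (show (2 : Fin 8) ≠ 0 by decide) (show (6 : Fin 8) ≠ 0 by decide),
      f1 (show (2 : Fin 8) ≠ 7 by decide) (show (2 : Fin 8) ≠ 0 by decide) (show (7 : Fin 8) ≠ 0 by decide),
      f1 (show (3 : Fin 8) ≠ 4 by decide) (show (3 : Fin 8) ≠ 0 by decide) (show (4 : Fin 8) ≠ 0 by decide),
      f1 (show (3 : Fin 8) ≠ 5 by decide) (show (3 : Fin 8) ≠ 0 by decide) (show (5 : Fin 8) ≠ 0 by decide),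
      f1 (show (3 : Fin 8) ≠ 6 by decide) (show (3 : Fin 8) ≠ 0 by decide) (show (6 : Fin 8) ≠ 0 by decide),
      f1 (show (3 : Fin 8) ≠ 7 by decide) (show (3 : Fin 8) ≠ 0 by decide) (show (7 : Fin 8) ≠ 0 by decide),
      f1 (show (4 : Fin 8) ≠ 5 by decide) (show (4 : Fin 8) ≠ 0 by decide) (show (5 : Fin 8) ≠ 0 by decide),
      f1 (show (4 : Fin 8) ≠ 6 by decide) (show (4 : Fin 8) ≠ 0 by decide) (show (6 : Fin 8) ≠ 0 by decide),
      f1 (show (4 : Fin 8) ≠ 7 by decide) (show (4 : Fin 8) ≠ 0 by decide) (show (7 : Fin 8) ≠ 0 by decide),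
      f1 (show (5 : Fin 8) ≠ 6 by decide) (show (5 : Fin 8) ≠ 0 by decide) (show (6 : Fin 8) ≠ 0 by decide),
      f1 (show (5 : Fin 8) ≠ 7 by decide) (show (5 : Fin 8) ≠ 0 by decide) (show (7 : Fin 8) ≠ 0 by decide),
      f1 (show (6 : Fin 8) ≠ 7 by decide) (show (6 : Fin 8) ≠ 0 by decide) (show (7 : Fin 8) ≠ 0 by decide)] at h3
    linear_combination h3 - 10 * tf (w 1 2) (u 0) * h2
  refine ⟨w, tf (sh (u 0)) (u 0), ⟨hwij, ?_, ?_, ?_⟩, hw, hstar⟩
  · intro i
    rw [← e1 i, tf_sh_self, three_one h2]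
  · intro i j
    by_cases hij : i = j
    · rw [← hij, e1]
    · rw [e2 i j hij, e3]
  · intro i j k
    by_cases hij : i = j
    · rw [hij, hw.diag, tf_zero_left]
    by_cases hik : i = k
    · rw [← hik, f3]
    by_cases hjk : j = k
    · rw [← hjk, f2]
    rw [f1 hij hik hjk, f4]

/-! ### identities -/

theorem solve2 (h2 : (2 : F) = 0) {M : Type*} [AddCommGroup M] [Module F M] {x y z : M} (h : x + y = z) : x = y + z := by
  rw [← h, add_comm x y, ← add_assoc, add_self2 h2, zero_add]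

variable {u : Fin 8 → I27 → F} {w : Fin 8 → Fin 8 → I27 → F} {b : F}

theorem Dat.comm (D : Dat u w b) (i j : Fin 8) : w i j = w j i := by rw [← D.wd, cr_comm, D.wd]

theorem Dat.diag (h2 : (2 : F) = 0) (D : Dat u w b) (i : Fin 8) : w i i = 0 := by rw [← D.wd, cr_self2 h2]

theorem Dat.TW' (D : Dat u w b) (i j k : Fin 8) : tf (u k) (w i j) = 0 := by rw [tf_comm, D.TW]

theorem Dat.T' (D : Dat u w b) (i j : Fin 8) : tf (u j) (sh (u i)) = b := by rw [tf_comm, D.T]

theorem Dat.R1 (h2 : (2 : F) = 0) (D : Dat u w b) (i j k : Fin 8) :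
    cr (w i j) (w i k) = cr (sh (u i)) (w j k) + (b • u k + b • u j) := by
  have h := cr_cr (u i) (u j) (u k)
  rw [D.wd, D.wd, D.wd, D.T, D.T, D.TW', zero_smul, add_zero] at h
  exact solve2 h2 h

theorem Dat.R2 (D : Dat u w b) (i k : Fin 8) : cr (sh (u i)) (w i k) = b • u k + b • u i := by
  have h := cr_sh_cr (u i) (u k)
  rw [D.wd, D.N, D.T] at h
  exact h

theorem Dat.R3 (h2 : (2 : F) = 0) (D : Dat u w b) (i j : Fin 8) :
    sh (w i j) = cr (sh (u i)) (sh (u j)) + (b • u j + b • u i) := by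
  have h := sh_cr (u i) (u j)
  rw [D.wd, D.T, D.T'] at h
  exact solve2 h2 h

/-- `tf` of a combination of two `u` -/
theorem Dat.TUW (D : Dat u w b) (c d : F) (i j k l : Fin 8) : tf (c • u i + d • u j) (w k l) = 0 := by
  rw [tf_add_left, tf_smul_left, tf_smul_left, D.TW', D.TW', mul_zero, mul_zero, add_zero]

theorem Dat.TUS (h2 : (2 : F) = 0) (D : Dat u w b) (c : F) (i j k : Fin 8) : tf (c • u i + c • u j) (sh (u k)) = 0 := by
  rw [tf_add_left, tf_smul_left, tf_smul_left, D.T', D.T', z2 h2]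

theorem Dat.E0 (h2 : (2 : F) = 0) (D : Dat u w b) (i j l : Fin 8) : tf (cr (sh (u i)) (sh (u j))) (w i l) = 0 := by
  rw [cr_comm, tf_cr, D.R2, tf_comm, D.TUS h2]

theorem Dat.E1 (h2 : (2 : F) = 0) (hP : PD σ σ') (hu : Fam σ u) (hw : Fam2 σ' w) (hstar : ∀ i, ∑ j, w i j = 0)
    (D : Dat u w b) (i j k l : Fin 8) : tf (cr (sh (u i)) (sh (u j))) (w k l) = 0 := by
  have act : ∀ (g : ↥(alternatingGroup (Fin 8))) (i j k l : Fin 8),
      tf (cr (sh (u ((g : Perm (Fin 8)) i))) (sh (u ((g : Perm (Fin 8)) j))))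
        (w ((g : Perm (Fin 8)) k) ((g : Perm (Fin 8)) l)) = tf (cr (sh (u i)) (sh (u j))) (w k l) := by
    intro g i j k l
    rw [← hu, ← hu, hP.hsh, hP.hsh, hP.symm.hcr, ← hw.act, hP.htf]
  by_cases hij : i = j
  · rw [hij, cr_self2 h2, tf_zero_left]
  by_cases hkl : k = l
  · rw [hkl, D.diag h2, tf_zero_right]
  by_cases hik : i = k
  · rw [← hik, D.E0 h2]
  by_cases hil : i = l
  · rw [← hil, D.comm, D.E0 h2]
  by_cases hjk : j = k
  · rw [← hjk, cr_comm, D.E0 h2]
  by_cases hjl : j = l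
  · rw [← hjl, D.comm, cr_comm, D.E0 h2]
  have e1 : ∀ {a b c d : Fin 8}, a ≠ b → a ≠ c → a ≠ d → b ≠ c → b ≠ d → c ≠ d →
      tf (cr (sh (u a)) (sh (u b))) (w c d) = tf (cr (sh (u 0)) (sh (u 1))) (w 2 3) := by
    intro a b c d h1 h2' h3 h4 h5 h6
    obtain ⟨g, g0, g1, g2, g3⟩ := move4 (n := 8) (by norm_num) (a := 0) (b := 1) (c := 2) (d := 3) (by decide)
      (by decide) (by decide) (by decide) (by decide) (by decide) h1 h2' h3 h4 h5 h6
    rw [← g0, ← g1, ← g2, ← g3, act]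
  rw [e1 hij hik hil hjk hjl hkl]
  have h1 := star_tf (hstar 2) (cr (sh (u 0)) (sh (u 1)))
  rw [Fin.sum_univ_eight, D.comm 2 0, D.comm 2 1, D.diag h2, D.E0 h2, cr_comm (sh (u 0)) (sh (u 1)), D.E0 h2,
    cr_comm (sh (u 1)) (sh (u 0)), tf_zero_right,
    e1 (c := 2) (d := 4) (by decide) (by decide) (by decide) (by decide) (by decide) (by decide),
    e1 (c := 2) (d := 5) (by decide) (by decide) (by decide) (by decide) (by decide) (by decide),
    e1 (c := 2) (d := 6) (by decide) (by decide) (by decide) (by decide) (by decide) (by decide),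
    e1 (c := 2) (d := 7) (by decide) (by decide) (by decide) (by decide) (by decide) (by decide)] at h1
  linear_combination h1 - 2 * tf (cr (sh (u 0)) (sh (u 1))) (w 2 3) * h2

theorem tri_swap (a b c : I27 → F) : tf (cr a b) c = tf (cr a c) b := by rw [tf_cr, cr_comm b c, ← tf_cr]

theorem inj_five {n : ℕ} {a b c d e : Fin n} (h1 : a ≠ b) (h2 : a ≠ c) (h3 : a ≠ d) (h4 : a ≠ e) (h5 : b ≠ c)
    (h6 : b ≠ d) (h7 : b ≠ e) (h8 : c ≠ d) (h9 : c ≠ e) (h10 : d ≠ e) : Function.Injective ![a, b, c, d, e] := by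
  intro i j hij
  fin_cases i <;> fin_cases j <;> simp_all

theorem inj_six {n : ℕ} {a b c d e f : Fin n} (h1 : a ≠ b) (h2 : a ≠ c) (h3 : a ≠ d) (h4 : a ≠ e) (h5 : b ≠ c)
    (h6 : b ≠ d) (h7 : b ≠ e) (h8 : c ≠ d) (h9 : c ≠ e) (h10 : d ≠ e) (k1 : a ≠ f) (k2 : b ≠ f) (k3 : c ≠ f)
    (k4 : d ≠ f) (k5 : e ≠ f) : Function.Injective ![a, b, c, d, e, f] := by
  intro i j hij
  fin_cases i <;> fin_cases j <;> simp_all

theorem Dat.Z2a (h2 : (2 : F) = 0) (hP : PD σ σ') (hu : Fam σ u) (hw : Fam2 σ' w) (hstar : ∀ i, ∑ j, w i j = 0)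
    (D : Dat u w b) (i j k m : Fin 8) : tf (sh (u i)) (cr (w j k) (w j m)) = 0 := by
  rw [D.R1 h2, tf_add_right, ← tf_cr, D.E1 h2 hP hu hw hstar, zero_add, tf_comm, D.TUS h2]

theorem Dat.Z2b (D : Dat u w b) (i k l m : Fin 8) : tf (sh (u i)) (cr (w i k) (w l m)) = 0 := by
  rw [← tf_cr, D.R2, D.TUW]

theorem Dat.Z2 (h2 : (2 : F) = 0) (hP : PD σ σ') (hu : Fam σ u) (hw : Fam2 σ' w) (hstar : ∀ i, ∑ j, w i j = 0)
    (D : Dat u w b) (i j k l m : Fin 8) : tf (sh (u i)) (cr (w j k) (w l m)) = 0 := by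
  have act : ∀ (g : ↥(alternatingGroup (Fin 8))) (i j k l m : Fin 8),
      tf (sh (u ((g : Perm (Fin 8)) i))) (cr (w ((g : Perm (Fin 8)) j) ((g : Perm (Fin 8)) k))
        (w ((g : Perm (Fin 8)) l) ((g : Perm (Fin 8)) m))) = tf (sh (u i)) (cr (w j k) (w l m)) := by
    intro g i j k l m
    rw [← hu, hP.hsh, ← hw.act, ← hw.act, hP.symm.hcr, hP.symm.htf]
  by_cases hjk : j = k
  · rw [hjk, D.diag h2, cr_zero_left, tf_zero_right]
  by_cases hlm : l = m
  · rw [hlm, D.diag h2, cr_zero_right, tf_zero_right]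
  by_cases hij : i = j
  · rw [hij, D.Z2b]
  by_cases hik : i = k
  · rw [hik, D.comm j k, D.Z2b]
  by_cases hil : i = l
  · rw [hil, cr_comm, D.Z2b]
  by_cases him : i = m
  · rw [him, cr_comm, D.comm l m, D.Z2b]
  by_cases hjl : j = l
  · rw [hjl, D.Z2a h2 hP hu hw hstar]
  by_cases hjm : j = m
  · rw [hjm, D.comm l m, D.Z2a h2 hP hu hw hstar]
  by_cases hkl : k = l
  · rw [hkl, D.comm j l, D.Z2a h2 hP hu hw hstar]
  by_cases hkm : k = m
  · rw [hkm, D.comm j m, D.comm l m, D.Z2a h2 hP hu hw hstar]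
  have e1 : ∀ {a b c d e a' b' c' d' e' : Fin 8}, Function.Injective ![a, b, c, d, e] →
      Function.Injective ![a', b', c', d', e'] → tf (sh (u a)) (cr (w b c) (w d e)) =
        tf (sh (u a')) (cr (w b' c') (w d' e')) := by
    intro a b c d e a' b' c' d' e' h h'
    obtain ⟨g, hg⟩ := move (n := 8) (k := 5) (by norm_num) ⟨_, h⟩ ⟨_, h'⟩
    have g0 : (g : Perm (Fin 8)) a = a' := hg 0
    have g1 : (g : Perm (Fin 8)) b = b' := hg 1
    have g2 : (g : Perm (Fin 8)) c = c' := hg 2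
    have g3 : (g : Perm (Fin 8)) d = d' := hg 3
    have g4 : (g : Perm (Fin 8)) e = e' := hg 4
    rw [← g0, ← g1, ← g2, ← g3, ← g4, act]
  have h1 := congrArg (tf (sh (u i))) (cr_four (u j) (u l) (u k) (u m))
  simp only [D.wd] at h1
  rw [D.TW, D.TW, D.TW', D.TW', zero_smul, zero_smul, zero_smul, zero_smul, add_zero, add_zero, add_zero, tf_zero_right,
    tf_add_right, tf_add_right] at h1
  rw [e1 (a := i) (b := l) (c := k) (d := j) (e := m) (a' := i) (b' := j) (c' := k) (d' := l) (e' := m)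
      (inj_five hil hik hij him (Ne.symm hkl) (Ne.symm hjl) hlm (Ne.symm hjk) hkm hjm)
      (inj_five hij hik hil him hjk hjl hjm hkl hkm hlm),
    e1 (a := i) (b := j) (c := l) (d := k) (e := m) (a' := i) (b' := j) (c' := k) (d' := l) (e' := m)
      (inj_five hij hil hik him hjl hjk hjm (Ne.symm hkl) hlm hkm)
      (inj_five hij hik hil him hjk hjl hjm hkl hkm hlm)] at h1
  linear_combination h1 - tf (sh (u i)) (cr (w j k) (w l m)) * h2

theorem Dat.T1 (h2 : (2 : F) = 0) (hP : PD σ σ') (hu : Fam σ u) (hw : Fam2 σ' w) (hstar : ∀ i, ∑ j, w i j = 0)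
    (D : Dat u w b) (i j k l m : Fin 8) : tf (cr (w i j) (w i k)) (w l m) = 0 := by
  rw [D.R1 h2, tf_add_left, D.TUW, add_zero, tf_cr, D.Z2 h2 hP hu hw hstar]

theorem Dat.T2 (h2 : (2 : F) = 0) (hP : PD σ σ') (hu : Fam σ u) (hw : Fam2 σ' w) (hstar : ∀ i, ∑ j, w i j = 0)
    (D : Dat u w b) (i j k l m n : Fin 8) : tf (cr (w i j) (w k l)) (w m n) = 0 := by
  have T1 := D.T1 h2 hP hu hw hstar
  -- one pair meets another one
  have T1' : ∀ i j k l m n : Fin 8, (i = k ∨ i = l ∨ j = k ∨ j = l) → tf (cr (w i j) (w k l)) (w m n) = 0 := by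
    rintro i j k l m n (rfl | rfl | rfl | rfl)
    · exact T1 _ _ _ _ _
    · rw [D.comm k i]; exact T1 _ _ _ _ _
    · rw [D.comm i j]; exact T1 _ _ _ _ _
    · rw [D.comm i j, D.comm k j]; exact T1 _ _ _ _ _
  by_cases hij : i = j
  · rw [hij, D.diag h2, cr_zero_left, tf_zero_left]
  by_cases hkl : k = l
  · rw [hkl, D.diag h2, cr_zero_right, tf_zero_left]
  by_cases hmn : m = n
  · rw [hmn, D.diag h2, tf_zero_right]
  by_cases h1 : i = k ∨ i = l ∨ j = k ∨ j = l
  · exact T1' _ _ _ _ _ _ h1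
  by_cases h3 : i = m ∨ i = n ∨ j = m ∨ j = n
  · rw [tri_swap]; exact T1' _ _ _ _ _ _ h3
  by_cases h4 : k = m ∨ k = n ∨ l = m ∨ l = n
  · rw [cr_comm, tri_swap]; exact T1' _ _ _ _ _ _ h4
  simp only [not_or] at h1 h3 h4
  obtain ⟨ik, il, jk, jl⟩ := h1
  obtain ⟨im, hin, jm, jn⟩ := h3
  obtain ⟨km, kn, lm, ln⟩ := h4
  have act : ∀ (g : ↥(alternatingGroup (Fin 8))) (i j k l m n : Fin 8),
      tf (cr (w ((g : Perm (Fin 8)) i) ((g : Perm (Fin 8)) j)) (w ((g : Perm (Fin 8)) k) ((g : Perm (Fin 8)) l)))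
        (w ((g : Perm (Fin 8)) m) ((g : Perm (Fin 8)) n)) = tf (cr (w i j) (w k l)) (w m n) := by
    intro g i j k l m n
    rw [← hw.act, ← hw.act, ← hw.act, hP.symm.hcr, hP.htf]
  have e1 : ∀ {a b c d e f : Fin 8}, Function.Injective ![a, b, c, d, e, f] →
      tf (cr (w a b) (w c d)) (w e f) = tf (cr (w 0 1) (w 2 3)) (w 4 5) := by
    intro a b c d e f h
    obtain ⟨g, hg⟩ := move (n := 8) (k := 6) (by norm_num) ⟨![0, 1, 2, 3, 4, 5], by decide⟩ ⟨_, h⟩
    have g0 : (g : Perm (Fin 8)) 0 = a := hg 0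
    have g1 : (g : Perm (Fin 8)) 1 = b := hg 1
    have g2 : (g : Perm (Fin 8)) 2 = c := hg 2
    have g3 : (g : Perm (Fin 8)) 3 = d := hg 3
    have g4 : (g : Perm (Fin 8)) 4 = e := hg 4
    have g5 : (g : Perm (Fin 8)) 5 = f := hg 5
    rw [← g0, ← g1, ← g2, ← g3, ← g4, ← g5, act]
  rw [e1 (inj_six hij ik il im jk jl jm hkl km lm hin jn kn ln hmn)]
  have h5 := star_tf (hstar 4) (cr (w 0 1) (w 2 3))
  rw [Fin.sum_univ_eight, D.diag h2, tf_zero_right, tri_swap _ _ (w 4 0), T1' 0 1 4 0 _ _ (by (clear * -; tauto)),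
    tri_swap _ _ (w 4 1), T1' 0 1 4 1 _ _ (by (clear * -; tauto)), cr_comm (w 0 1) (w 2 3), tri_swap _ _ (w 4 2),
    T1' 2 3 4 2 _ _ (by (clear * -; tauto)), tri_swap _ _ (w 4 3), T1' 2 3 4 3 _ _ (by (clear * -; tauto)), cr_comm (w 2 3) (w 0 1),
    e1 (a := 0) (b := 1) (c := 2) (d := 3) (e := 4) (f := 6) (by decide),
    e1 (a := 0) (b := 1) (c := 2) (d := 3) (e := 4) (f := 7) (by decide)] at h5
  linear_combination h5 - tf (cr (w 0 1) (w 2 3)) (w 4 5) * h2

theorem Dat.T3 (h2 : (2 : F) = 0) (hP : PD σ σ') (hu : Fam σ u) (hw : Fam2 σ' w) (hstar : ∀ i, ∑ j, w i j = 0)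
    (D : Dat u w b) (i j k l : Fin 8) : tf (sh (w i j)) (w k l) = 0 := by
  rw [D.R3 h2, tf_add_left, D.E1 h2 hP hu hw hstar, D.TUW, add_zero]

/-! ### group elements -/

def g234 : ↥(alternatingGroup (Fin 8)) := ⟨c[(2 : Fin 8), 3, 4], Perm.mem_alternatingGroup.2 (by decide +kernel)⟩
def g345 : ↥(alternatingGroup (Fin 8)) := ⟨c[(3 : Fin 8), 4, 5], Perm.mem_alternatingGroup.2 (by decide +kernel)⟩
def g456 : ↥(alternatingGroup (Fin 8)) := ⟨c[(4 : Fin 8), 5, 6], Perm.mem_alternatingGroup.2 (by decide +kernel)⟩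
def g567 : ↥(alternatingGroup (Fin 8)) := ⟨c[(5 : Fin 8), 6, 7], Perm.mem_alternatingGroup.2 (by decide +kernel)⟩
def g123 : ↥(alternatingGroup (Fin 8)) := ⟨c[(1 : Fin 8), 2, 3], Perm.mem_alternatingGroup.2 (by decide +kernel)⟩
def h0123 : ↥(alternatingGroup (Fin 8)) := ⟨swap (0 : Fin 8) 1 * swap (2 : Fin 8) 3, Perm.mem_alternatingGroup.2 (by decide +kernel)⟩
def h0145 : ↥(alternatingGroup (Fin 8)) := ⟨swap (0 : Fin 8) 1 * swap (4 : Fin 8) 5, Perm.mem_alternatingGroup.2 (by decide +kernel)⟩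
def h2345 : ↥(alternatingGroup (Fin 8)) := ⟨swap (2 : Fin 8) 3 * swap (4 : Fin 8) 5, Perm.mem_alternatingGroup.2 (by decide +kernel)⟩
def h0213 : ↥(alternatingGroup (Fin 8)) := ⟨swap (0 : Fin 8) 2 * swap (1 : Fin 8) 3, Perm.mem_alternatingGroup.2 (by decide +kernel)⟩
def h1234 : ↥(alternatingGroup (Fin 8)) := ⟨swap (1 : Fin 8) 2 * swap (3 : Fin 8) 4, Perm.mem_alternatingGroup.2 (by decide +kernel)⟩

/-- the vector `sh (w 0 1)` -/
theorem shape1 (h2 : (2 : F) = 0) (hinv : σ.invariants = ⊥) {u : Fin 8 → I27 → F} (hu : Fam σ u) (h0 : u 0 ≠ 0)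
    {c : Fin 8 → F} (h : ∀ g : ↥(alternatingGroup (Fin 8)), ((g : Perm (Fin 8)) 0 = 0 ∧ (g : Perm (Fin 8)) 1 = 1) ∨
      ((g : Perm (Fin 8)) 0 = 1 ∧ (g : Perm (Fin 8)) 1 = 0) → σ g (∑ i, c i • u i) = ∑ i, c i • u i) :
    ∃ k : F, ∑ i, c i • u i = k • (u 0 + u 1) := by
  have key := fun {g : ↥(alternatingGroup (Fin 8))} (hg : σ g (∑ i, c i • u i) = ∑ i, c i • u i) {p : Fin 8}
    (hp : (g : Perm (Fin 8)) p = p) => coef h2 hinv hu h0 hg hp
  have a1 := key (h g234 (by decide +kernel)) (p := 0) (by decide +kernel)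
  have a2 := key (h g456 (by decide +kernel)) (p := 0) (by decide +kernel)
  have a3 := key (h g567 (by decide +kernel)) (p := 0) (by decide +kernel)
  have a4 := key (h h0123 (by decide +kernel)) (p := 4) (by decide +kernel)
  have e3 : c 3 = c 2 := a1 2
  have e4 : c 4 = c 3 := a1 3
  have e5 : c 5 = c 4 := a2 4
  have e6 : c 6 = c 5 := a2 5
  have e7 : c 7 = c 6 := a3 6
  have e1 : c 1 = c 0 := a4 0
  have hs := fam_sum hinv hu
  rw [Fin.sum_univ_eight] at hs ⊢
  refine ⟨c 0 + c 2, ?_⟩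
  rw [e7, e6, e5, e4, e3, e1]
  have h5 : u 2 + u 3 + u 4 + u 5 + u 6 + u 7 = u 0 + u 1 := by
    apply eq_of_add2 h2
    rw [← hs]
    abel
  have h6 : c 0 • u 0 + c 0 • u 1 + c 2 • u 2 + c 2 • u 3 + c 2 • u 4 + c 2 • u 5 + c 2 • u 6 + c 2 • u 7 =
      c 0 • (u 0 + u 1) + c 2 • (u 2 + u 3 + u 4 + u 5 + u 6 + u 7) := by module
  rw [h6, h5, add_smul]

/-- the vector `cr (w 0 1) (w 2 3)` -/
theorem shape2 (h2 : (2 : F) = 0) (hinv : σ.invariants = ⊥) {u : Fin 8 → I27 → F} (hu : Fam σ u) (h0 : u 0 ≠ 0)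
    {c : Fin 8 → F} (h : ∀ g ∈ [g456, g567, h0145, h2345, h0213], σ g (∑ i, c i • u i) = ∑ i, c i • u i) :
    ∃ k : F, ∑ i, c i • u i = k • (u 0 + u 1 + u 2 + u 3) := by
  have key := fun {g : ↥(alternatingGroup (Fin 8))} (hg : σ g (∑ i, c i • u i) = ∑ i, c i • u i) {p : Fin 8}
    (hp : (g : Perm (Fin 8)) p = p) => coef h2 hinv hu h0 hg hp
  have a1 := key (h g456 (by simp)) (p := 0) (by decide +kernel)
  have a2 := key (h g567 (by simp)) (p := 0) (by decide +kernel)
  have a3 := key (h h0145 (by simp)) (p := 2) (by decide +kernel)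
  have a4 := key (h h2345 (by simp)) (p := 0) (by decide +kernel)
  have a5 := key (h h0213 (by simp)) (p := 4) (by decide +kernel)
  have e5 : c 5 = c 4 := a1 4
  have e6 : c 6 = c 5 := a1 5
  have e7 : c 7 = c 6 := a2 6
  have e1 : c 1 = c 0 := a3 0
  have e3 : c 3 = c 2 := a4 2
  have e2 : c 2 = c 0 := a5 0
  have hs := fam_sum hinv hu
  rw [Fin.sum_univ_eight] at hs ⊢
  refine ⟨c 0 + c 4, ?_⟩
  rw [e7, e6, e5, e3, e2, e1]
  have h5 : u 4 + u 5 + u 6 + u 7 = u 0 + u 1 + u 2 + u 3 := by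
    apply eq_of_add2 h2
    rw [← hs]
    abel
  have h6 : c 0 • u 0 + c 0 • u 1 + c 0 • u 2 + c 0 • u 3 + c 4 • u 4 + c 4 • u 5 + c 4 • u 6 + c 4 • u 7 =
      c 0 • (u 0 + u 1 + u 2 + u 3) + c 4 • (u 4 + u 5 + u 6 + u 7) := by module
  rw [h6, h5, add_smul]

/-- the vector `cr (w 0 1) (w 0 2)` -/
theorem shape3 (h2 : (2 : F) = 0) (hinv : σ.invariants = ⊥) {u : Fin 8 → I27 → F} (hu : Fam σ u) (h0 : u 0 ≠ 0)
    {c : Fin 8 → F} (h : ∀ g ∈ [g345, g567, h1234], σ g (∑ i, c i • u i) = ∑ i, c i • u i) :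
    ∃ a k : F, ∑ i, c i • u i = a • u 0 + k • (u 1 + u 2) := by
  have key := fun {g : ↥(alternatingGroup (Fin 8))} (hg : σ g (∑ i, c i • u i) = ∑ i, c i • u i) {p : Fin 8}
    (hp : (g : Perm (Fin 8)) p = p) => coef h2 hinv hu h0 hg hp
  have a1 := key (h g345 (by simp)) (p := 0) (by decide +kernel)
  have a2 := key (h g567 (by simp)) (p := 0) (by decide +kernel)
  have a3 := key (h h1234 (by simp)) (p := 0) (by decide +kernel)
  have e4 : c 4 = c 3 := a1 3
  have e5 : c 5 = c 4 := a1 4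
  have e6 : c 6 = c 5 := a2 5
  have e7 : c 7 = c 6 := a2 6
  have e2 : c 2 = c 1 := a3 1
  have hs := fam_sum hinv hu
  rw [Fin.sum_univ_eight] at hs ⊢
  refine ⟨c 0 + c 3, c 1 + c 3, ?_⟩
  rw [e7, e6, e5, e4, e2]
  have h5 : u 3 + u 4 + u 5 + u 6 + u 7 = u 0 + u 1 + u 2 := by
    apply eq_of_add2 h2
    rw [← hs]
    abel
  have h6 : c 0 • u 0 + c 1 • u 1 + c 1 • u 2 + c 3 • u 3 + c 3 • u 4 + c 3 • u 5 + c 3 • u 6 + c 3 • u 7 =
      c 0 • u 0 + c 1 • (u 1 + u 2) + c 3 • (u 3 + u 4 + u 5 + u 6 + u 7) := by module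
  rw [h6, h5]
  module

/-- orthogonal vectors are combinations of the `u i` -/
theorem exists_comb (h2 : (2 : F) = 0) (hinv : σ.invariants = ⊥) (hu : Fam σ u) (h0 : u 0 ≠ 0) (hw : Fam2 σ' w)
    (D : Dat u w b) (hZ : Z w 0 1 2 3 ≠ 0) {x : I27 → F} (hx : ∀ k l, tf x (w k l) = 0) :
    ∃ c : Fin 8 → F, ∑ i, c i • u i = x := by
  have hli := Cfsg.Agent.H905.E6T.indep h2 (by norm_num) good8 hw (z0 := 0) (z1 := 1) (z2 := 2) (z3 := 3) rfl rfl rfl rfl
    hZ
  have h1 := finrank_span_eq_card hli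
  rw [card_BP8] at h1
  set M := Submodule.span F (Set.range fun p : Fin 8 × Fin 8 => w p.1 p.2) with hM
  have h3 : Submodule.span F (Set.range fun p : {p : Fin 8 × Fin 8 // BP p} => w p.1.1 p.1.2) ≤ M := by
    apply Submodule.span_mono
    rintro _ ⟨p, rfl⟩
    exact ⟨p.1, rfl⟩
  have h4 := Submodule.finrank_mono h3
  have h5 := finrank_perp M
  have h6 : Submodule.span F (Set.range u) ≤ perp M := by
    rw [Submodule.span_le]
    rintro _ ⟨i, rfl⟩
    rw [SetLike.mem_coe, hM, perp_span]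
    intro p
    exact D.TW _ _ _
  have h7 := finrank_fam8 h2 hinv hu h0
  have h8 := Submodule.eq_of_le_of_finrank_le h6 (by omega)
  have h9 : x ∈ perp M := by
    rw [hM, perp_span]
    intro p
    rw [tf_comm]
    exact hx _ _
  rw [← h8] at h9
  exact (Submodule.mem_span_range_iff_exists_fun F).1 h9

/-- the action on products of the `w i j` -/
theorem act_cr (hP : PD σ σ') (hw : Fam2 σ' w) (g : ↥(alternatingGroup (Fin 8))) (i j k l : Fin 8) :
    σ g (cr (w i j) (w k l)) = cr (w ((g : Perm (Fin 8)) i) ((g : Perm (Fin 8)) j))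
      (w ((g : Perm (Fin 8)) k) ((g : Perm (Fin 8)) l)) := by
  rw [← hw.act, ← hw.act, hP.symm.hcr]

theorem act_sh (hP : PD σ σ') (hw : Fam2 σ' w) (g : ↥(alternatingGroup (Fin 8))) (i j : Fin 8) :
    σ g (sh (w i j)) = sh (w ((g : Perm (Fin 8)) i) ((g : Perm (Fin 8)) j)) := by
  rw [← hw.act, hP.hsh']

theorem u_ne (hinv : σ.invariants = ⊥) (hu : Fam σ u) (h0 : u 0 ≠ 0) (h2 : (2 : F) = 0) : u 0 + u 1 ≠ 0 := by
  intro h
  have h1 := fam_const (by norm_num) hinv hu (a := 0) (b := 1) (by decide) (eq_of_add2 h2 h) 0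
  exact h0 h1

theorem caseB1 (h2 : (2 : F) = 0) (hP : PD σ σ') (hinv : σ.invariants = ⊥)
    (hu : Fam σ u) (h0 : u 0 ≠ 0) (hw : Fam2 σ' w) (hstar : ∀ i, ∑ j, w i j = 0) (D : Dat u w b)
    (hZ : Z w 0 1 2 3 ≠ 0) : sh (w 0 1) = 0 := by
  obtain ⟨c, hc⟩ := exists_comb h2 hinv hu h0 hw D hZ (x := sh (w 0 1)) (fun k l => D.T3 h2 hP hu hw hstar 0 1 k l)
  obtain ⟨k, hk⟩ := shape1 h2 hinv hu h0 (c := c) (by
    intro g hg
    rw [hc, act_sh hP hw]
    rcases hg with ⟨h1, h3⟩ | ⟨h1, h3⟩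
    · rw [h1, h3]
    · rw [h1, h3, D.comm])
  rw [hc] at hk
  by_cases hk0 : k = 0
  · rw [hk, hk0, zero_smul]
  exfalso
  have h1 : cubicT (w 0 1) = 0 := by
    have h3 := D.T3 h2 hP hu hw hstar 0 1 0 1
    rw [tf_sh_self, three_one h2] at h3
    exact h3
  have h3 := sh_sh (w 0 1)
  rw [h1, zero_smul, hk, sh_smul] at h3
  have h4 := (smul_eq_zero.1 h3).resolve_left (pow_ne_zero 2 hk0)
  rw [sh_add, D.wd] at h4
  have h5 : w 0 1 = sh (u 0) + sh (u 1) := (eq_of_add2 h2 h4).symm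
  have h6 : ∀ i j : Fin 8, i ≠ j → w i j = sh (u i) + sh (u j) := by
    intro i j hij
    obtain ⟨g, g0, g1⟩ := move2 (n := 8) (by norm_num) (a := 0) (b := 1) (by decide) hij
    have h7 := congrArg (σ' g) h5
    rw [hw.act, map_add, ← hP.hsh, ← hP.hsh, hu, hu, g0, g1] at h7
    exact h7
  apply hZ
  unfold Z
  rw [h6 0 2 (by decide), h6 1 2 (by decide), h6 0 3 (by decide), h6 1 3 (by decide)]
  have h7 : sh (u 0) + sh (u 2) + (sh (u 1) + sh (u 2)) + (sh (u 0) + sh (u 3)) + (sh (u 1) + sh (u 3)) =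
      (sh (u 0) + sh (u 0)) + (sh (u 1) + sh (u 1)) + (sh (u 2) + sh (u 2)) + (sh (u 3) + sh (u 3)) := by abel
  rw [h7]
  simp only [add_self2 h2, add_zero]

theorem caseB2 (h2 : (2 : F) = 0) (hP : PD σ σ') (hinv : σ.invariants = ⊥)
    (hu : Fam σ u) (h0 : u 0 ≠ 0) (hw : Fam2 σ' w) (hstar : ∀ i, ∑ j, w i j = 0) (D : Dat u w b)
    (hZ : Z w 0 1 2 3 ≠ 0) : cr (w 0 1) (w 2 3) = 0 := by
  obtain ⟨c, hc⟩ := exists_comb h2 hinv hu h0 hw D hZ (x := cr (w 0 1) (w 2 3))
    (fun k l => D.T2 h2 hP hu hw hstar 0 1 2 3 k l)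
  obtain ⟨k, hk⟩ := shape2 h2 hinv hu h0 (c := c) (by
    intro g hg
    rw [hc, act_cr hP hw]
    simp only [List.mem_cons, List.not_mem_nil, or_false] at hg
    rcases hg with rfl | rfl | rfl | rfl | rfl
    · rfl
    · rfl
    · change cr (w 1 0) (w 2 3) = _
      rw [D.comm 1 0]
    · change cr (w 0 1) (w 3 2) = _
      rw [D.comm 3 2]
    · change cr (w 2 3) (w 0 1) = _
      rw [cr_comm])
  rw [hc] at hk
  have h1 : cr (w 0 2) (w 3 1) = k • (u 0 + u 2 + u 3 + u 1) := by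
    have h3 := congrArg (σ g123) hk
    rw [act_cr hP hw, map_smul, map_add, map_add, map_add, hu, hu, hu, hu] at h3
    exact h3
  have h3 : cr (w 0 3) (w 1 2) = k • (u 0 + u 3 + u 1 + u 2) := by
    have h3 := congrArg (σ g123) h1
    rw [act_cr hP hw, map_smul, map_add, map_add, map_add, hu, hu, hu, hu] at h3
    exact h3
  have h4 := cr_four (u 0) (u 2) (u 1) (u 3)
  simp only [D.wd] at h4
  rw [D.TW, D.TW, D.TW', D.TW', zero_smul, zero_smul, zero_smul, zero_smul, add_zero, add_zero, add_zero,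
    D.comm 1 3, h1, hk, D.comm 2 1, cr_comm (w 1 2), h3] at h4
  have h5 : k • (u 0 + u 1 + u 2 + u 3) + k • (u 0 + u 3 + u 1 + u 2) + k • (u 0 + u 2 + u 3 + u 1) =
      k • (u 0 + u 1 + u 2 + u 3) + (k • (u 0 + u 1 + u 2 + u 3) + k • (u 0 + u 1 + u 2 + u 3)) := by module
  rw [h5, add_self2 h2, add_zero] at h4
  rw [hk, h4]

theorem caseB3 (h2 : (2 : F) = 0) (hP : PD σ σ') (hinv : σ.invariants = ⊥)
    (hu : Fam σ u) (h0 : u 0 ≠ 0) (hw : Fam2 σ' w) (hstar : ∀ i, ∑ j, w i j = 0) (D : Dat u w b)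
    (hZ : Z w 0 1 2 3 ≠ 0) : cr (w 0 1) (w 0 2) = 0 := by
  obtain ⟨c, hc⟩ := exists_comb h2 hinv hu h0 hw D hZ (x := cr (w 0 1) (w 0 2))
    (fun k l => D.T2 h2 hP hu hw hstar 0 1 0 2 k l)
  obtain ⟨a, k, hk⟩ := shape3 h2 hinv hu h0 (c := c) (by
    intro g hg
    rw [hc, act_cr hP hw]
    simp only [List.mem_cons, List.not_mem_nil, or_false] at hg
    rcases hg with rfl | rfl | rfl
    · rfl
    · rfl
    · change cr (w 0 2) (w 0 1) = _
      rw [cr_comm])
  rw [hc] at hk
  have hB := caseB2 h2 hP hinv hu h0 hw hstar D hZ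
  have hne := u_ne hinv hu h0 h2
  -- the general member
  have h1 : ∀ j : Fin 8, j ≠ 0 → j ≠ 1 → cr (w 0 1) (w 0 j) = a • u 0 + k • (u 1 + u j) := by
    intro j hj0 hj1
    obtain ⟨g, g0, g1, g2⟩ := move3 (n := 8) (by norm_num) (a := 0) (b := 1) (c := 2) (a' := 0) (b' := 1) (c' := j)
      (by decide) (by decide) (by decide) (by decide) (Ne.symm hj0) (Ne.symm hj1)
    have h3 := congrArg (σ g) hk
    rw [act_cr hP hw, map_add, map_smul, map_smul, map_add, hu, hu, hu, g0, g1, g2] at h3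
    exact h3
  have h3 := star_cr (hstar 0) (w 0 1)
  have h4 : ∑ j, cr (w 0 1) (w 0 j) = 0 := by
    have h5 := map_sum (crB F (w 0 1)) (w 0) Finset.univ
    rw [hstar 0, map_zero] at h5
    exact h5.symm
  have hk0 : k = 0 := by
    rw [Fin.sum_univ_eight, D.diag h2, cr_zero_right, cr_self2 h2, h1 2 (by decide) (by decide),
      h1 3 (by decide) (by decide), h1 4 (by decide) (by decide), h1 5 (by decide) (by decide),
      h1 6 (by decide) (by decide), h1 7 (by decide) (by decide)] at h4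
    have hs := fam_sum hinv hu
    rw [Fin.sum_univ_eight] at hs
    have h5 : u 2 + u 3 + u 4 + u 5 + u 6 + u 7 = u 0 + u 1 := by
      apply eq_of_add2 h2
      rw [← hs]
      abel
    have h6 : 0 + 0 + (a • u 0 + k • (u 1 + u 2)) + (a • u 0 + k • (u 1 + u 3)) + (a • u 0 + k • (u 1 + u 4)) +
        (a • u 0 + k • (u 1 + u 5)) + (a • u 0 + k • (u 1 + u 6)) + (a • u 0 + k • (u 1 + u 7)) =
        (3 : F) • (a • u 0 + a • u 0) + (3 : F) • (k • u 1 + k • u 1) +
        k • (u 2 + u 3 + u 4 + u 5 + u 6 + u 7) := by module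
    rw [h6, h5, add_self2 h2, add_self2 h2] at h4
    simp only [smul_zero, zero_add] at h4
    exact (smul_eq_zero.1 h4).resolve_right hne
  have ha0 : a = 0 := by
    have h5 := map_sum (crB F (w 0 1)) (w 2) Finset.univ
    rw [hstar 2, map_zero] at h5
    have h6 : ∑ j, cr (w 0 1) (w 2 j) = 0 := h5.symm
    have h7 : ∀ j : Fin 8, j ≠ 0 → j ≠ 1 → j ≠ 2 → cr (w 0 1) (w 2 j) = 0 := by
      intro j hj0 hj1 hj2
      obtain ⟨g, g0, g1, g2, g3⟩ := move4 (n := 8) (by norm_num) (a := 0) (b := 1) (c := 2) (d := 3) (a' := 0)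
        (b' := 1) (c' := 2) (d' := j) (by decide) (by decide) (by decide) (by decide) (by decide) (by decide)
        (by decide) (by decide) (Ne.symm hj0) (by decide) (Ne.symm hj1) (Ne.symm hj2)
      have h8 := congrArg (σ g) hB
      rw [act_cr hP hw, g0, g1, g2, g3, map_zero] at h8
      exact h8
    have h8 : cr (w 0 1) (w 2 1) = a • u 1 := by
      obtain ⟨g, g0, g1, g2⟩ := move3 (n := 8) (by norm_num) (a := 0) (b := 1) (c := 2) (a' := 1) (b' := 0) (c' := 2)
        (by decide) (by decide) (by decide) (by decide) (by decide) (by decide)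
      have h9 := congrArg (σ g) hk
      rw [act_cr hP hw, map_add, map_smul, map_smul, map_add, hu, hu, hu, g0, g1, g2, hk0, zero_smul, add_zero,
        D.comm 1 0, D.comm 1 2] at h9
      exact h9
    rw [hk0, zero_smul, add_zero] at hk
    rw [Fin.sum_univ_eight, D.comm 2 0, hk, h8, D.diag h2, cr_zero_right, h7 3 (by decide) (by decide) (by decide),
      h7 4 (by decide) (by decide) (by decide), h7 5 (by decide) (by decide) (by decide),
      h7 6 (by decide) (by decide) (by decide), h7 7 (by decide) (by decide) (by decide)] at h6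
    simp only [add_zero] at h6
    rw [← smul_add] at h6
    exact (smul_eq_zero.1 h6).resolve_right hne
  rw [hk, hk0, ha0, zero_smul, zero_smul, add_zero]

theorem caseB (h2 : (2 : F) = 0) (hP : PD σ σ') (hinv : σ.invariants = ⊥)
    (hu : Fam σ u) (h0 : u 0 ≠ 0) (hw : Fam2 σ' w) (hstar : ∀ i, ∑ j, w i j = 0) (D : Dat u w b)
    (hZ : Z w 0 1 2 3 ≠ 0) : False := by
  have b1 := caseB1 h2 hP hinv hu h0 hw hstar D hZ
  have b2 := caseB2 h2 hP hinv hu h0 hw hstar D hZ
  have b3 := caseB3 h2 hP hinv hu h0 hw hstar D hZ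
  have c1 : ∀ i j, sh (w i j) = 0 := by
    intro i j
    by_cases hij : i = j
    · rw [hij, D.diag h2, sh_zero]
    obtain ⟨g, g0, g1⟩ := move2 (n := 8) (by norm_num) (a := 0) (b := 1) (by decide) hij
    rw [← g0, ← g1, ← act_sh hP hw, b1, map_zero]
  have c3 : ∀ i j k, cr (w i j) (w i k) = 0 := by
    intro i j k
    by_cases hij : i = j
    · rw [hij, D.diag h2, cr_zero_left]
    by_cases hik : i = k
    · rw [hik, D.diag h2, cr_zero_right]
    by_cases hjk : j = k
    · rw [hjk, cr_self2 h2]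
    obtain ⟨g, g0, g1, g2⟩ := move3 (n := 8) (by norm_num) (a := 0) (b := 1) (c := 2)
      (by decide) (by decide) (by decide) hij hik hjk
    rw [← g0, ← g1, ← g2, ← act_cr hP hw, b3, map_zero]
  have c2 : ∀ i j k l, cr (w i j) (w k l) = 0 := by
    intro i j k l
    by_cases hij : i = j
    · rw [hij, D.diag h2, cr_zero_left]
    by_cases hkl : k = l
    · rw [hkl, D.diag h2, cr_zero_right]
    by_cases hik : i = k
    · rw [hik, c3]
    by_cases hil : i = l
    · rw [hil, D.comm k l, c3]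
    by_cases hjk : j = k
    · rw [hjk, D.comm i k, c3]
    by_cases hjl : j = l
    · rw [hjl, D.comm i l, D.comm k l, c3]
    obtain ⟨g, g0, g1, g2, g3⟩ := move4 (n := 8) (by norm_num) (a := 0) (b := 1) (c := 2) (d := 3) (by decide)
      (by decide) (by decide) (by decide) (by decide) (by decide) hij hik hil hjk hjl hkl
    rw [← g0, ← g1, ← g2, ← g3, ← act_cr hP hw, b2, map_zero]
  have hli := Cfsg.Agent.H905.E6T.indep h2 (by norm_num) good8 hw (z0 := 0) (z1 := 1) (z2 := 2) (z3 := 3) rfl rfl rfl rfl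
    hZ
  have h1 := finrank_span_eq_card hli
  rw [card_BP8] at h1
  have h3 := ts_le (ts_span (f := fun p : {p : Fin 8 × Fin 8 // BP p} => w p.1.1 p.1.2) (fun p => c1 _ _)
    (fun p q => c2 _ _ _ _))
  omega

/-! ### all triangles zero -/

/-- the sum over a triangle -/
def tri (w : Fin 8 → Fin 8 → I27 → F) (a b c : Fin 8) : I27 → F := w a b + (w a c + w b c)

theorem tri_zero (h2 : (2 : F) = 0) (hinv' : σ'.invariants = ⊥) (hw : Fam2 σ' w) (hZ : Z w 0 1 2 3 = 0)
    (a b c : Fin 8) : tri w a b c = 0 := by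
  have s12 : ∀ a b c, tri w a b c = tri w b a c := fun a b c => by
    unfold tri; rw [hw.comm a b, add_comm (w a c)]
  have s23 : ∀ a b c, tri w a b c = tri w a c b := fun a b c => by
    unfold tri; rw [hw.comm c b]; abel
  have hP1 : ∀ {a b c d : Fin 8}, a ≠ b → c ≠ a → c ≠ b → d ≠ a → d ≠ b → tri w a b c = tri w a b d := by
    intro a b c d h1 h3 h4 h5 h6
    by_cases hcd : c = d
    · rw [hcd]
    have h7 := Z_zero (n := 8) (by norm_num) hw hZ (by decide) (by decide) (by decide) (by decide) (by decide)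
      (by decide) h1 h3.symm h5.symm h4.symm h6.symm hcd
    unfold Z at h7
    rw [add_assoc (w a c + w b c)] at h7
    unfold tri
    rw [eq_of_add2 h2 h7]
  have hQ : ∀ {a b c b' c' : Fin 8}, a ≠ b → a ≠ c → b ≠ c → a ≠ b' → a ≠ c' → b' ≠ c' →
      tri w a b c = tri w a b' c' := by
    intro a b c b' c' h1 h3 h4 h5 h6 h7
    by_cases h8 : c' = b
    · subst h8
      rw [hP1 (d := b') h1 h3.symm h4.symm h5.symm h7, s23]
    · rw [hP1 (d := c') h1 h3.symm h4.symm h6.symm h8, s23, hP1 (d := b') h6 h1.symm (Ne.symm h8) h5.symm h7, s23]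
  have hall : ∀ {a b c : Fin 8}, a ≠ b → a ≠ c → b ≠ c → tri w a b c = tri w 0 1 2 := by
    intro a b c h1 h3 h4
    by_cases ha : a = 0
    · subst ha
      exact hQ h1 h3 h4 (by decide) (by decide) (by decide)
    · obtain ⟨e, he, he0⟩ : ∃ e : Fin 8, e ≠ a ∧ e ≠ 0 := (show ∀ a : Fin 8, ∃ e : Fin 8, e ≠ a ∧ e ≠ 0 by decide) a
      rw [hQ (b' := 0) (c' := e) h1 h3 h4 ha he.symm he0.symm, s12]
      exact hQ (Ne.symm ha) he0.symm he.symm (by decide) (by decide) (by decide)
  have h0 : tri w 0 1 2 = 0 := by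
    apply mem_inv hinv'
    intro g
    have h1 : σ' g (tri w 0 1 2) = tri w ((g : Perm (Fin 8)) 0) ((g : Perm (Fin 8)) 1) ((g : Perm (Fin 8)) 2) := by
      unfold tri
      rw [map_add, map_add, hw.act, hw.act, hw.act]
    rw [h1]
    exact hall ((g : Perm (Fin 8)).injective.ne (by decide)) ((g : Perm (Fin 8)).injective.ne (by decide))
      ((g : Perm (Fin 8)).injective.ne (by decide))
  by_cases hab : a = b
  · rw [hab]; unfold tri; rw [hw.diag, zero_add, add_self2 h2]
  by_cases hac : a = c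
  · rw [hac]; unfold tri; rw [hw.diag, zero_add, hw.comm b c, add_self2 h2]
  by_cases hbc : b = c
  · rw [hbc]; unfold tri; rw [hw.diag, add_zero, add_self2 h2]
  rw [hall hab hac hbc, h0]

/-- the dimension of a span of differences -/
theorem finrank_six (h2 : (2 : F) = 0) {r : Fin 8 → I27 → F} (hr0 : r 0 = 0) (hs : ∑ j, r j = 0)
    (hrel : ∀ C : Fin 8 → F, ∑ j, C j = 0 → ∑ j, C j • r j = 0 → ∀ a b, C a = C b) :
    finrank F (Submodule.span F (Set.range fun p : Fin 8 × Fin 8 => r p.1 + r p.2)) = 6 := by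
  have hli : LinearIndependent F (![r 1, r 2, r 3, r 4, r 5, r 6]) := by
    rw [Fintype.linearIndependent_iff]
    intro c hc
    rw [Fin.sum_univ_six] at hc
    have h1 := hrel ![c 0 + c 1 + c 2 + c 3 + c 4 + c 5, c 0, c 1, c 2, c 3, c 4, c 5, 0] (by
      rw [Fin.sum_univ_eight]
      change c 0 + c 1 + c 2 + c 3 + c 4 + c 5 + c 0 + c 1 + c 2 + c 3 + c 4 + c 5 + 0 = 0
      linear_combination (c 0 + c 1 + c 2 + c 3 + c 4 + c 5) * h2) (by
      rw [Fin.sum_univ_eight, hr0, smul_zero, zero_add, ← hc]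
      change c 0 • r 1 + c 1 • r 2 + c 2 • r 3 + c 3 • r 4 + c 4 • r 5 + c 5 • r 6 + (0 : F) • r 7 =
        c 0 • r 1 + c 1 • r 2 + c 2 • r 3 + c 3 • r 4 + c 4 • r 5 + c 5 • r 6
      rw [zero_smul, add_zero])
    intro i
    fin_cases i
    · exact h1 1 7
    · exact h1 2 7
    · exact h1 3 7
    · exact h1 4 7
    · exact h1 5 7
    · exact h1 6 7
  have h3 := finrank_span_eq_card hli
  rw [Fintype.card_fin] at h3
  have hm : ∀ i, r i ∈ Submodule.span F (Set.range (![r 1, r 2, r 3, r 4, r 5, r 6])) := by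
    have k : ∀ j : Fin 6, (![r 1, r 2, r 3, r 4, r 5, r 6] : Fin 6 → I27 → F) j ∈
        Submodule.span F (Set.range (![r 1, r 2, r 3, r 4, r 5, r 6])) := fun j => Submodule.subset_span ⟨j, rfl⟩
    have h7 : r 7 = r 1 + r 2 + r 3 + r 4 + r 5 + r 6 := by
      apply eq_of_add2 h2
      rw [Fin.sum_univ_eight, hr0] at hs
      rw [← hs]
      abel
    intro i
    fin_cases i
    · change r 0 ∈ _
      rw [hr0]; exact Submodule.zero_mem _
    · exact k 0
    · exact k 1
    · exact k 2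
    · exact k 3
    · exact k 4
    · exact k 5
    · change r 7 ∈ _
      rw [h7]
      exact Submodule.add_mem _ (Submodule.add_mem _ (Submodule.add_mem _ (Submodule.add_mem _ (Submodule.add_mem _
        (k 0) (k 1)) (k 2)) (k 3)) (k 4)) (k 5)
  have h4 : Submodule.span F (Set.range fun p : Fin 8 × Fin 8 => r p.1 + r p.2) =
      Submodule.span F (Set.range (![r 1, r 2, r 3, r 4, r 5, r 6])) := by
    apply le_antisymm
    · rw [Submodule.span_le]
      rintro _ ⟨p, rfl⟩
      exact Submodule.add_mem _ (hm _) (hm _)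
    · rw [Submodule.span_le]
      rintro _ ⟨j, rfl⟩
      have k : ∀ i : Fin 8, r i ∈ Submodule.span F (Set.range fun p : Fin 8 × Fin 8 => r p.1 + r p.2) := by
        intro i
        refine Submodule.subset_span ⟨(i, 0), ?_⟩
        change r i + r 0 = r i
        rw [hr0, add_zero]
      fin_cases j
      · exact k 1
      · exact k 2
      · exact k 3
      · exact k 4
      · exact k 5
      · exact k 6
  rw [h4, h3]

/-- relations between vectors permuted by `A₈` -/
theorem rel_aux (h2 : (2 : F) = 0) {r : Fin 8 → I27 → F} {C : Fin 8 → F}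
    (h : ∀ g : ↥(alternatingGroup (Fin 8)), ∑ j, C j • r ((g : Perm (Fin 8)) j) = 0) :
    (C 0 + C 1) • (r 0 + r 1) = 0 := by
  have k1 := h 1
  have k2 := h g234
  have k3 := h (g234 * g234)
  have k4 := h h0123
  have k5 := h (h0123 * g234)
  have k6 := h (h0123 * (g234 * g234))
  rw [Fin.sum_univ_eight] at k1 k2 k3 k4 k5 k6
  change C 0 • r 0 + C 1 • r 1 + C 2 • r 2 + C 3 • r 3 + C 4 • r 4 + C 5 • r 5 + C 6 • r 6 + C 7 • r 7 = 0 at k1
  change C 0 • r 0 + C 1 • r 1 + C 2 • r 3 + C 3 • r 4 + C 4 • r 2 + C 5 • r 5 + C 6 • r 6 + C 7 • r 7 = 0 at k2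
  change C 0 • r 0 + C 1 • r 1 + C 2 • r 4 + C 3 • r 2 + C 4 • r 3 + C 5 • r 5 + C 6 • r 6 + C 7 • r 7 = 0 at k3
  change C 0 • r 1 + C 1 • r 0 + C 2 • r 3 + C 3 • r 2 + C 4 • r 4 + C 5 • r 5 + C 6 • r 6 + C 7 • r 7 = 0 at k4
  change C 0 • r 1 + C 1 • r 0 + C 2 • r 2 + C 3 • r 4 + C 4 • r 3 + C 5 • r 5 + C 6 • r 6 + C 7 • r 7 = 0 at k5
  change C 0 • r 1 + C 1 • r 0 + C 2 • r 4 + C 3 • r 3 + C 4 • r 2 + C 5 • r 5 + C 6 • r 6 + C 7 • r 7 = 0 at k6
  have h3 : (C 0 + C 1) • (r 0 + r 1) =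
      (C 0 • r 0 + C 1 • r 1 + C 2 • r 2 + C 3 • r 3 + C 4 • r 4 + C 5 • r 5 + C 6 • r 6 + C 7 • r 7) +
      (C 0 • r 0 + C 1 • r 1 + C 2 • r 3 + C 3 • r 4 + C 4 • r 2 + C 5 • r 5 + C 6 • r 6 + C 7 • r 7) +
      (C 0 • r 0 + C 1 • r 1 + C 2 • r 4 + C 3 • r 2 + C 4 • r 3 + C 5 • r 5 + C 6 • r 6 + C 7 • r 7) +
      (C 0 • r 1 + C 1 • r 0 + C 2 • r 3 + C 3 • r 2 + C 4 • r 4 + C 5 • r 5 + C 6 • r 6 + C 7 • r 7) +
      (C 0 • r 1 + C 1 • r 0 + C 2 • r 2 + C 3 • r 4 + C 4 • r 3 + C 5 • r 5 + C 6 • r 6 + C 7 • r 7) +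
      (C 0 • r 1 + C 1 • r 0 + C 2 • r 4 + C 3 • r 3 + C 4 • r 2 + C 5 • r 5 + C 6 • r 6 + C 7 • r 7) -
      (2 : F) • ((C 0 + C 1) • (r 0 + r 1) + (C 2 + C 3 + C 4) • (r 2 + r 3 + r 4) +
        (3 : F) • (C 5 • r 5 + C 6 • r 6 + C 7 • r 7)) := by module
  rw [h3, k1, k2, k3, k4, k5, k6, h2, zero_smul]
  simp

theorem caseA (h2 : (2 : F) = 0) (hP : PD σ σ') (hinv : σ.invariants = ⊥) (hinv' : σ'.invariants = ⊥)
    (h6 : NoSix σ) (h6' : NoSix σ') (hu : Fam σ u) (h0 : u 0 ≠ 0) (hw : Fam2 σ' w) (D : Dat u w b)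
    (hZ : Z w 0 1 2 3 = 0) : False := by
  have ht := tri_zero h2 hinv' hw hZ
  have hus := fam_sum hinv hu
  -- products of differences
  have hcr : ∀ i j k l, cr (u i + u j) (u k + u l) = 0 := by
    intro i j k l
    rw [cr_add_left, cr_add_right, cr_add_right, D.wd, D.wd, D.wd, D.wd]
    have h1 := ht i k l
    have h3 := ht j k l
    unfold tri at h1 h3
    have h4 : w i k + w i l + (w j k + w j l) = (w i k + (w i l + w k l)) + (w j k + (w j l + w k l)) -
        (w k l + w k l) := by abel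
    rw [h4, h1, h3, add_zero, zero_sub, add_self2 h2, neg_zero]
  have hN : ∀ i j, cubicT (u i + u j) = 0 := by
    intro i j
    rw [N_add, D.N, D.N, D.T, D.T']
    linear_combination 2 * b * h2
  have htf : ∀ i j k l, tf (sh (u i + u j)) (u k + u l) = 0 := by
    intro i j k l
    rw [sh_add, D.wd, tf_add_right, tf_add_left, tf_add_left, tf_add_left, tf_add_left, D.T, D.T, D.T, D.T, D.TW, D.TW]
    linear_combination 2 * b * h2
  have hcs : ∀ i j k l, cr (sh (u i + u j)) (sh (u k + u l)) = 0 := by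
    intro i j k l
    have h1 := sh_cr (u i + u j) (u k + u l)
    rw [hcr, sh_zero, zero_add, htf, tf_comm (u i + u j), htf, zero_smul, zero_smul, add_zero] at h1
    exact h1
  have hact : ∀ (g : ↥(alternatingGroup (Fin 8))) (i j : Fin 8), σ g (u i + u j) =
      u ((g : Perm (Fin 8)) i) + u ((g : Perm (Fin 8)) j) := by
    intro g i j
    rw [map_add, hu, hu]
  have hacts : ∀ (g : ↥(alternatingGroup (Fin 8))) (i j : Fin 8), σ' g (sh (u i + u j)) =
      sh (u ((g : Perm (Fin 8)) i) + u ((g : Perm (Fin 8)) j)) := by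
    intro g i j
    rw [← hP.hsh, hact]
  have hsum0 : ∑ j, (u 0 + u j) = 0 := by
    rw [Finset.sum_add_distrib, hus, add_zero, Finset.sum_const, Finset.card_univ, Fintype.card_fin,
      ← Nat.cast_smul_eq_nsmul F]
    have : ((8 : ℕ) : F) = 0 := by
      push_cast
      linear_combination 4 * h2
    rw [this, zero_smul]
  by_cases h01 : sh (u 0 + u 1) = 0
  · have hsh : ∀ i j, sh (u i + u j) = 0 := by
      intro i j
      by_cases hij : i = j
      · rw [hij, add_self2 h2, sh_zero]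
      obtain ⟨g, g0, g1⟩ := move2 (n := 8) (by norm_num) (a := 0) (b := 1) (by decide) hij
      rw [← g0, ← g1, ← hacts, h01, map_zero]
    have h1 : (fun p : Fin 8 × Fin 8 => u p.1 + u p.2) = fun p : Fin 8 × Fin 8 => (u 0 + u p.1) + (u 0 + u p.2) := by
      funext p
      have : (u 0 + u p.1) + (u 0 + u p.2) = (u 0 + u 0) + (u p.1 + u p.2) := by abel
      rw [this, add_self2 h2, zero_add]
    refine h6 (Submodule.span F (Set.range fun p : Fin 8 × Fin 8 => u p.1 + u p.2))
      (span_stable fun g p => ⟨((g : Perm (Fin 8)) p.1, (g : Perm (Fin 8)) p.2), hact g _ _⟩) ?_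
      (ts_span (fun p => hsh _ _) (fun p q => hcr _ _ _ _))
    rw [h1]
    refine finrank_six h2 (r := fun j => u 0 + u j) (add_self2 h2 _) hsum0 ?_
    intro C hC1 hC2 a b
    apply indep8 h2 hinv hu h0
    rw [← hC2]
    simp_rw [smul_add]
    rw [Finset.sum_add_distrib, ← Finset.sum_smul, hC1, zero_smul, zero_add]
  · have hadd : ∀ i j, sh (u i + u j) = sh (u 0 + u i) + sh (u 0 + u j) := by
      intro i j
      have h1 : u i + u j = (u 0 + u i) + (u 0 + u j) := by
        have : (u 0 + u i) + (u 0 + u j) = (u 0 + u 0) + (u i + u j) := by abel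
        rw [this, add_self2 h2, zero_add]
      rw [h1, sh_add, hcr, add_zero]
    have hr0 : sh (u 0 + u 0) = 0 := by rw [add_self2 h2, sh_zero]
    have hsumr : ∑ j, sh (u 0 + u j) = 0 := by
      have h1 : ∀ s : Finset (Fin 8), sh (∑ j ∈ s, (u 0 + u j)) = ∑ j ∈ s, sh (u 0 + u j) ∧
          ∀ k, cr (∑ j ∈ s, (u 0 + u j)) (u 0 + u k) = 0 := by
        intro s
        induction s using Finset.induction_on with
        | empty => exact ⟨by rw [Finset.sum_empty, Finset.sum_empty, sh_zero], fun k => by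
            rw [Finset.sum_empty, cr_zero_left]⟩
        | insert a s ha ih =>
          refine ⟨?_, fun k => ?_⟩
          · rw [Finset.sum_insert ha, Finset.sum_insert ha, sh_add, ih.1, cr_comm, ih.2, add_zero]
          · rw [Finset.sum_insert ha, cr_add_left, ih.2, hcr, add_zero]
      rw [← (h1 Finset.univ).1, hsum0, sh_zero]
    have h1 : (fun p : Fin 8 × Fin 8 => sh (u p.1 + u p.2)) = fun p : Fin 8 × Fin 8 => sh (u 0 + u p.1) +
        sh (u 0 + u p.2) := funext fun p => hadd _ _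
    refine h6' (Submodule.span F (Set.range fun p : Fin 8 × Fin 8 => sh (u p.1 + u p.2)))
      (span_stable fun g p => ⟨((g : Perm (Fin 8)) p.1, (g : Perm (Fin 8)) p.2), hacts g _ _⟩) ?_
      (ts_span (fun p => by rw [sh_sh, hN, zero_smul]) (fun p q => hcs _ _ _ _))
    rw [h1]
    refine finrank_six h2 (r := fun j => sh (u 0 + u j)) hr0 hsumr ?_
    intro C hC1 hC2 a b
    -- the relation for all group elements
    have h3 : ∀ g : ↥(alternatingGroup (Fin 8)), ∑ j, C j • sh (u 0 + u ((g : Perm (Fin 8)) j)) = 0 := by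
      intro g
      have h4 := congrArg (σ' g) hC2
      rw [map_zero, map_sum] at h4
      rw [← h4]
      have h5 : ∀ j, σ' g (C j • sh (u 0 + u j)) = C j • sh (u 0 + u ((g : Perm (Fin 8)) 0)) +
          C j • sh (u 0 + u ((g : Perm (Fin 8)) j)) := by
        intro j
        rw [map_smul, hacts, hadd, smul_add]
      rw [Finset.sum_congr rfl fun j _ => h5 j, Finset.sum_add_distrib, ← Finset.sum_smul, hC1, zero_smul, zero_add]
    by_cases hab : a = b
    · rw [hab]
    obtain ⟨g, g0, g1⟩ := move2 (n := 8) (by norm_num) (a := 0) (b := 1) (by decide) hab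
    have h4 := rel_aux h2 (r := fun j => sh (u 0 + u j)) (C := fun j => C ((g : Perm (Fin 8)) j)) (by
      intro k
      have h5 := h3 (k * g⁻¹)
      rw [← Equiv.sum_comp (g : Perm (Fin 8)) (fun j => C j • sh (u 0 + u (((k * g⁻¹ : ↥(alternatingGroup (Fin 8))) :
        Perm (Fin 8)) j)))] at h5
      simpa only [_root_.Fin.isValue, _root_.Subgroup.coe_mul, _root_.InvMemClass.coe_inv, _root_.Equiv.Perm.coe_mul, _root_.Equiv.Perm.coe_inv, _root_.Function.comp_apply, _root_.Equiv.symm_apply_apply] using h5)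
    simp only [g0, g1, hr0, zero_add] at h4
    have h5 := (smul_eq_zero.1 h4).resolve_right h01
    have h7 := z2 h2 (C b)
    linear_combination h5 - h7

/-- **`A₈` in characteristic 2, case (I).** -/
theorem eight_one (h2 : (2 : F) = 0) (hP : PD σ σ') (hinv : σ.invariants = ⊥) (hinv' : σ'.invariants = ⊥)
    (h6 : NoSix σ) (h6' : NoSix σ') {u : Fin 8 → I27 → F} (hu : Fam σ u) (h0 : u 0 ≠ 0) : False := by
  obtain ⟨w, b, D, hw, hstar⟩ := exists_dat h2 hP hinv hinv' hu
  by_cases hZ : Z w 0 1 2 3 = 0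
  · exact caseA h2 hP hinv hinv' h6 h6' hu h0 hw D hZ
  · exact caseB h2 hP hinv hu h0 hw hstar D hZ

end eight

end Cfsg.Agent.H288.E6
end

-- part: H905/E6T/BigEight
section
/-!
# S5927, S5928: `A₈` in characteristic 2 (helper905, case (I) by helper288)
-/

set_option autoImplicit false

namespace Cfsg.Agent.H163.E6.Cases

open Cfsg Cfsg.Lie Module
open Cfsg.Agent.ChevalleyStructure.E6Min.Tables Cfsg.Agent.ChevalleyStructure.E6Min.Basic
  Cfsg.Agent.ChevalleyStructure.E6Min.Adjoint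

universe u

variable {F : Type u} [Field F] [Finite F] {H : Subgroup ↥(chevE6.group F)}

/-- `A₈`, characteristic 2 -/
theorem big_two_eight [CharP F 2] {φ : ↥(alternatingGroup (Fin 8)) →* ↥(chevE6.group F)} (hS : Sit H 8 φ)
    {ψ : ↥(alternatingGroup (Fin 8)) →* ↥(Zgrp F)} (hψ : Lift φ ψ) : False := by
  have h2 : (2 : F) = 0 := by exact_mod_cast CharP.cast_eq_zero F 2
  obtain ⟨σ, σ', hP, hinv, hinv', h6, h6', h15, h8, h5⟩ := Cfsg.Agent.H905.E6T.facts (by norm_num) hS hψ
  exact Cfsg.Agent.H905.E6T.eight_kill_of h2 hP hinv hinv' h6 h6' h15 h8 h5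
    fun hP hinv hinv' h6 h6' _ hu h0 => Cfsg.Agent.H288.E6.eight_one h2 hP hinv hinv' h6 h6' hu h0

end Cfsg.Agent.H163.E6.Cases
end

private theorem dce_4a13ad72bcef : _root_.True := by
  try have : _root_.True := by simp only [_root_.Cfsg.Agent.H905.E6T.qq.eq_1]
  try have : _root_.True := by simp only [_root_.Cfsg.Agent.H905.E6T.mv.eq_1]
  try have : _root_.True := by simp only [_root_.Cfsg.Agent.H905.E6T.star4.eq_1]
  try have : _root_.True := by simp only [_root_.Cfsg.Agent.H905.E6T.net.eq_1]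
  try have : _root_.True := by simp only [_root_.Cfsg.Agent.H905.E6T.PP.eq_1]
  try have : _root_.True := by simp only [_root_.Cfsg.Agent.H905.E6T.yv.eq_1]
  try have : _root_.True := by simp only [_root_.Cfsg.Agent.H905.E6T.tri.eq_1]
  try have : _root_.True := by simp only [_root_.Cfsg.Agent.H905.E6T.fq.eq_1]
  try have : _root_.True := by simp only [_root_.Cfsg.Agent.H905.E6T.pair4.eq_1]
  exact _root_.True.intro
end

-- part: H710/E6C/ExXAll
section
set_option linter.all false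
open scoped Cfsg.Agent.FastGrp

-- part: H710/E6C/Form
section
/-!
# S5927: the trace form `tr (D c D d)` on the Lie algebra of type `E₆` is invariant, and nondegenerate in characteristic
`p ≥ 5` (helper710)
-/

set_option autoImplicit false

namespace Cfsg.Agent.H710.E6C.Form

open Cfsg Cfsg.Lie Module Matrix
open Cfsg.Agent.ChevalleyStructure.E6Min.Tables Cfsg.Agent.ChevalleyStructure.E6Min.Basic
  Cfsg.Agent.ChevalleyStructure.E6Min.Checks2 Cfsg.Agent.ChevalleyStructure.E6Min.Adjoint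
open Cfsg.Agent.H163.E6 (V V' L LK V_apply L_eq)
open Cfsg.Agent.H952.F4 (ev)

/-! ### tables -/

/-- opposite roots -/
theorem opp_tab : allLt 72 (fun r => allLt 72 fun s => (s == 71 - r) || ! allLt 6 fun i => carN i r + carN i s == 0) =
    true := by decide +kernel

/-- roots are not 0 -/
theorem ne_tab : allLt 72 (fun r => ! allLt 6 fun i => carN i r == 0) = true := by decide +kernel

theorem opp_of {r s : ℕ} (hr : r < 72) (hs : s < 72) (h : ∀ i < 6, carN i r + carN i s = 0) : s = 71 - r := by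
  have h1 := allLt_spec (allLt_spec opp_tab r hr) s hs
  rw [Bool.or_eq_true, beq_iff_eq] at h1
  rcases h1 with h1 | h1
  · exact h1
  · exfalso
    rw [Bool.not_eq_true'] at h1
    have h2 : (allLt 6 fun i => carN i r + carN i s == 0) = true := by
      have e0 := h 0 (by norm_num)
      have e1 := h 1 (by norm_num)
      have e2 := h 2 (by norm_num)
      have e3 := h 3 (by norm_num)
      have e4 := h 4 (by norm_num)
      have e5 := h 5 (by norm_num)
      show (carN 5 r + carN 5 s == 0 && (carN 4 r + carN 4 s == 0 && (carN 3 r + carN 3 s == 0 &&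
        (carN 2 r + carN 2 s == 0 && (carN 1 r + carN 1 s == 0 && (carN 0 r + carN 0 s == 0 && true)))))) = true
      rw [e0, e1, e2, e3, e4, e5]
      rfl
    rw [h2] at h1
    exact Bool.noConfusion h1

theorem ne_of {r : ℕ} (hr : r < 72) (h : ∀ i < 6, carN i r = 0) : False := by
  have h1 := allLt_spec ne_tab r hr
  rw [Bool.not_eq_true'] at h1
  have h2 : (allLt 6 fun i => carN i r == 0) = true := by
    have e0 := h 0 (by norm_num)
    have e1 := h 1 (by norm_num)
    have e2 := h 2 (by norm_num)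
    have e3 := h 3 (by norm_num)
    have e4 := h 4 (by norm_num)
    have e5 := h 5 (by norm_num)
    show (carN 5 r == 0 && (carN 4 r == 0 && (carN 3 r == 0 && (carN 2 r == 0 && (carN 1 r == 0 && (carN 0 r == 0 &&
      true)))))) = true
    rw [e0, e1, e2, e3, e4, e5]
    rfl
  rw [h2] at h1
  exact Bool.noConfusion h1

/-- the number of nonzero rows -/
theorem six_tab : ∀ r : Fin 72, (∑ x : I27, if sg r.val x = 0 then (0 : ℤ) else 1) = 6 := by decide +kernel

/-- the Gram matrix of the weights -/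
def gram (i j : ℕ) : ℤ := ∑ x : I27, wt x i * wt x j

/-- three times the inverse of the Cartan matrix -/
def cinv : Fin 6 → Fin 6 → ℤ :=
  ![![4, 3, 5, 6, 4, 2], ![3, 6, 6, 9, 6, 3], ![5, 6, 10, 12, 8, 4], ![6, 9, 12, 18, 12, 6], ![4, 6, 8, 12, 10, 5],
    ![2, 3, 4, 6, 5, 4]]

theorem gram_inv : ∀ i k : Fin 6, ∑ j : Fin 6, gram i.val j.val * cinv j k = if i = k then 18 else 0 := by
  decide +kernel

/-! ### traces of products -/

section tr

variable {F : Type*} [CommRing F]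

/-- the trace of a product of root operators -/
theorem tr_NN {r s : ℕ} (hr : r < 72) (hs : s < 72) : (Nm F r * Nm F s).trace = if s = 71 - r then 6 else 0 := by
  have h1 : ∀ x : I27, (Nm F r * Nm F s).diag x = if x = sr s (sr r x) then ((sg r x * sg s (sr r x) : ℤ) : F) else 0 := by
    intro x
    rw [Matrix.diag_apply, Nm_mul_apply, Nm_apply]
    split_ifs
    · rw [Int.cast_mul]
    · rw [mul_zero]
  unfold Matrix.trace
  rw [Finset.sum_congr rfl fun x _ => h1 x]
  split_ifs with hrs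
  · subst hrs
    have h2 : ∀ x : I27, (if x = sr (71 - r) (sr r x) then ((sg r x * sg (71 - r) (sr r x) : ℤ) : F) else 0) =
        ((if sg r x = 0 then (0 : ℤ) else 1 : ℤ) : F) := by
      intro x
      by_cases hx : sg r x = 0
      · rw [hx, if_pos rfl, zero_mul, Int.cast_zero, ite_self]
      · obtain ⟨e1, e2, -⟩ := row_opp hr hx
        rw [if_pos e1.symm, e2, if_neg hx]
    rw [Finset.sum_congr rfl fun x _ => h2 x, ← Int.cast_sum, six_tab ⟨r, hr⟩]
    norm_num
  · refine Finset.sum_eq_zero fun x _ => ?_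
    split_ifs with hx
    · by_cases h3 : sg r x = 0
      · rw [h3, zero_mul, Int.cast_zero]
      · by_cases h4 : sg s (sr r x) = 0
        · rw [h4, mul_zero, Int.cast_zero]
        · exfalso
          apply hrs
          refine opp_of hr hs fun i hi => ?_
          have e1 := row_car hr hi h3
          have e2 := row_car hs hi h4
          rw [← hx] at e2
          rw [← e1, ← e2]
          ring
    · rfl

theorem Nm_diag {s : ℕ} (hs : s < 72) (x : I27) : Nm F s x x = 0 := by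
  rw [Nm_apply]
  split_ifs with hx
  · by_cases h3 : sg s x = 0
    · rw [h3, Int.cast_zero]
    · exfalso
      refine ne_of hs fun i hi => ?_
      have e1 := row_car hs hi h3
      rw [← hx, sub_self] at e1
      exact e1.symm
  · rfl

theorem tr_HN (i : ℕ) {s : ℕ} (hs : s < 72) : (Hm F i * Nm F s).trace = 0 := by
  unfold Matrix.trace
  refine Finset.sum_eq_zero fun x _ => ?_
  unfold Hm
  rw [Matrix.diag_apply, Matrix.diagonal_mul, Nm_diag hs, mul_zero]

theorem tr_NH (i : ℕ) {s : ℕ} (hs : s < 72) : (Nm F s * Hm F i).trace = 0 := by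
  rw [Matrix.trace_mul_comm, tr_HN i hs]

theorem tr_HH (i j : ℕ) : (Hm F i * Hm F j).trace = ((gram i j : ℤ) : F) := by
  unfold Hm gram
  rw [Matrix.diagonal_mul_diagonal, Matrix.trace_diagonal, Int.cast_sum]
  refine Finset.sum_congr rfl fun x _ => ?_
  rw [Int.cast_mul]

end tr

/-! ### the form -/

section form

variable {F : Type*} [Field F]

theorem tr_comb (c : chevE6.Idx → F) (M : Matrix I27 I27 F) : (comb c * M).trace = ∑ row, c row * (B F row * M).trace := by
  rw [comb_def, Finset.sum_mul, Matrix.trace_sum]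
  refine Finset.sum_congr rfl fun row _ => ?_
  rw [Matrix.smul_mul, Matrix.trace_smul, smul_eq_mul]

theorem cartan_part (h18 : (18 : F) ≠ 0) {c : Fin 6 → F}
    (hj : ∀ j : Fin 6, ∑ i : Fin 6, c i * ((gram i.val j.val : ℤ) : F) = 0) (k : Fin 6) : c k = 0 := by
  have hk : (18 : F) * c k = 0 := by
    have e : ∑ j : Fin 6, (∑ i : Fin 6, c i * ((gram i.val j.val : ℤ) : F)) * ((cinv j k : ℤ) : F) = 0 :=
      Finset.sum_eq_zero fun j _ => by rw [hj, zero_mul]
    rw [← e]
    simp only [Finset.sum_mul]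
    rw [Finset.sum_comm]
    have e3 : ∀ i : Fin 6, ∑ j : Fin 6, c i * ((gram i.val j.val : ℤ) : F) * ((cinv j k : ℤ) : F) =
        c i * (if i = k then 18 else 0) := by
      intro i
      have e4 := gram_inv i k
      have e5 : ((∑ j : Fin 6, gram i.val j.val * cinv j k : ℤ) : F) = if i = k then 18 else 0 := by
        rw [e4]
        split_ifs <;> norm_num
      rw [← e5, Int.cast_sum, Finset.mul_sum]
      refine Finset.sum_congr rfl fun j _ => ?_
      rw [Int.cast_mul, mul_assoc]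
    rw [Finset.sum_congr rfl fun i _ => e3 i, Finset.sum_eq_single k]
    · rw [if_pos rfl, mul_comm]
    · intro i _ hik
      rw [if_neg hik, mul_zero]
    · intro hk
      exact absurd (Finset.mem_univ _) hk
  exact (mul_eq_zero.1 hk).resolve_left h18

/-- nondegeneracy -/
theorem nondeg (h2 : (2 : F) ≠ 0) (h3 : (3 : F) ≠ 0) {c : chevE6.Idx → F} (h : ∀ row, (comb c * B F row).trace = 0) :
    c = 0 := by
  have h6 : (6 : F) ≠ 0 := by
    rw [show (6 : F) = 2 * 3 by norm_num]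
    exact mul_ne_zero h2 h3
  have h18 : (18 : F) ≠ 0 := by
    rw [show (18 : F) = 2 * 3 * 3 by norm_num]
    exact mul_ne_zero (mul_ne_zero h2 h3) h3
  funext row
  rcases row with k | r
  · -- the Cartan part
    have hj : ∀ j : Fin chevE6.rank, ∑ i : Fin chevE6.rank, c (Sum.inl i) * ((gram i.val j.val : ℤ) : F) = 0 := by
      intro j
      have h0 := h (Sum.inl j)
      rw [tr_comb, Fintype.sum_sum_type] at h0
      have e2 : ∑ r : Fin chevE6.nroots, c (Sum.inr r) * (B F (Sum.inr r) * B F (Sum.inl j)).trace = 0 := by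
        refine Finset.sum_eq_zero fun r _ => ?_
        rw [B_inl, B_inr, tr_NH _ (lt72 r), mul_zero]
      rw [e2, add_zero] at h0
      rw [← h0]
      refine Finset.sum_congr rfl fun i _ => ?_
      rw [B_inl, B_inl, tr_HH]
    exact cartan_part h18 (c := fun i : Fin 6 => c (Sum.inl i)) hj k
  · -- the root part
    have hs : 71 - r.val < 72 := by omega
    have h0 := h (Sum.inr ⟨71 - r.val, hs⟩)
    rw [tr_comb, Fintype.sum_sum_type] at h0
    have e1 : ∑ i : Fin chevE6.rank, c (Sum.inl i) * (B F (Sum.inl i) * B F (Sum.inr ⟨71 - r.val, hs⟩)).trace = 0 := by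
      refine Finset.sum_eq_zero fun i _ => ?_
      rw [B_inl, B_inr, tr_HN _ hs, mul_zero]
    have e2 : ∑ s : Fin chevE6.nroots, c (Sum.inr s) * (B F (Sum.inr s) * B F (Sum.inr ⟨71 - r.val, hs⟩)).trace =
        c (Sum.inr r) * 6 := by
      rw [Finset.sum_eq_single r]
      · rw [B_inr, B_inr, tr_NN (lt72 r) hs, if_pos rfl]
      · intro s _ hsr
        rw [B_inr, B_inr, tr_NN (lt72 s) hs, if_neg, mul_zero]
        intro h
        apply hsr
        apply Fin.ext
        have := lt72 r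
        have := lt72 s
        have h' : 71 - r.val = 71 - s.val := h
        omega
      · intro hk
        exact absurd (Finset.mem_univ _) hk
    rw [e1, e2, zero_add] at h0
    exact (mul_eq_zero.1 h0).resolve_right h6

/-- the form -/
def β : (chevE6.Idx → F) →ₗ[F] (chevE6.Idx → F) →ₗ[F] F :=
  LinearMap.mk₂ F (fun c d => (comb c * comb d).trace)
    (fun c c' d => by
      have e : comb (c + c') = comb c + comb c' := by
        rw [comb_def, comb_def, comb_def, ← Finset.sum_add_distrib]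
        exact Finset.sum_congr rfl fun row _ => by rw [Pi.add_apply, add_smul]
      rw [e, Matrix.add_mul, Matrix.trace_add])
    (fun a c d => by
      have e : comb (a • c) = a • comb c := by
        rw [comb_def, comb_def, Finset.smul_sum]
        exact Finset.sum_congr rfl fun row _ => by rw [Pi.smul_apply, smul_eq_mul, mul_smul]
      rw [e, Matrix.smul_mul, Matrix.trace_smul])
    (fun c d d' => by
      have e : comb (d + d') = comb d + comb d' := by
        rw [comb_def, comb_def, comb_def, ← Finset.sum_add_distrib]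
        exact Finset.sum_congr rfl fun row _ => by rw [Pi.add_apply, add_smul]
      rw [e, Matrix.mul_add, Matrix.trace_add])
    (fun a c d => by
      have e : comb (a • d) = a • comb d := by
        rw [comb_def, comb_def, Finset.smul_sum]
        exact Finset.sum_congr rfl fun row _ => by rw [Pi.smul_apply, smul_eq_mul, mul_smul]
      rw [e, Matrix.mul_smul, Matrix.trace_smul])

theorem β_apply (c d : chevE6.Idx → F) : β c d = (comb c * comb d).trace := rfl

/-- invariance under the simply connected group -/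
theorem β_L (g : ↥(Zgrp F)) (c d : chevE6.Idx → F) : β (L F g c) (L F g d) = β c d := by
  have h1 : ∀ c, ((g : GL I27 F) : Matrix I27 I27 F) * comb c = comb (L F g c) * ((g : GL I27 F) : Matrix I27 I27 F) :=
    fun c => comb_mul_of (ad_P g) c
  have h2 : ∀ c, comb (L F g c) = ((g : GL I27 F) : Matrix I27 I27 F) * comb c *
      (((g : GL I27 F)⁻¹ : GL I27 F) : Matrix I27 I27 F) := by
    intro c
    rw [h1, mul_assoc, ← Units.val_mul, mul_inv_cancel, Units.val_one, mul_one]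
  rw [β_apply, β_apply, h2, h2]
  have h3 : ((g : GL I27 F) : Matrix I27 I27 F) * comb c * (((g : GL I27 F)⁻¹ : GL I27 F) : Matrix I27 I27 F) *
      (((g : GL I27 F) : Matrix I27 I27 F) * comb d * (((g : GL I27 F)⁻¹ : GL I27 F) : Matrix I27 I27 F)) =
      ((g : GL I27 F) : Matrix I27 I27 F) * (comb c * comb d) * (((g : GL I27 F)⁻¹ : GL I27 F) : Matrix I27 I27 F) := by
    have h4 : (((g : GL I27 F)⁻¹ : GL I27 F) : Matrix I27 I27 F) * ((g : GL I27 F) : Matrix I27 I27 F) = 1 := by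
      rw [← Units.val_mul, inv_mul_cancel, Units.val_one]
    calc _ = ((g : GL I27 F) : Matrix I27 I27 F) * comb c * ((((g : GL I27 F)⁻¹ : GL I27 F) : Matrix I27 I27 F) *
          ((g : GL I27 F) : Matrix I27 I27 F)) * comb d * (((g : GL I27 F)⁻¹ : GL I27 F) : Matrix I27 I27 F) := by
          simp only [mul_assoc]
      _ = _ := by rw [h4, mul_one]; simp only [mul_assoc]
  rw [h3, Matrix.trace_mul_comm, ← mul_assoc, ← Units.val_mul, inv_mul_cancel, Units.val_one, one_mul]

theorem β_nondeg (h2 : (2 : F) ≠ 0) (h3 : (3 : F) ≠ 0) {c : chevE6.Idx → F} (h : ∀ d, β c d = 0) : c = 0 := by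
  refine nondeg h2 h3 fun row => ?_
  have h4 := h (Pi.single row 1)
  have e : comb (Pi.single row (1 : F)) = B F row := by
    rw [comb_def, Finset.sum_eq_single row]
    · rw [Pi.single_eq_same, one_smul]
    · intro s _ hs
      rw [Pi.single_eq_of_ne hs, zero_smul]
    · intro hk
      exact absurd (Finset.mem_univ _) hk
  rw [β_apply, e] at h4
  exact h4

/-- the adjoint module is self-dual: invariants of the dual come from invariants -/
theorem dual_inv (h2 : (2 : F) ≠ 0) (h3 : (3 : F) ≠ 0) {A : Type*} [Group A] (σ : Representation F A (chevE6.Idx → F))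
    (hσ : ∀ a, ∃ g : ↥(Zgrp F), σ a = L F g) (h : σ.dual.invariants ≠ ⊥) : σ.invariants ≠ ⊥ := by
  obtain ⟨f, hf, hf0⟩ := Submodule.exists_mem_ne_zero_of_ne_bot h
  have hinj : Function.Injective (β : (chevE6.Idx → F) →ₗ[F] (chevE6.Idx → F) →ₗ[F] F) := by
    rw [← LinearMap.ker_eq_bot, eq_bot_iff]
    intro c hc
    rw [LinearMap.mem_ker] at hc
    rw [Submodule.mem_bot]
    exact β_nondeg h2 h3 fun d => by rw [hc]; rfl
  have hsurj : Function.Surjective (β : (chevE6.Idx → F) →ₗ[F] Module.Dual F (chevE6.Idx → F)) :=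
    (LinearMap.injective_iff_surjective_of_finrank_eq_finrank (by exact (Subspace.dual_finrank_eq).symm)).1 hinj
  obtain ⟨X, rfl⟩ := hsurj f
  have hX0 : X ≠ 0 := by
    rintro rfl
    exact hf0 (map_zero _)
  intro hbot
  apply hX0
  have hX : X ∈ σ.invariants := by
    rw [Representation.mem_invariants]
    intro a
    have hinva : ∀ c d, β (σ a c) (σ a d) = β c d := by
      obtain ⟨g, hg⟩ := hσ a
      intro c d
      rw [hg]
      exact β_L g c d
    have h0 : ∀ d, β (σ a X) d = β X d := by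
      intro d
      have e1 : σ a (σ a⁻¹ d) = d := by
        rw [← Module.End.mul_apply, ← map_mul, mul_inv_cancel, map_one]
        rfl
      have e2 := hinva X (σ a⁻¹ d)
      rw [e1] at e2
      rw [e2]
      have e3 := (Representation.mem_invariants _ _).1 hf a
      have e4 := LinearMap.congr_fun e3 d
      rw [Representation.dual_apply, Module.Dual.transpose_apply, LinearMap.comp_apply] at e4
      exact e4
    have h4 : σ a X - X = 0 := β_nondeg h2 h3 fun d => by
      rw [map_sub, LinearMap.sub_apply, h0, sub_self]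
    exact sub_eq_zero.1 h4
  rwa [hbot, Submodule.mem_bot] at hX

end form

end Cfsg.Agent.H710.E6C.Form
end

-- part: H710/E6C/ExX
section
/-!
# S5927: the three-fold covers of `A₆`, `A₇`, `p ≥ 5`: an `H`-stable line in the Lie algebra (helper710)
-/

set_option autoImplicit false
set_option linter.unusedSectionVars false

namespace Cfsg.Agent.H163.E6.Cov

open Cfsg Cfsg.Lie Module
open Cfsg.Agent.ChevalleyStructure.E6Min.Tables Cfsg.Agent.ChevalleyStructure.E6Min.Basic
  Cfsg.Agent.ChevalleyStructure.E6Min.Adjoint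
open Cfsg.Agent.H952.F4 (ev es matRep GenT)

universe u

variable {F : Type u} [Field F] [Finite F] {H : Subgroup ↥(chevE6.group F)} {n : ℕ}
  {φ : ↥(alternatingGroup (Fin n)) →* ↥(chevE6.group F)}

/-- from the fixed space of the alternating group to an `H`-stable line -/
theorem exists_X_of (hS : Sit H n φ)
    (hne : Representation.invariants (MonoidHom.comp (LK F) φ : Representation F ↥(alternatingGroup (Fin n)) _) ≠ ⊥) :
    ∃ X : chevE6.Idx → F, X ≠ 0 ∧ (∀ a, LK F (φ a) X = X) ∧ ∀ h ∈ H, LK F h X = X ∨ LK F h X = -X := by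
  set W : Submodule F (chevE6.Idx → F) :=
    Representation.invariants (MonoidHom.comp (LK F) φ : Representation F ↥(alternatingGroup (Fin n)) _) with hWdef
  have memW : ∀ v, v ∈ W ↔ ∀ a ∈ φ.range, LK F a v = v := fun v => by
    rw [hWdef, Representation.mem_invariants]
    constructor
    · rintro h _ ⟨a, rfl⟩
      exact h a
    · intro h a
      exact h _ ⟨a, rfl⟩
  have rmul : ∀ (x y : ↥(chevE6.group F)) (v : chevE6.Idx → F), LK F (x * y) v = LK F x (LK F y v) := by
    intro x y v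
    rw [map_mul, Module.End.mul_apply]
  have hW : ∀ x ∈ H, ∀ v ∈ W, LK F x v ∈ W := by
    intro x hx v hv
    rw [memW] at hv ⊢
    intro a ha
    have h1 := hS.norm x⁻¹ (inv_mem hx) a ha
    rw [inv_inv] at h1
    have h2 : LK F a (LK F x v) = LK F x (LK F (x⁻¹ * a * x) v) := by
      rw [← rmul, ← rmul]
      congr 2
      group
    rw [h2, hv _ h1]
  have hsq : ∀ x ∈ H, ∀ v ∈ W, LK F x (LK F x v) = v := by
    intro x hx v hv
    rw [← rmul]
    exact (memW v).1 hv _ (hS.sq x hx)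
  obtain ⟨w, hw, hw0, hw'⟩ := H952.F4.MaxA.exists_line H W hne hW hsq
  exact ⟨w, hw0, fun a => (memW w).1 hw _ ⟨a, rfl⟩, hw'⟩

/-- Scott's lemma in the Lie algebra -/
theorem scott_inv (h2 : (2 : F) ≠ 0) (h3 : (3 : F) ≠ 0) {A : Type*} [Group A] (φ : A →* ↥(chevE6.group F)) {x y : A}
    (hgen : Subgroup.closure {x, y} = ⊤)
    (h : 78 < ev (LK F (φ x)) 1 + ev (LK F (φ y)) 1 + ev (LK F (φ (x * y))) 1) :
    Representation.invariants (MonoidHom.comp (LK F) φ : Representation F A _) ≠ ⊥ := by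
  have h1 := H952.F4.Scott.scott (MonoidHom.comp (LK F) φ : Representation F A (chevE6.Idx → F)) hgen
  have h78 : finrank F (chevE6.Idx → F) = 78 := by
    rw [Module.finrank_fintype_fun_eq_card]
    rfl
  rw [h78] at h1
  have hσ : ∀ a, ∃ g : ↥(Zgrp F), (MonoidHom.comp (LK F) φ : Representation F A (chevE6.Idx → F)) a = L F g := by
    intro a
    obtain ⟨g, hg⟩ := ad_surjective (φ a)
    exact ⟨g, by rw [L_eq, hg]; rfl⟩
  intro hbot
  have h4 : (Representation.dual (MonoidHom.comp (LK F) φ : Representation F A (chevE6.Idx → F))).invariants = ⊥ := by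
    by_contra hne
    exact H710.E6C.Form.dual_inv h2 h3 _ hσ hne hbot
  rw [hbot, h4, finrank_bot, finrank_bot] at h1
  have h5 : ∀ a, (MonoidHom.comp (LK F) φ : Representation F A (chevE6.Idx → F)) a = LK F (φ a) := fun a => rfl
  rw [h5, h5, h5] at h1
  omega

theorem ord_of_ct {n m : ℕ} {a : ↥(alternatingGroup (Fin n))} {s : Multiset ℕ}
    (ha : (a : Equiv.Perm (Fin n)).cycleType = s) (hs : s.lcm = m) : orderOf a = m := by
  rw [← Subgroup.orderOf_coe, ← Equiv.Perm.lcm_cycleType, ha, hs]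

/-- elements of order 4 -/
theorem four_ge (p : ℕ) [Fact p.Prime] [CharP F p] (hp : 5 ≤ p) (hφ : Function.Injective φ)
    {a : ↥(alternatingGroup (Fin n))} (ha : orderOf a = 4) : 20 ≤ ev (LK F (φ a)) 1 := by
  obtain ⟨g, hg⟩ := ad_surjective (φ a)
  -- a lift of order 4
  have h4 : a ^ 4 = 1 := by rw [← ha]; exact pow_orderOf_eq_one a
  have hg4 : ad F (g ^ 4) = 1 := by rw [map_pow, hg, ← map_pow, h4, map_one]
  have hg12 : g ^ 12 = 1 := by
    have := ker_pow hg4
    rwa [← pow_mul] at this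
  have hx4 : (g ^ 9) ^ 4 = 1 := by
    rw [← pow_mul, show 9 * 4 = 12 * 3 by norm_num, pow_mul, hg12, one_pow]
  have hx : ad F (g ^ 9) = φ a := by
    rw [map_pow, hg, ← map_pow]
    congr 1
    rw [show 9 = 4 * 2 + 1 by norm_num, pow_add, pow_mul, h4, one_pow, one_mul, pow_one]
  have hxx : g ^ 9 * g ^ 9 ≠ 1 := by
    intro h
    have h1 : φ (a * a) = 1 := by rw [map_mul, ← hx, ← map_mul, h, map_one]
    have h2 : a * a = 1 := hφ (by rw [h1, map_one])
    have h3 : orderOf a ∣ 2 := orderOf_dvd_of_pow_eq_one (by rw [pow_two, h2])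
    rw [ha] at h3
    norm_num at h3
  have h5 := (Tor.tab p (F := F)).four (by omega) (g ^ 9) hxx hx4
  have h6 : ev (L F (g ^ 9)) 1 = ev (LK F (φ a)) 1 := by rw [L_eq, hx]
  omega

/-- **`n = 6`** -/
theorem inv_six (p : ℕ) [Fact p.Prime] [CharP F p] (hp : 5 ≤ p) (hn : n = 6) (hφ : Function.Injective φ) {ω : Fˣ}
    (hc : Cover φ ω) :
    Representation.invariants (MonoidHom.comp (LK F) φ : Representation F ↥(alternatingGroup (Fin n)) _) ≠ ⊥ := by
  have h2 : (2 : F) ≠ 0 := by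
    intro h
    have := (CharP.cast_eq_zero_iff F p 2).1 (by exact_mod_cast h)
    have := Nat.le_of_dvd (by norm_num) this
    omega
  have h3 : (3 : F) ≠ 0 := by
    intro h
    have := (CharP.cast_eq_zero_iff F p 3).1 (by exact_mod_cast h)
    have := Nat.le_of_dvd (by norm_num) this
    omega
  have hthree : ∀ a : ↥(alternatingGroup (Fin n)), orderOf a = 3 → ev (LK F (φ a)) 1 = 30 := by
    intro a ha
    obtain ⟨g, hg⟩ := ad_surjective (φ a)
    have h1 := (type_thirty (Or.inl hn) hφ hc ha hg).2.2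
    rwa [L_eq, hg] at h1
  subst hn
  obtain ⟨x, y, hgen, hx, hy, hxy⟩ := H251.E6.gen6c
  refine scott_inv h2 h3 φ hgen ?_
  rw [hthree x (ord_of_ct hx (by decide)), hthree y (ord_of_ct hy (by decide))]
  have := four_ge p hp hφ (a := x * y) (ord_of_ct hxy (by decide))
  omega

/-- the form used by `Cen` -/
theorem exists_line_of (hS : Sit H n φ)
    (hne : Representation.invariants (MonoidHom.comp (LK F) φ : Representation F ↥(alternatingGroup (Fin n)) _) ≠ ⊥) :
    ∃ X : chevE6.Idx → F, X ≠ 0 ∧ ∀ h ∈ H, ∃ c : F, LK F h X = c • X := by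
  obtain ⟨X, h0, -, h1⟩ := exists_X_of hS hne
  refine ⟨X, h0, fun h hh => ?_⟩
  rcases h1 h hh with h2 | h2
  · exact ⟨1, by rw [h2, one_smul]⟩
  · exact ⟨-1, by rw [h2, neg_smul, one_smul]⟩

end Cfsg.Agent.H163.E6.Cov
end

-- part: H251/E6/ScottU
section
/-!
# Scott's lemma for two operators (helper251, S5927)
-/

set_option autoImplicit false

namespace Cfsg.Agent.H251.E6

open Module Cfsg.Agent.H952.F4

variable {K V : Type*} [Field K] [AddCommGroup V] [Module K V] [FiniteDimensional K V]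

theorem scott_units (X Y : (Module.End K V)ˣ) (B : V →ₗ[K] V →ₗ[K] K) (hB : ∀ v, (∀ w, B v w = 0) → v = 0)
    (hX : ∀ v w, B ((X : Module.End K V) v) ((X : Module.End K V) w) = B v w)
    (hY : ∀ v w, B ((Y : Module.End K V) v) ((Y : Module.End K V) w) = B v w) {W : Submodule K V}
    (hW : ∀ v, (X : Module.End K V) v = v → (Y : Module.End K V) v = v → v ∈ W) :
    ev (X : Module.End K V) 1 + ev (Y : Module.End K V) 1 + ev ((X * Y : (Module.End K V)ˣ) : Module.End K V) 1 ≤
      finrank K V + 2 * finrank K W := by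
  let G : Subgroup (Module.End K V)ˣ := Subgroup.closure {X, Y}
  let ρ : Representation K ↥G V := (Units.coeHom (Module.End K V)).comp G.subtype
  have hx : X ∈ G := Subgroup.subset_closure (by simp)
  have hy : Y ∈ G := Subgroup.subset_closure (by simp)
  have hgen : Subgroup.closure {(⟨X, hx⟩ : ↥G), ⟨Y, hy⟩} = ⊤ := by
    have h1 : (Subgroup.closure {(⟨X, hx⟩ : ↥G), ⟨Y, hy⟩}).map G.subtype = G := by
      rw [MonoidHom.map_closure, Set.image_pair]
      rfl
    apply Subgroup.map_injective G.subtype_injective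
    rw [h1, ← MonoidHom.range_eq_map, Subgroup.range_subtype]
  have hinv : ∀ g : ↥G, ∀ v w, B (ρ g v) (ρ g w) = B v w := by
    rintro ⟨g, hg⟩
    show ∀ v w, B ((g : Module.End K V) v) ((g : Module.End K V) w) = B v w
    induction hg using Subgroup.closure_induction with
    | mem x hx =>
      rcases hx with rfl | rfl
      · exact hX
      · exact hY
    | one => intro v w; rfl
    | mul a b _ _ ha hb =>
      intro v w
      rw [Units.val_mul, Module.End.mul_apply, Module.End.mul_apply, ha, hb]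
    | inv a _ ha =>
      intro v w
      rw [← ha, ← Module.End.mul_apply, ← Module.End.mul_apply, ← Units.val_mul, mul_inv_cancel, Units.val_one,
        Module.End.one_apply, Module.End.one_apply]
  have h := Scott.scott_form ρ hgen B hB hinv
  have hle : ρ.invariants ≤ W := by
    intro v hv
    rw [Representation.mem_invariants] at hv
    exact hW v (hv ⟨X, hx⟩) (hv ⟨Y, hy⟩)
  have h2 := Submodule.finrank_mono hle
  have h3 : ev (ρ ⟨X, hx⟩) 1 = ev (X : Module.End K V) 1 := rfl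
  have h4 : ev (ρ ⟨Y, hy⟩) 1 = ev (Y : Module.End K V) 1 := rfl
  have h5 : ev (ρ (⟨X, hx⟩ * ⟨Y, hy⟩)) 1 = ev ((X * Y : (Module.End K V)ˣ) : Module.End K V) 1 := rfl
  rw [h3, h4, h5] at h
  omega

/-- the eigenspaces of an involution -/
theorem ev_neg_add (h2 : (2 : K) ≠ 0) {X : Module.End K V} (hX : X * X = 1) : ev X 1 + ev X (-1) = finrank K V := by
  have hc : IsCompl (Module.End.eigenspace X 1) (Module.End.eigenspace X (-1)) := by
    constructor
    · rw [Submodule.disjoint_def]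
      intro v h3 h4
      rw [Module.End.mem_eigenspace_iff] at h3 h4
      rw [one_smul] at h3
      rw [h3, neg_smul, one_smul] at h4
      have h5 : (2 : K) • v = 0 := by
        rw [two_smul]
        nth_rw 1 [h4]
        exact neg_add_cancel v
      exact (smul_eq_zero.1 h5).resolve_left h2
    · rw [codisjoint_iff, eq_top_iff]
      intro v _
      have hXX : X (X v) = v := by rw [← Module.End.mul_apply, hX, Module.End.one_apply]
      have e : v = (2 : K)⁻¹ • (v + X v) + (2 : K)⁻¹ • (v - X v) := by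
        rw [← smul_add, add_add_sub_cancel, ← two_smul K, smul_smul, inv_mul_cancel₀ h2, one_smul]
      rw [e]
      refine Submodule.add_mem_sup (Submodule.smul_mem _ _ ?_) (Submodule.smul_mem _ _ ?_)
      · rw [Module.End.mem_eigenspace_iff, map_add, hXX, one_smul, add_comm]
      · rw [Module.End.mem_eigenspace_iff, map_sub, hXX, neg_smul, one_smul, neg_sub]
  exact Submodule.finrank_add_eq_of_isCompl hc

theorem ev_neg (X : Module.End K V) (μ : K) : ev (-X) μ = ev X (-μ) := by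
  have h : Module.End.eigenspace (-X) μ = Module.End.eigenspace X (-μ) := by
    ext v
    rw [Module.End.mem_eigenspace_iff, Module.End.mem_eigenspace_iff, LinearMap.neg_apply, neg_smul]
    constructor
    · intro h; rw [← h, neg_neg]
    · intro h; rw [h, neg_neg]
  unfold ev
  rw [h]

/-- **upper bound for the common fixed space of two involutions** -/
theorem dih_le (h2 : (2 : K) ≠ 0) (X Y : (Module.End K V)ˣ) (B : V →ₗ[K] V →ₗ[K] K) (hB : ∀ v, (∀ w, B v w = 0) → v = 0)
    (hX : ∀ v w, B ((X : Module.End K V) v) ((X : Module.End K V) w) = B v w)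
    (hY : ∀ v w, B ((Y : Module.End K V) v) ((Y : Module.End K V) w) = B v w) {U : Submodule K V}
    (hU : ∀ v ∈ U, (X : Module.End K V) v = v ∧ (Y : Module.End K V) v = v) :
    ev (X : Module.End K V) (-1) + ev (Y : Module.End K V) (-1) + 2 * finrank K U ≤
      finrank K V + ev ((X * Y : (Module.End K V)ˣ) : Module.End K V) 1 := by
  let W : Submodule K V := Module.End.eigenspace (X : Module.End K V) (-1) ⊓ Module.End.eigenspace (Y : Module.End K V) (-1)
  have h1 := scott_units (-X) (-Y) B hB (fun v w => by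
    simp only [Units.val_neg, LinearMap.neg_apply, map_neg, neg_neg, hX])
    (fun v w => by
    simp only [Units.val_neg, LinearMap.neg_apply, map_neg, neg_neg, hY])
    (W := W) (fun v h3 h4 => by
      rw [Units.val_neg, LinearMap.neg_apply] at h3 h4
      rw [Submodule.mem_inf, Module.End.mem_eigenspace_iff, Module.End.mem_eigenspace_iff]
      constructor
      · rw [neg_smul, one_smul]
        nth_rw 2 [← h3]
        rw [neg_neg]
      · rw [neg_smul, one_smul]
        nth_rw 2 [← h4]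
        rw [neg_neg])
  rw [neg_mul_neg, Units.val_neg, Units.val_neg, ev_neg, ev_neg] at h1
  have h3 : finrank K W + finrank K U ≤ ev ((X * Y : (Module.End K V)ˣ) : Module.End K V) 1 := by
    have hd : Disjoint W U := by
      rw [Submodule.disjoint_def]
      intro v h4 h5
      have h6 := Module.End.mem_eigenspace_iff.1 (Submodule.mem_inf.1 h4).1
      rw [(hU v h5).1, neg_smul, one_smul] at h6
      have h7 : (2 : K) • v = 0 := by
        rw [two_smul]
        nth_rw 1 [h6]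
        exact neg_add_cancel v
      exact (smul_eq_zero.1 h7).resolve_left h2
    have h4 := Submodule.finrank_sup_add_finrank_inf_eq W U
    rw [hd.eq_bot, finrank_bot, add_zero] at h4
    rw [← h4]
    refine Submodule.finrank_mono (sup_le ?_ ?_)
    · intro v hv
      have h6 := Module.End.mem_eigenspace_iff.1 (Submodule.mem_inf.1 hv).1
      have h7 := Module.End.mem_eigenspace_iff.1 (Submodule.mem_inf.1 hv).2
      rw [Module.End.mem_eigenspace_iff, Units.val_mul, Module.End.mul_apply, h7, map_smul, h6, smul_smul, neg_mul_neg,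
        one_mul]
    · intro v hv
      rw [Module.End.mem_eigenspace_iff, Units.val_mul, Module.End.mul_apply, (hU v hv).2, (hU v hv).1, one_smul]
  omega

end Cfsg.Agent.H251.E6
end

-- part: H251/E6/Avg
section
/-!
# Dimensions of fixed spaces of `A₅`, `A₆` (helper251, S5927)
-/

set_option autoImplicit false

namespace Cfsg.Agent.H251.E6

open Module Equiv Finset
open scoped Nat

section Avg

variable {K G V : Type*} [Field K] [Group G] [Fintype G] [AddCommGroup V] [Module K V] [FiniteDimensional K V]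

theorem avg (ρ : Representation K G V) (h : ((Fintype.card G : ℕ) : K) ≠ 0) :
    ∑ g : G, LinearMap.trace K V (ρ g) = (Fintype.card G : K) * (finrank K ρ.invariants : K) := by
  have hinv : Invertible (Fintype.card G : K) := invertibleOfNonzero h
  have h1 : LinearMap.trace K _ ρ.averageMap = (finrank K ρ.invariants : K) :=
    LinearMap.IsProj.trace ρ.isProj_averageMap
  have h2 : ρ.averageMap = ⅟(Fintype.card G : K) • ∑ g : G, ρ g := by
    unfold Representation.averageMap GroupAlgebra.average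
    rw [map_smul, map_sum]
    congr 1
    refine Finset.sum_congr rfl fun g _ => ?_
    rw [Representation.asAlgebraHom_of]
  rw [← h1, h2, map_smul, map_sum, smul_eq_mul, ← mul_assoc, mul_invOf_self, one_mul]

end Avg

/-- sums of class functions over the alternating group -/
theorem sum_types {K : Type*} [Field K] {n : ℕ} (S : Finset (Multiset ℕ)) (t : Multiset ℕ → K) (f : alternatingGroup (Fin n) → K)
    (hf : ∀ g : alternatingGroup (Fin n), (g : Perm (Fin n)).cycleType ∈ S → f g = t (g : Perm (Fin n)).cycleType)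
    (hS : ∑ m ∈ S, #{g : alternatingGroup (Fin n) | (g : Perm (Fin n)).cycleType = m} =
      Fintype.card (alternatingGroup (Fin n))) :
    ∑ g, f g = ∑ m ∈ S, (#{g : alternatingGroup (Fin n) | (g : Perm (Fin n)).cycleType = m} : K) * t m := by
  classical
  have h1 : Finset.univ.filter (fun g : alternatingGroup (Fin n) => (g : Perm (Fin n)).cycleType ∈ S) = Finset.univ := by
    rw [← Finset.card_eq_iff_eq_univ]
    rw [← hS]
    have hfib := Finset.card_eq_sum_card_fiberwise (f := fun g : alternatingGroup (Fin n) => (g : Perm (Fin n)).cycleType)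
      (s := Finset.univ.filter (fun g : alternatingGroup (Fin n) => (g : Perm (Fin n)).cycleType ∈ S)) (t := S)
      (fun g hg => by
        have h2 := Finset.mem_coe.1 hg
        exact Finset.mem_coe.2 (Finset.mem_filter.1 h2).2)
    rw [hfib]
    refine Finset.sum_congr rfl fun m hm => ?_
    congr 1
    ext g
    simp only [Finset.mem_filter, Finset.mem_univ, true_and]
    constructor
    · rintro ⟨-, h⟩; exact h
    · intro h; exact ⟨h ▸ hm, h⟩
  have hmaps : ∀ g ∈ (Finset.univ : Finset (alternatingGroup (Fin n))), (g : Perm (Fin n)).cycleType ∈ S := by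
    intro g _
    have : g ∈ Finset.univ.filter (fun g : alternatingGroup (Fin n) => (g : Perm (Fin n)).cycleType ∈ S) := by
      rw [h1]; exact Finset.mem_univ _
    exact (Finset.mem_filter.1 this).2
  rw [← Finset.sum_fiberwise_of_maps_to hmaps]
  refine Finset.sum_congr rfl fun m _ => ?_
  rw [Finset.sum_congr rfl (g := fun _ => t m) fun g hg => by
    rw [hf g (hmaps g (Finset.mem_univ _)), (Finset.mem_filter.1 hg).2]]
  rw [Finset.sum_const, nsmul_eq_mul]

theorem card_type {n : ℕ} (m : Multiset ℕ) (c : ℕ)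
    (h : (if (m.sum ≤ n ∧ ∀ a ∈ m, 2 ≤ a) ∧ Even (m.sum + Multiset.card m) then
        n ! / ((n - m.sum)! * (m.prod * (∏ k ∈ m.toFinset, (m.count k)!))) else 0) = c) :
    #{g : alternatingGroup (Fin n) | (g : Perm (Fin n)).cycleType = m} = c := by
  rw [AlternatingGroup.card_of_cycleType, Fintype.card_fin]
  exact h

theorem card_alt (n c : ℕ) (h0 : 2 ≤ n) (h : n ! = 2 * c) : Fintype.card (alternatingGroup (Fin n)) = c := by
  have : Nontrivial (Fin n) := Fin.nontrivial_iff_two_le.2 h0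
  have h1 := two_mul_card_alternatingGroup (α := Fin n)
  rw [Fintype.card_perm, Fintype.card_fin, h] at h1
  omega

/-- the sum over `A₆` -/
theorem sum_six {K : Type*} [Field K] (t1 t3 t22 t5 t42 t33 : K) (f : alternatingGroup (Fin 6) → K)
    (h1 : f 1 = t1)
    (h3 : ∀ g : alternatingGroup (Fin 6), (g : Perm (Fin 6)).cycleType = {3} → f g = t3)
    (h22 : ∀ g : alternatingGroup (Fin 6), (g : Perm (Fin 6)).cycleType = {2, 2} → f g = t22)
    (h5 : ∀ g : alternatingGroup (Fin 6), (g : Perm (Fin 6)).cycleType = {5} → f g = t5)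
    (h42 : ∀ g : alternatingGroup (Fin 6), (g : Perm (Fin 6)).cycleType = {4, 2} → f g = t42)
    (h33 : ∀ g : alternatingGroup (Fin 6), (g : Perm (Fin 6)).cycleType = {3, 3} → f g = t33) :
    ∑ g, f g = t1 + 40 * t3 + 45 * t22 + 144 * t5 + 90 * t42 + 40 * t33 := by
  classical
  have c0 := card_type (n := 6) 0 1 (by decide +kernel)
  have c3 := card_type (n := 6) {3} 40 (by decide +kernel)
  have c22 := card_type (n := 6) {2, 2} 45 (by decide +kernel)
  have c5 := card_type (n := 6) {5} 144 (by decide +kernel)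
  have c42 := card_type (n := 6) {4, 2} 90 (by decide +kernel)
  have c33 := card_type (n := 6) {3, 3} 40 (by decide +kernel)
  let t : Multiset ℕ → K := fun m => if m = 0 then t1 else if m = {3} then t3 else if m = {2, 2} then t22 else
    if m = {5} then t5 else if m = {4, 2} then t42 else t33
  have n1 : ({3} : Multiset ℕ) ≠ 0 := by decide
  have n2 : ({2, 2} : Multiset ℕ) ≠ 0 := by decide
  have n3 : ({5} : Multiset ℕ) ≠ 0 := by decide
  have n4 : ({4, 2} : Multiset ℕ) ≠ 0 := by decide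
  have n5 : ({3, 3} : Multiset ℕ) ≠ 0 := by decide
  have n6 : ({2, 2} : Multiset ℕ) ≠ {3} := by decide
  have n7 : ({5} : Multiset ℕ) ≠ {3} := by decide
  have n8 : ({4, 2} : Multiset ℕ) ≠ {3} := by decide
  have n9 : ({3, 3} : Multiset ℕ) ≠ {3} := by decide
  have n10 : ({5} : Multiset ℕ) ≠ {2, 2} := by decide
  have n11 : ({4, 2} : Multiset ℕ) ≠ {2, 2} := by decide
  have n12 : ({3, 3} : Multiset ℕ) ≠ {2, 2} := by decide
  have n13 : ({4, 2} : Multiset ℕ) ≠ {5} := by decide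
  have n14 : ({3, 3} : Multiset ℕ) ≠ {5} := by decide
  have n15 : ({3, 3} : Multiset ℕ) ≠ {4, 2} := by decide
  have key := sum_types (K := K) (n := 6) ({0, {3}, {2, 2}, {5}, {4, 2}, {3, 3}} : Finset (Multiset ℕ)) t f ?_ ?_
  · rw [key, Finset.sum_insert, Finset.sum_insert, Finset.sum_insert, Finset.sum_insert, Finset.sum_insert,
      Finset.sum_singleton, c0, c3, c22, c5, c42, c33]
    · simp only [t, if_true, if_neg n1, if_neg n2, if_neg n3, if_neg n4, if_neg n5, if_neg n6, if_neg n7, if_neg n8,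
        if_neg n9, if_neg n10, if_neg n11, if_neg n12, if_neg n13, if_neg n14, if_neg n15]
      push_cast
      ring
    all_goals decide
  · intro g hg
    simp only [Finset.mem_insert, Finset.mem_singleton] at hg
    rcases hg with h | h | h | h | h | h
    · rw [h]
      rw [Perm.cycleType_eq_zero] at h
      have : g = 1 := Subtype.ext h
      rw [this, h1]
      simp only [t, if_true]
    · rw [h, h3 g h]; simp only [t, if_true, if_neg n1]
    · rw [h, h22 g h]; simp only [t, if_true, if_neg n2, if_neg n6]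
    · rw [h, h5 g h]; simp only [t, if_true, if_neg n3, if_neg n7, if_neg n10]
    · rw [h, h42 g h]; simp only [t, if_true, if_neg n4, if_neg n8, if_neg n11, if_neg n13]
    · rw [h, h33 g h]; simp only [t, if_neg n5, if_neg n9, if_neg n12, if_neg n14, if_neg n15]
  · have hS : ∀ N : Multiset ℕ → ℕ, N 0 = 1 → N {3} = 40 → N {2, 2} = 45 → N {5} = 144 → N {4, 2} = 90 → N {3, 3} = 40 →
        ∑ m ∈ ({0, {3}, {2, 2}, {5}, {4, 2}, {3, 3}} : Finset (Multiset ℕ)), N m = 360 := by
      intro N c0 c3 c22 c5 c42 c33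
      rw [Finset.sum_insert, Finset.sum_insert, Finset.sum_insert, Finset.sum_insert, Finset.sum_insert,
        Finset.sum_singleton, c0, c3, c22, c5, c42, c33]
      all_goals decide
    exact (hS (fun m => #{g : alternatingGroup (Fin 6) | (g : Perm (Fin 6)).cycleType = m}) c0 c3 c22 c5 c42 c33).trans
      (card_alt 6 360 (by norm_num) (by decide +kernel)).symm

/-- the sum over `A₅` -/
theorem sum_five {K : Type*} [Field K] (t1 t3 t22 t5 : K) (f : alternatingGroup (Fin 5) → K)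
    (h1 : f 1 = t1)
    (h3 : ∀ g : alternatingGroup (Fin 5), (g : Perm (Fin 5)).cycleType = {3} → f g = t3)
    (h22 : ∀ g : alternatingGroup (Fin 5), (g : Perm (Fin 5)).cycleType = {2, 2} → f g = t22)
    (h5 : ∀ g : alternatingGroup (Fin 5), (g : Perm (Fin 5)).cycleType = {5} → f g = t5) :
    ∑ g, f g = t1 + 20 * t3 + 15 * t22 + 24 * t5 := by
  classical
  have c0 := card_type (n := 5) 0 1 (by decide +kernel)
  have c3 := card_type (n := 5) {3} 20 (by decide +kernel)
  have c22 := card_type (n := 5) {2, 2} 15 (by decide +kernel)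
  have c5 := card_type (n := 5) {5} 24 (by decide +kernel)
  let t : Multiset ℕ → K := fun m => if m = 0 then t1 else if m = {3} then t3 else if m = {2, 2} then t22 else t5
  have n1 : ({3} : Multiset ℕ) ≠ 0 := by decide
  have n2 : ({2, 2} : Multiset ℕ) ≠ 0 := by decide
  have n3 : ({5} : Multiset ℕ) ≠ 0 := by decide
  have n6 : ({2, 2} : Multiset ℕ) ≠ {3} := by decide
  have n7 : ({5} : Multiset ℕ) ≠ {3} := by decide
  have n10 : ({5} : Multiset ℕ) ≠ {2, 2} := by decide
  have key := sum_types (K := K) (n := 5) ({0, {3}, {2, 2}, {5}} : Finset (Multiset ℕ)) t f ?_ ?_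
  · rw [key, Finset.sum_insert, Finset.sum_insert, Finset.sum_insert, Finset.sum_singleton, c0, c3, c22, c5]
    · simp only [t, if_true, if_neg n1, if_neg n2, if_neg n3, if_neg n6, if_neg n7, if_neg n10]
      push_cast
      ring
    all_goals decide
  · intro g hg
    simp only [Finset.mem_insert, Finset.mem_singleton] at hg
    rcases hg with h | h | h | h
    · rw [h]
      rw [Perm.cycleType_eq_zero] at h
      have : g = 1 := Subtype.ext h
      rw [this, h1]
      simp only [t, if_true]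
    · rw [h, h3 g h]; simp only [t, if_true, if_neg n1]
    · rw [h, h22 g h]; simp only [t, if_true, if_neg n2, if_neg n6]
    · rw [h, h5 g h]; simp only [t, if_neg n3, if_neg n7, if_neg n10]
  · have hS : ∀ N : Multiset ℕ → ℕ, N 0 = 1 → N {3} = 20 → N {2, 2} = 15 → N {5} = 24 →
        ∑ m ∈ ({0, {3}, {2, 2}, {5}} : Finset (Multiset ℕ)), N m = 60 := by
      intro N c0 c3 c22 c5
      rw [Finset.sum_insert, Finset.sum_insert, Finset.sum_insert, Finset.sum_singleton, c0, c3, c22, c5]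
      all_goals decide
    exact (hS (fun m => #{g : alternatingGroup (Fin 5) | (g : Perm (Fin 5)).cycleType = m}) c0 c3 c22 c5).trans
      (card_alt 5 60 (by norm_num) (by decide +kernel)).symm

end Cfsg.Agent.H251.E6
end

-- part: H251/E6/Form
section
/-!
# The trace form; lifts of elements (helper251, S5927)
-/

set_option autoImplicit false

namespace Cfsg.Agent.H251.E6

open Cfsg Cfsg.Lie Module Equiv
open Cfsg.Agent.ChevalleyStructure.E6Min.Tables Cfsg.Agent.ChevalleyStructure.E6Min.Basic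
  Cfsg.Agent.ChevalleyStructure.E6Min.Adjoint
open Cfsg.Agent.H952.F4 (ev sh cr tf GenT)
open Cfsg.Agent.H163.E6
open Cfsg.Agent.H163.E6.Der (D_act D_apply)
open Cfsg.Agent.H952.F4.Kill (zz cc g1 r3 y7 z7)
open scoped Matrix

universe u

/-! ### the form -/

section Form

variable {F : Type u} [Field F]

theorem finrank_L : finrank F (chevE6.Idx → F) = 78 := by
  rw [Module.finrank_fintype_fun_eq_card]
  rfl

theorem comb_add (c d : chevE6.Idx → F) : comb (c + d) = comb c + comb d := by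
  simp only [comb_def, Pi.add_apply, add_smul, Finset.sum_add_distrib]

theorem comb_smul (t : F) (c : chevE6.Idx → F) : comb (t • c) = t • comb c := by
  simp only [comb_def, Pi.smul_apply, smul_eq_mul, Finset.smul_sum, smul_smul]

/-- the trace form -/
noncomputable def Bf (F : Type u) [Field F] : (chevE6.Idx → F) →ₗ[F] (chevE6.Idx → F) →ₗ[F] F :=
  LinearMap.mk₂ F (fun c d => (comb c * comb d).trace)
    (fun c c' d => by rw [comb_add, add_mul, Matrix.trace_add])
    (fun t c d => by rw [comb_smul, Matrix.smul_mul, Matrix.trace_smul])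
    (fun c d d' => by rw [comb_add, mul_add, Matrix.trace_add])
    (fun t c d => by rw [comb_smul, Matrix.mul_smul, Matrix.trace_smul])

theorem Bf_apply (c d : chevE6.Idx → F) : Bf F c d = (comb c * comb d).trace := rfl

theorem Bf_nondeg (h2 : (2 : F) ≠ 0) (h3 : (3 : F) ≠ 0) (c : chevE6.Idx → F) (h : ∀ d, Bf F c d = 0) : c = 0 :=
  eq_zero_of_trace h2 h3 h

theorem Bf_L (g : ↥(Zgrp F)) (c d : chevE6.Idx → F) : Bf F (L F g c) (L F g d) = Bf F c d := by
  have h : ∀ c, ((g : GL I27 F) : Matrix I27 I27 F) * comb c = comb (L F g c) * ((g : GL I27 F) : Matrix I27 I27 F) :=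
    fun c => comb_mul_of (ad_P g) c
  have h1 : ((g : GL I27 F) : Matrix I27 I27 F) * (((g : GL I27 F)⁻¹ : GL I27 F) : Matrix I27 I27 F) = 1 := by
    rw [← Units.val_mul, mul_inv_cancel, Units.val_one]
  have h2 : ∀ c, comb (L F g c) = ((g : GL I27 F) : Matrix I27 I27 F) * comb c *
      (((g : GL I27 F)⁻¹ : GL I27 F) : Matrix I27 I27 F) := fun c => by
    rw [h, mul_assoc, h1, mul_one]
  have h3 : (((g : GL I27 F)⁻¹ : GL I27 F) : Matrix I27 I27 F) * ((g : GL I27 F) : Matrix I27 I27 F) = 1 := by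
    rw [← Units.val_mul, inv_mul_cancel, Units.val_one]
  rw [Bf_apply, Bf_apply, h2, h2]
  rw [show ((g : GL I27 F) : Matrix I27 I27 F) * comb c * (((g : GL I27 F)⁻¹ : GL I27 F) : Matrix I27 I27 F) *
    (((g : GL I27 F) : Matrix I27 I27 F) * comb d * (((g : GL I27 F)⁻¹ : GL I27 F) : Matrix I27 I27 F)) =
    ((g : GL I27 F) : Matrix I27 I27 F) * (comb c * ((((g : GL I27 F)⁻¹ : GL I27 F) : Matrix I27 I27 F) *
      ((g : GL I27 F) : Matrix I27 I27 F)) * comb d * (((g : GL I27 F)⁻¹ : GL I27 F) : Matrix I27 I27 F)) by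
      simp only [mul_assoc]]
  rw [Matrix.trace_mul_comm, h3, mul_one, mul_assoc, h3, mul_one]

theorem Bf_LK (g : ↥(chevE6.group F)) (c d : chevE6.Idx → F) : Bf F (LK F g c) (LK F g d) = Bf F c d := by
  obtain ⟨x, rfl⟩ := ad_surjective g
  exact Bf_L x c d

end Form

/-! ### lifts of elements -/

section Lift

variable {F : Type u} [Field F] [Finite F] {A : Type*} [Group A]

theorem lift_pow (φ : A →* ↥(chevE6.group F)) {a : A} {k m s : ℕ} (hk : a ^ k = 1) (hm : 3 * m = 1 + k * s) :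
    ∃ x : ↥(Zgrp F), ad F x = φ a ∧ x ^ k = 1 ∧
      ∀ (b : A) (j : ℕ), b * a * b⁻¹ = a ^ j → ∃ y, y * x * y⁻¹ = x ^ j := by
  obtain ⟨x0, h0⟩ := ad_surjective (φ a)
  have hx0 : (x0 ^ k) ^ 3 = 1 := Cov.ker_pow (by rw [map_pow, h0, ← map_pow, hk, map_one])
  have had : ad F (x0 ^ (3 * m)) = φ a := by
    rw [map_pow, h0, ← map_pow, hm, pow_add, pow_one, pow_mul, hk, one_pow, mul_one]
  have hxk : (x0 ^ (3 * m)) ^ k = 1 := by
    rw [← pow_mul, show 3 * m * k = k * 3 * m by ring, pow_mul, pow_mul, hx0, one_pow]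
  refine ⟨x0 ^ (3 * m), had, hxk, ?_⟩
  set x := x0 ^ (3 * m)
  intro b j hb
  obtain ⟨y, hy⟩ := ad_surjective (φ b)
  refine ⟨y, ?_⟩
  set w := (x ^ j)⁻¹ * (y * x * y⁻¹) with hw
  have hadw : ad F w = 1 := by
    rw [hw, map_mul, map_mul, map_mul, map_inv, map_inv, map_pow, had, hy, ← map_inv, ← map_mul, ← map_mul, hb,
      ← map_pow, ← map_inv, ← map_mul, inv_mul_cancel, map_one]
  have hw3 : w ^ 3 = 1 := Cov.ker_pow hadw
  have hcomm : Commute (x ^ j) w := Cov.ker_comm hadw _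
  have e1 : y * x * y⁻¹ = x ^ j * w := by rw [hw, mul_inv_cancel_left]
  have hwk : w ^ k = 1 := by
    have h1 : (y * x * y⁻¹) ^ k = 1 := by rw [conj_pow, hxk, mul_one, mul_inv_cancel]
    rw [e1, hcomm.mul_pow, ← pow_mul, mul_comm j, pow_mul, hxk, one_pow, one_mul] at h1
    exact h1
  have hw1 : w = 1 := by
    have h1 : w ^ (3 * m) = 1 := by rw [pow_mul, hw3, one_pow]
    rwa [hm, pow_add, pow_one, pow_mul, hwk, one_pow, mul_one] at h1
  rw [e1, hw1, mul_one]

end Lift

end Cfsg.Agent.H251.E6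
end

-- part: H251/E6/LInv
section
/-!
# Invariants of a cover of `A₇` on the adjoint module (helper251, S5927)
-/

set_option autoImplicit false

namespace Cfsg.Agent.H251.E6

open Cfsg Cfsg.Lie Module Equiv
open Cfsg.Agent.ChevalleyStructure.E6Min.Tables Cfsg.Agent.ChevalleyStructure.E6Min.Basic
  Cfsg.Agent.ChevalleyStructure.E6Min.Adjoint
open Cfsg.Agent.H952.F4 (ev sh cr tf GenT)
open Cfsg.Agent.H163.E6
open Cfsg.Agent.H952.F4.Kill (zz cc g1 r3 y7 z7)
open scoped Matrix

universe u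

/-! ### conjugation -/

section Conj

variable {K V G : Type*} [Field K] [AddCommGroup V] [Module K V] [Group G]

theorem ev_conj (ρ : Representation K G V) (k g : G) (μ : K) : ev (ρ (k * g * k⁻¹)) μ = ev (ρ g) μ := by
  have hi : ∀ v, ρ k⁻¹ (ρ k v) = v := fun v => by
    rw [← Module.End.mul_apply, ← map_mul, inv_mul_cancel, map_one, Module.End.one_apply]
  have hi' : ∀ v, ρ k (ρ k⁻¹ v) = v := fun v => by
    rw [← Module.End.mul_apply, ← map_mul, mul_inv_cancel, map_one, Module.End.one_apply]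
  let e : V ≃ₗ[K] V := LinearEquiv.ofLinearMap (ρ k) (ρ k⁻¹) (LinearMap.ext hi') (LinearMap.ext hi)
  have h : Module.End.eigenspace (ρ (k * g * k⁻¹)) μ = (Module.End.eigenspace (ρ g) μ).map (e : V →ₗ[K] V) := by
    ext v
    rw [Submodule.mem_map, Module.End.mem_eigenspace_iff]
    constructor
    · intro hv
      refine ⟨ρ k⁻¹ v, ?_, hi' v⟩
      rw [Module.End.mem_eigenspace_iff, ← map_smul, ← hv, map_mul, map_mul, Module.End.mul_apply, Module.End.mul_apply,
        hi]
    · rintro ⟨w, hw, rfl⟩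
      rw [Module.End.mem_eigenspace_iff] at hw
      show ρ (k * g * k⁻¹) (ρ k w) = μ • ρ k w
      rw [map_mul, map_mul, Module.End.mul_apply, Module.End.mul_apply, hi, hw, map_smul]
  unfold ev
  rw [h]
  exact (e.submoduleMap _).finrank_eq.symm

theorem tr_conj (ρ : Representation K G V) (k g : G) :
    LinearMap.trace K V (ρ (k * g * k⁻¹)) = LinearMap.trace K V (ρ g) := by
  rw [map_mul, LinearMap.trace_mul_comm, ← map_mul, ← mul_assoc, inv_mul_cancel, one_mul]

end Conj

section Facts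

variable {F : Type u} [Field F] [Finite F] {n : ℕ} {φ : ↥(alternatingGroup (Fin n)) →* ↥(chevE6.group F)}

/-- the adjoint module of the alternating group -/
noncomputable abbrev rho (φ : ↥(alternatingGroup (Fin n)) →* ↥(chevE6.group F)) :
    Representation F ↥(alternatingGroup (Fin n)) (chevE6.Idx → F) := MonoidHom.comp (LK F) φ

omit [Finite F] in
theorem rho_eq {x : ↥(Zgrp F)} {a : ↥(alternatingGroup (Fin n))} (hx : ad F x = φ a) : rho φ a = L F x := by
  rw [L_eq, hx]
  rfl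

theorem three_facts (p : ℕ) [Fact p.Prime] [CharP F p] (hp : 5 ≤ p) (hn : n = 6 ∨ n = 7) (hφ : Function.Injective φ)
    {ω : Fˣ} (hc : Cover φ ω) {a : ↥(alternatingGroup (Fin n))} (ha : orderOf a = 3) :
    ev (rho φ a) 1 = 30 ∧ LinearMap.trace F _ (rho φ a) = 6 := by
  obtain ⟨x, hx⟩ := ad_surjective (φ a)
  obtain ⟨h1, h2, h3⟩ := Cov.type_thirty hn hφ hc ha hx
  have hne : ad F x ≠ 1 := by
    rw [hx]
    intro h
    rw [hφ (h.trans (map_one φ).symm), orderOf_one] at ha
    omega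
  rw [rho_eq hx]
  refine ⟨h3, ?_⟩
  rcases (Tor.tab p).three (by omega) x hne h1 with h | h | h | h
  · omega
  · exact h.2.2.2
  · omega
  · omega

theorem two_facts (p : ℕ) [Fact p.Prime] [CharP F p] (hp : 5 ≤ p) (hφ : Function.Injective φ)
    {a : ↥(alternatingGroup (Fin n))} (ha : a * a = 1) (ha1 : a ≠ 1) :
    (ev (rho φ a) 1 = 38 ∧ LinearMap.trace F _ (rho φ a) = -2) ∨ ev (rho φ a) 1 = 46 := by
  obtain ⟨x, hx, h1, -⟩ := lift_pow φ (a := a) (k := 2) (m := 1) (s := 1) (by rw [pow_two, ha]) (by norm_num)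
  have hne : x ≠ 1 := by
    rintro rfl
    rw [map_one] at hx
    exact ha1 (hφ (hx.symm.trans (map_one φ).symm))
  rw [rho_eq hx]
  rw [pow_two] at h1
  rcases (Tor.tab p).two (by omega) x hne h1 with h | h
  · exact Or.inl ⟨h.2.1, h.2.2.2⟩
  · exact Or.inr h.2.1

theorem four_facts (p : ℕ) [Fact p.Prime] [CharP F p] (hp : 5 ≤ p) (hφ : Function.Injective φ)
    {a b : ↥(alternatingGroup (Fin n))} (ha : a ^ 4 = 1) (ha1 : a * a ≠ 1) (hb : b * a * b⁻¹ = a ^ 3) :
    (ev (rho φ (a * a)) 1 = 38 ∧ (ev (rho φ a) 1 = 36 ∨ (ev (rho φ a) 1 = 20 ∧ LinearMap.trace F _ (rho φ a) = 2))) ∨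
      (ev (rho φ (a * a)) 1 = 46 ∧ 22 ≤ ev (rho φ a) 1) := by
  obtain ⟨x, hx, h1, hr⟩ := lift_pow φ (a := a) (k := 4) (m := 3) (s := 2) ha (by norm_num)
  obtain ⟨y, hy⟩ := hr b 3 hb
  have hxx : ad F (x * x) = φ (a * a) := by rw [map_mul, map_mul, hx]
  have hne : x * x ≠ 1 := by
    intro h
    rw [h, map_one] at hxx
    exact ha1 (hφ (hxx.symm.trans (map_one φ).symm))
  have hy' : ∃ g, g * x * g⁻¹ = x⁻¹ := ⟨y, by
    rw [hy]
    exact eq_inv_of_mul_eq_one_left (by rw [← pow_succ, h1])⟩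
  rw [rho_eq hx, rho_eq hxx]
  have h2 := (Tor.tab p).two (by omega) (x * x) hne (by
    have e : x * x * (x * x) = x ^ 4 := by simp only [pow_succ, pow_zero, one_mul, mul_assoc]
    rw [e, h1])
  rcases (Tor.tab p).four_real (by omega) x hne h1 hy' with h | h | h | h | h
  · rcases h2 with h2 | h2
    · exact Or.inl ⟨h2.2.1, Or.inl h.2.2.1⟩
    · omega
  · rcases h2 with h2 | h2
    · omega
    · exact Or.inr ⟨h2.2.1, by omega⟩
  · rcases h2 with h2 | h2
    · exact Or.inl ⟨h2.2.1, Or.inr ⟨h.2.2.1, h.2.2.2.2⟩⟩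
    · omega
  · rcases h2 with h2 | h2
    · exact Or.inl ⟨h2.2.1, Or.inr ⟨h.2.2.1, h.2.2.2.2⟩⟩
    · omega
  · rcases h2 with h2 | h2
    · omega
    · exact Or.inr ⟨h2.2.1, by omega⟩

theorem five_facts (p : ℕ) [Fact p.Prime] [CharP F p] (hp : p ≠ 5) (hφ : Function.Injective φ)
    {a b : ↥(alternatingGroup (Fin n))} (ha : a ^ 5 = 1) (ha1 : a ≠ 1) (hb : b * a * b⁻¹ = a ^ 2) :
    ev (rho φ a) 1 = 18 ∧ LinearMap.trace F _ (rho φ a) = 3 := by
  obtain ⟨x, hx, h1, hr⟩ := lift_pow φ (a := a) (k := 5) (m := 2) (s := 1) ha (by norm_num)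
  obtain ⟨y, hy⟩ := hr b 2 hb
  have hne : x ≠ 1 := by
    rintro rfl
    rw [map_one] at hx
    exact ha1 (hφ (hx.symm.trans (map_one φ).symm))
  rw [rho_eq hx]
  have h := (Tor.tab p).five_rat hp x hne h1 ⟨y, hy⟩
  exact ⟨h.2.1, h.2.2.2⟩

theorem seven_facts (p : ℕ) [Fact p.Prime] [CharP F p] (hφ : Function.Injective φ)
    {a b : ↥(alternatingGroup (Fin n))} (ha : a ^ 7 = 1) (ha1 : a ≠ 1) (hb : b * a * b⁻¹ = a ^ 2) :
    12 ≤ ev (rho φ a) 1 := by
  by_cases hp : p = 7
  · subst hp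
    have h1 : (rho φ a) ^ 7 = 1 := by rw [← map_pow, ha, map_one]
    have h2 := H952.F4.Eig.le_mul_ev 7 h1
    rw [finrank_L] at h2
    omega
  obtain ⟨x, hx, h1, hr⟩ := lift_pow φ (a := a) (k := 7) (m := 5) (s := 2) ha (by norm_num)
  obtain ⟨y, hy⟩ := hr b 2 hb
  have hne : x ≠ 1 := by
    rintro rfl
    rw [map_one] at hx
    exact ha1 (hφ (hx.symm.trans (map_one φ).symm))
  rw [rho_eq hx]
  rcases (Tor.tab p).seven_rat hp x hne h1 ⟨y, hy⟩ with h | h | h <;> omega

/-- Scott's lemma on the adjoint module -/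
theorem scott_L (h2 : (2 : F) ≠ 0) (h3 : (3 : F) ≠ 0) {x y : ↥(alternatingGroup (Fin n))}
    (hgen : Subgroup.closure {x, y} = ⊤) : ev (rho φ x) 1 + ev (rho φ y) 1 + ev (rho φ (x * y)) 1 ≤
      78 + 2 * finrank F (rho φ).invariants := by
  have h := H952.F4.Scott.scott_form (rho φ) hgen (Bf F) (Bf_nondeg h2 h3) (fun g v w => Bf_LK (φ g) v w)
  rwa [finrank_L] at h

end Facts

end Cfsg.Agent.H251.E6
end

-- part: H251/E6/LInv2
section
/-!
# Invariants of a cover of `A₇` on the adjoint module, characteristic at least 7 (helper251, S5927)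
-/

set_option autoImplicit false

namespace Cfsg.Agent.H251.E6

open Cfsg Cfsg.Lie Module Equiv
open Cfsg.Agent.ChevalleyStructure.E6Min.Tables Cfsg.Agent.ChevalleyStructure.E6Min.Basic
  Cfsg.Agent.ChevalleyStructure.E6Min.Adjoint
open Cfsg.Agent.H952.F4 (ev sh cr tf GenT)
open Cfsg.Agent.H163.E6
open Cfsg.Agent.H952.F4.Kill (zz cc g1 r3 y7 z7)
open scoped Matrix

universe u

/-! ### elements of `A₇` -/

abbrev A7 : Type := ↥(alternatingGroup (Fin 7))

/-- an element inverting `cc` -/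
def kc : A7 :=
  ⟨⟨![0, 1, 3, 2, 4, 6, 5], ![0, 1, 3, 2, 4, 6, 5], by decide, by decide⟩, by
    rw [Equiv.Perm.mem_alternatingGroup]; decide⟩

/-- an involution inverting `zz` -/
def s5 : A7 :=
  ⟨⟨![0, 4, 3, 2, 1, 5, 6], ![0, 4, 3, 2, 1, 5, 6], by decide, by decide⟩, by
    rw [Equiv.Perm.mem_alternatingGroup]; decide⟩

theorem kc_cc : kc * cc * kc⁻¹ = cc ^ 3 := by decide +kernel
theorem cc_sq : ((cc * cc : A7) : Perm (Fin 7)).cycleType = {2, 2} := by decide +kernel
theorem cc_type : (cc : Perm (Fin 7)).cycleType = {4, 2} := by decide +kernel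
theorem zz_type : (zz : Perm (Fin 7)).cycleType = {5} := by decide +kernel
theorem z7_type : (z7 : Perm (Fin 7)).cycleType = {7} := by decide +kernel
theorem y7_type : (y7 : Perm (Fin 7)).cycleType = {3, 3} := by decide +kernel
theorem g1_type : (g1 : Perm (Fin 7)).cycleType = {2, 2} := by decide +kernel
theorem g1_sq : g1 * g1 = 1 := by decide +kernel
theorem g1_ne : g1 ≠ 1 := by decide +kernel
theorem zz_ne : zz ≠ 1 := by decide +kernel
theorem cc_sq_ne : cc * cc ≠ 1 := by decide +kernel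
theorem s5_sq : s5 * s5 = 1 := by decide +kernel
theorem s5_type : (s5 : Perm (Fin 7)).cycleType = {2, 2} := by decide +kernel
theorem s5z_type : ((s5 * zz : A7) : Perm (Fin 7)).cycleType = {2, 2} := by decide +kernel
theorem s5z_sq : (s5 * zz) * (s5 * zz) = 1 := by decide +kernel

open Cfsg.Agent.H952.F4 in
theorem conj_g1 (g : A7) (h : (g : Perm (Fin 7)).cycleType = {2, 2}) : ∃ k, k * g1 * k⁻¹ = g :=
  H952.F4.SixFive.conj_of g1 g (swap (0 : Fin 7) 1) (by decide) (by decide +kernel) (by rw [h, g1_type])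

theorem conj_cc (g : A7) (h : (g : Perm (Fin 7)).cycleType = {4, 2}) : ∃ k, k * cc * k⁻¹ = g :=
  H952.F4.SixFive.conj_of cc g (swap (5 : Fin 7) 6) (by decide) (by decide +kernel) (by rw [h, cc_type])

theorem conj_zz (g : A7) (h : (g : Perm (Fin 7)).cycleType = {5}) : ∃ k, k * zz * k⁻¹ = g :=
  H952.F4.SixFive.conj_of zz g (swap (5 : Fin 7) 6) (by decide) (by decide +kernel) (by rw [h, zz_type])

theorem order_three {n : ℕ} {a : ↥(alternatingGroup (Fin n))} (h : (a : Perm (Fin n)).cycleType = {3} ∨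
    (a : Perm (Fin n)).cycleType = {3, 3}) : orderOf a = 3 := by
  have h1 : orderOf (a : Perm (Fin n)) = 3 := by
    rw [← Perm.lcm_cycleType]
    rcases h with h | h <;> rw [h] <;> decide
  rwa [Subgroup.orderOf_coe] at h1

/-! ### the elements of order 7 -/

theorem seven_le {F : Type u} [Field F] [Finite F] {φ : A7 →* ↥(chevE6.group F)} (p : ℕ) [Fact p.Prime] [CharP F p]
    (hφ : Function.Injective φ) {a : A7} (ha : (a : Perm (Fin 7)).cycleType = {7}) : 12 ≤ ev (rho φ a) 1 := by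
  have h7 : (a : A7) ^ 7 = 1 := H952.F4.SixFive.pow_of_ct a ha
  have hne : a ≠ 1 := by
    rintro rfl
    rw [Subgroup.coe_one, Perm.cycleType_one] at ha
    exact absurd ha (by decide)
  -- `a` is conjugate in `S₇` to `z7`
  obtain ⟨τ, hτ⟩ := isConj_iff.1 (Perm.isConj_iff_cycleType_eq.2 (z7_type.trans ha.symm))
  have hb : τ * (y7 : Perm (Fin 7)) * τ⁻¹ ∈ alternatingGroup (Fin 7) := by
    rw [Perm.mem_alternatingGroup, Perm.sign_mul, Perm.sign_mul, Perm.sign_inv]
    have h1 := Perm.mem_alternatingGroup.1 y7.2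
    rw [h1, mul_one, Int.units_mul_self]
  refine seven_facts p hφ (b := ⟨τ * (y7 : Perm (Fin 7)) * τ⁻¹, hb⟩) h7 hne (Subtype.ext ?_)
  show τ * (y7 : Perm (Fin 7)) * τ⁻¹ * (a : Perm (Fin 7)) * (τ * (y7 : Perm (Fin 7)) * τ⁻¹)⁻¹ = (a : Perm (Fin 7)) ^ 2
  rw [← hτ, conj_pow]
  have h1 : (y7 : Perm (Fin 7)) * (z7 : Perm (Fin 7)) * (y7 : Perm (Fin 7))⁻¹ = (z7 : Perm (Fin 7)) ^ 2 :=
    congrArg Subtype.val H952.F4.Kill.y7_z7
  rw [← h1]
  group

/-! ### Scott's lemma, first part -/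

section Main

variable {F : Type u} [Field F] [Finite F] {φ : A7 →* ↥(chevE6.group F)}

/-- the classes in the remaining case -/
structure Cls (φ : A7 →* ↥(chevE6.group F)) : Prop where
  two : ∀ g : A7, (g : Perm (Fin 7)).cycleType = {2, 2} →
    ev (rho φ g) 1 = 38 ∧ LinearMap.trace F _ (rho φ g) = -2
  three : ∀ g : A7, (g : Perm (Fin 7)).cycleType = {3} ∨ (g : Perm (Fin 7)).cycleType = {3, 3} →
    ev (rho φ g) 1 = 30 ∧ LinearMap.trace F _ (rho φ g) = 6
  four : ∀ g : A7, (g : Perm (Fin 7)).cycleType = {4, 2} →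
    ev (rho φ g) 1 = 20 ∧ LinearMap.trace F _ (rho φ g) = 2

theorem cls_or (p : ℕ) [Fact p.Prime] [CharP F p] (hp : 5 ≤ p) (hφ : Function.Injective φ) {ω : Fˣ}
    (hc : Cover φ ω) : (rho φ).invariants ≠ ⊥ ∨ Cls φ := by
  have hpp : p.Prime := Fact.out
  have h2 : (2 : F) ≠ 0 := by
    intro h
    have := (CharP.cast_eq_zero_iff F p 2).1 (by exact_mod_cast h)
    exact absurd (Nat.le_of_dvd (by norm_num) this) (by omega)
  have h3 : (3 : F) ≠ 0 := by
    intro h
    have := (CharP.cast_eq_zero_iff F p 3).1 (by exact_mod_cast h)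
    exact absurd (Nat.le_of_dvd (by norm_num) this) (by omega)
  have hpos : 0 < finrank F (rho φ).invariants → (rho φ).invariants ≠ ⊥ := fun h h0 => by
    rw [h0, finrank_bot] at h
    exact lt_irrefl _ h
  have t3 : ∀ g : A7, (g : Perm (Fin 7)).cycleType = {3} ∨ (g : Perm (Fin 7)).cycleType = {3, 3} →
      ev (rho φ g) 1 = 30 ∧ LinearMap.trace F _ (rho φ g) = 6 := fun g hg =>
    three_facts p hp (Or.inr rfl) hφ hc (order_three hg)
  have e2 : ∀ g : A7, (g : Perm (Fin 7)).cycleType = {2, 2} → ev (rho φ g) 1 = ev (rho φ g1) 1 := fun g hg => by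
    obtain ⟨k, rfl⟩ := conj_g1 g hg
    exact ev_conj _ _ _ _
  have e4 : ∀ g : A7, (g : Perm (Fin 7)).cycleType = {4, 2} → ev (rho φ g) 1 = ev (rho φ cc) 1 := fun g hg => by
    obtain ⟨k, rfl⟩ := conj_cc g hg
    exact ev_conj _ _ _ _
  have f4 := four_facts p hp hφ H952.F4.Kill.cc_pow cc_sq_ne kc_cc
  rw [e2 _ cc_sq] at f4
  rcases f4 with ⟨f2, f4⟩ | ⟨f2, f4⟩
  · rcases f4 with f4 | f4
    · left
      obtain ⟨x, y, hgen, hx, hy, hxy⟩ := gen434
      have h := scott_L (φ := φ) h2 h3 hgen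
      rw [e4 x hx, e4 _ hxy, (t3 y (Or.inr hy)).1, f4] at h
      exact hpos (by omega)
    · right
      refine ⟨fun g hg => ?_, t3, fun g hg => ?_⟩
      · rcases two_facts p hp hφ g1_sq g1_ne with h | h
        · obtain ⟨k, rfl⟩ := conj_g1 g hg
          rw [ev_conj, tr_conj]
          exact h
        · omega
      · obtain ⟨k, rfl⟩ := conj_cc g hg
        rw [ev_conj, tr_conj]
        exact f4
  · left
    obtain ⟨x, y, hgen, hx, hy, hxy⟩ := gen247
    have h := scott_L (φ := φ) h2 h3 hgen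
    rw [e2 x hx, e4 y hy, f2] at h
    have h7 := seven_le p hφ hxy
    exact hpos (by omega)

end Main

end Cfsg.Agent.H251.E6
end

-- part: H251/E6/LInv3
section
/-!
# Invariants of a cover of `A₇` on the adjoint module, characteristic at least 7 (helper251, S5927)
-/

set_option autoImplicit false

namespace Cfsg.Agent.H251.E6

open Cfsg Cfsg.Lie Module Equiv
open Cfsg.Agent.ChevalleyStructure.E6Min.Tables Cfsg.Agent.ChevalleyStructure.E6Min.Basic
  Cfsg.Agent.ChevalleyStructure.E6Min.Adjoint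
open Cfsg.Agent.H952.F4 (ev sh cr tf GenT)
open Cfsg.Agent.H163.E6
open Cfsg.Agent.H952.F4.Kill (zz cc g1 r3 y7 z7)
open scoped Matrix

universe u

abbrev A6 : Type := ↥(alternatingGroup (Fin 6))
abbrev A5 : Type := ↥(alternatingGroup (Fin 5))

/-- the other embedding of `A₆` -/
def up' : A6 →* A7 where
  toFun g := ⟨swap (5 : Fin 7) 6 * (up g : Perm (Fin 7)) * (swap (5 : Fin 7) 6)⁻¹, by
    rw [Perm.mem_alternatingGroup, Perm.sign_mul, Perm.sign_mul, Perm.sign_inv,
      Perm.mem_alternatingGroup.1 (up g).2, mul_one, Int.units_mul_self]⟩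
  map_one' := Subtype.ext (by rw [map_one]; simp only [_root_.Nat.reduceAdd, _root_.Fin.isValue, _root_.OneMemClass.coe_one, _root_.mul_one, _root_.Equiv.swap_inv, _root_.Equiv.swap_mul_self])
  map_mul' g h := Subtype.ext (by
    show swap (5 : Fin 7) 6 * (up (g * h) : Perm (Fin 7)) * (swap (5 : Fin 7) 6)⁻¹ =
      swap (5 : Fin 7) 6 * (up g : Perm (Fin 7)) * (swap (5 : Fin 7) 6)⁻¹ * (swap (5 : Fin 7) 6 * (up h : Perm (Fin 7)) * (swap (5 : Fin 7) 6)⁻¹)
    rw [map_mul, Subgroup.coe_mul]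
    group)

theorem coe_up' (g : A6) : (up' g : Perm (Fin 7)) = swap (5 : Fin 7) 6 * (up g : Perm (Fin 7)) * (swap (5 : Fin 7) 6)⁻¹ := rfl

theorem type_up' (g : A6) : (up' g : Perm (Fin 7)).cycleType = (g : Perm (Fin 6)).cycleType := by
  rw [coe_up', Perm.cycleType_conj, type_up]

theorem up'_up (g : A5) : up' (up g) = up (up g) := by
  apply Subtype.ext
  rw [coe_up', mul_inv_eq_iff_eq_mul]
  have h6 : (up (up g) : Perm (Fin 7)) 6 = 6 := up_last (up g)
  have h5 : (up (up g) : Perm (Fin 7)) 5 = 5 := by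
    have h1 := upP_apply ((up g : A6) : Perm (Fin 6)) 5
    have h2 : (up g : Perm (Fin 6)) 5 = 5 := up_last g
    rw [h2] at h1
    exact h1
  rw [Equiv.mul_swap_eq_swap_mul, h5, h6]

/-! ### dimensions -/

section Main

variable {F : Type u} [Field F] [Finite F] {φ : A7 →* ↥(chevE6.group F)}

theorem cast_ne (p : ℕ) [Fact p.Prime] [CharP F p] (n : ℕ) (hn : 0 < n) (h : ∀ q, q.Prime → q ∣ n → q < p) :
    ((n : ℕ) : F) ≠ 0 := by
  intro h0
  have h1 := (CharP.cast_eq_zero_iff F p n).1 h0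
  exact absurd (h p Fact.out h1) (lt_irrefl _)

theorem five_all (p : ℕ) [Fact p.Prime] [CharP F p] (hp : 7 ≤ p) (hφ : Function.Injective φ) (g : A7)
    (hg : (g : Perm (Fin 7)).cycleType = {5}) :
    ev (rho φ g) 1 = 18 ∧ LinearMap.trace F _ (rho φ g) = 3 := by
  obtain ⟨k, rfl⟩ := conj_zz g hg
  rw [ev_conj, tr_conj]
  exact five_facts p (by omega) hφ H952.F4.Kill.zz_pow zz_ne H952.F4.Kill.cc_zz

theorem tr_one' : LinearMap.trace F (chevE6.Idx → F) 1 = 78 := by
  rw [LinearMap.trace_one, finrank_L]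
  norm_num

theorem six_dim (p : ℕ) [Fact p.Prime] [CharP F p] (hp : 7 ≤ p) (hφ : Function.Injective φ) (hC : Cls φ)
    (ι : A6 →* A7) (hι : ∀ g, (ι g : Perm (Fin 7)).cycleType = (g : Perm (Fin 6)).cycleType) :
    3 ≤ finrank F (rho (φ.comp ι)).invariants := by
  have hsmall : ∀ n : ℕ, (∀ q, q.Prime → q ∣ n → q ≤ 5) → 0 < n → ((n : ℕ) : F) ≠ 0 := fun n h hn =>
    cast_ne p n hn fun q hq hqn => lt_of_le_of_lt (h q hq hqn) (by omega)
  have h2 : (2 : F) ≠ 0 := by
    have := hsmall 2 (fun q _ hq => (Nat.le_of_dvd (by norm_num) hq).trans (by norm_num)) (by norm_num)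
    exact_mod_cast this
  have h3 : (3 : F) ≠ 0 := by
    have := hsmall 3 (fun q _ hq => (Nat.le_of_dvd (by norm_num) hq).trans (by norm_num)) (by norm_num)
    exact_mod_cast this
  have h5 : (5 : F) ≠ 0 := by
    have := hsmall 5 (fun q _ hq => (Nat.le_of_dvd (by norm_num) hq).trans (by norm_num)) (by norm_num)
    exact_mod_cast this
  have h360 : ((360 : ℕ) : F) ≠ 0 := by
    have : (2 : F) * 2 * 2 * 3 * 3 * 5 ≠ 0 := by
      simp only [mul_ne_zero_iff]
      exact ⟨⟨⟨⟨⟨h2, h2⟩, h2⟩, h3⟩, h3⟩, h5⟩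
    norm_num at this
    exact_mod_cast this
  have hr : ∀ g, rho (φ.comp ι) g = rho φ (ι g) := fun g => rfl
  obtain ⟨x, y, hgen, hx, hy, hxy⟩ := gen6c
  have hs := scott_L (φ := φ.comp ι) h2 h3 hgen
  rw [hr, hr, hr, (hC.three _ (Or.inl ((hι x).trans hx))).1, (hC.three _ (Or.inr ((hι y).trans hy))).1,
    (hC.four _ ((hι (x * y)).trans hxy)).1] at hs
  have hcard : Fintype.card A6 = 360 := card_alt 6 360 (by norm_num) (by decide +kernel)
  have ha := avg (rho (φ.comp ι)) (by rw [hcard]; exact h360)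
  rw [sum_six 78 6 (-2) 3 2 6 (fun g => LinearMap.trace F _ (rho (φ.comp ι) g))
    (by rw [map_one]; exact tr_one')
    (fun g hg => (hC.three _ (Or.inl ((hι g).trans hg))).2)
    (fun g hg => (hC.two _ ((hι g).trans hg)).2)
    (fun g hg => (five_all p hp hφ _ ((hι g).trans hg)).2)
    (fun g hg => (hC.four _ ((hι g).trans hg)).2)
    (fun g hg => (hC.three _ (Or.inr ((hι g).trans hg))).2), hcard] at ha
  have hd : ((finrank F (rho (φ.comp ι)).invariants : ℕ) : F) = ((3 : ℕ) : F) := by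
    apply mul_left_cancel₀ h360
    rw [← ha]
    push_cast
    norm_num
  rw [CharP.natCast_eq_natCast F p] at hd
  by_contra hlt
  push Not at hlt
  have h1 : finrank F (rho (φ.comp ι)).invariants = 3 := by
    rw [Nat.ModEq, Nat.mod_eq_of_lt (by omega), Nat.mod_eq_of_lt (by omega)] at hd
    exact hd
  omega

def s5a : A5 :=
  ⟨⟨![0, 4, 3, 2, 1], ![0, 4, 3, 2, 1], by decide, by decide⟩, by
    rw [Equiv.Perm.mem_alternatingGroup]; decide⟩

def z5a : A5 :=
  ⟨⟨![1, 2, 3, 4, 0], ![4, 0, 1, 2, 3], by decide, by decide⟩, by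
    rw [Equiv.Perm.mem_alternatingGroup]; decide⟩

theorem up_s5a : up (up s5a) = s5 := by decide +kernel
theorem up_z5a : up (up z5a) = zz := by decide +kernel

theorem five_dim (p : ℕ) [Fact p.Prime] [CharP F p] (hp : 7 ≤ p) (hφ : Function.Injective φ) (hC : Cls φ) :
    finrank F (rho (φ.comp (up.comp up))).invariants = 4 := by
  have hsmall : ∀ n : ℕ, (∀ q, q.Prime → q ∣ n → q ≤ 5) → 0 < n → ((n : ℕ) : F) ≠ 0 := fun n h hn =>
    cast_ne p n hn fun q hq hqn => lt_of_le_of_lt (h q hq hqn) (by omega)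
  have h2 : (2 : F) ≠ 0 := by
    have := hsmall 2 (fun q _ hq => (Nat.le_of_dvd (by norm_num) hq).trans (by norm_num)) (by norm_num)
    exact_mod_cast this
  have h3 : (3 : F) ≠ 0 := by
    have := hsmall 3 (fun q _ hq => (Nat.le_of_dvd (by norm_num) hq).trans (by norm_num)) (by norm_num)
    exact_mod_cast this
  have h5 : (5 : F) ≠ 0 := by
    have := hsmall 5 (fun q _ hq => (Nat.le_of_dvd (by norm_num) hq).trans (by norm_num)) (by norm_num)
    exact_mod_cast this
  have h60 : ((60 : ℕ) : F) ≠ 0 := by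
    have : (2 : F) * 2 * 3 * 5 ≠ 0 := by
      simp only [mul_ne_zero_iff]
      exact ⟨⟨⟨h2, h2⟩, h3⟩, h5⟩
    norm_num at this
    exact_mod_cast this
  set j : A5 →* A7 := up.comp up with hj
  have hι : ∀ g, (j g : Perm (Fin 7)).cycleType = (g : Perm (Fin 5)).cycleType := fun g => by
    rw [hj]
    show ((up (up g) : A7) : Perm (Fin 7)).cycleType = _
    rw [type_up, type_up]
  have hr : ∀ g, rho (φ.comp j) g = rho φ (j g) := fun g => rfl
  have hcard : Fintype.card A5 = 60 := card_alt 5 60 (by norm_num) (by decide +kernel)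
  have ha := avg (rho (φ.comp j)) (by rw [hcard]; exact h60)
  rw [sum_five 78 6 (-2) 3 (fun g => LinearMap.trace F _ (rho (φ.comp j) g))
    (by rw [map_one]; exact tr_one')
    (fun g hg => (hC.three _ (Or.inl ((hι g).trans hg))).2)
    (fun g hg => (hC.two _ ((hι g).trans hg)).2)
    (fun g hg => (five_all p hp hφ _ ((hι g).trans hg)).2), hcard] at ha
  have hd : ((finrank F (rho (φ.comp j)).invariants : ℕ) : F) = ((4 : ℕ) : F) := by
    apply mul_left_cancel₀ h60
    rw [← ha]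
    push_cast
    norm_num
  rw [CharP.natCast_eq_natCast F p] at hd
  -- the upper bound
  let u : A7 →* (Module.End F (chevE6.Idx → F))ˣ := (rho φ).toHomUnits
  have hu : ∀ g, ((u g : (Module.End F (chevE6.Idx → F))ˣ) : Module.End F (chevE6.Idx → F)) = rho φ g := fun g => rfl
  have hinv : ∀ g v w, Bf F (rho φ g v) (rho φ g w) = Bf F v w := fun g v w => Bf_LK (φ g) v w
  have hle := dih_le h2 (u s5) (u (s5 * zz)) (Bf F) (Bf_nondeg h2 h3) (fun v w => hinv s5 v w)
    (fun v w => hinv (s5 * zz) v w) (U := (rho (φ.comp j)).invariants) (fun v hv => by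
      rw [Representation.mem_invariants] at hv
      have e1 : rho φ s5 v = v := by
        have := hv s5a
        rw [hr, hj] at this
        rwa [← up_s5a]
      have e2 : rho φ zz v = v := by
        have := hv z5a
        rw [hr, hj] at this
        rwa [← up_z5a]
      refine ⟨e1, ?_⟩
      rw [hu, map_mul, Module.End.mul_apply, e2, e1])
  have hmul : u s5 * u (s5 * zz) = u zz := by
    rw [← map_mul, ← mul_assoc, s5_sq, one_mul]
  have hev : ∀ g : A7, g * g = 1 → (g : Perm (Fin 7)).cycleType = {2, 2} → ev (rho φ g) (-1) = 40 := by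
    intro g hg ht
    have h4 := ev_neg_add (X := rho φ g) h2 (by rw [← map_mul, hg, map_one])
    rw [finrank_L, (hC.two g ht).1] at h4
    omega
  rw [hmul, hu, hu, hu, hev s5 s5_sq s5_type, hev _ s5z_sq s5z_type, finrank_L,
    (five_all p hp hφ zz zz_type).1] at hle
  have hd8 : finrank F (rho (φ.comp j)).invariants ≤ 8 := by omega
  by_contra hne
  have hdvd := hd
  rw [Nat.ModEq] at hd
  by_cases hlt : finrank F (rho (φ.comp j)).invariants < p
  · rw [Nat.mod_eq_of_lt hlt, Nat.mod_eq_of_lt (by omega)] at hd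
    exact hne hd
  · push Not at hlt
    have h7 : (p ∣ finrank F (rho (φ.comp j)).invariants - 4) :=
      (Nat.modEq_iff_dvd' (by omega)).1 hdvd.symm
    have h8 := Nat.le_of_dvd (by omega) h7
    omega

/-- **invariants on the adjoint module** -/
theorem inv_ne_bot_big (p : ℕ) [Fact p.Prime] [CharP F p] (hp : 7 ≤ p) (hφ : Function.Injective φ) {ω : Fˣ}
    (hc : Cover φ ω) : (rho φ).invariants ≠ ⊥ := by
  rcases cls_or p (by omega) hφ hc with h | hC
  · exact h
  have d6 := six_dim p hp hφ hC up type_up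
  have d6' := six_dim p hp hφ hC up' type_up'
  have d5 := five_dim p hp hφ hC
  set U := (rho (φ.comp up)).invariants with hU
  set U' := (rho (φ.comp up')).invariants with hU'
  set W := (rho (φ.comp (up.comp up))).invariants with hW
  have hle : U ⊔ U' ≤ W := by
    refine sup_le (fun v hv => ?_) (fun v hv => ?_)
    · rw [hU, Representation.mem_invariants] at hv
      rw [hW, Representation.mem_invariants]
      intro g
      exact hv (up g)
    · rw [hU', Representation.mem_invariants] at hv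
      rw [hW, Representation.mem_invariants]
      intro g
      have := hv (up g)
      show rho φ (up (up g)) v = v
      rw [← up'_up]
      exact this
  have h1 := Submodule.finrank_mono hle
  have h2 := Submodule.finrank_sup_add_finrank_inf_eq U U'
  have h3 : U ⊓ U' ≠ ⊥ := by
    intro h0
    rw [h0, finrank_bot] at h2
    omega
  obtain ⟨v, hv, hv0⟩ := Submodule.exists_mem_ne_zero_of_ne_bot h3
  obtain ⟨hvU, hvU'⟩ := Submodule.mem_inf.1 hv
  rw [hU, Representation.mem_invariants] at hvU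
  rw [hU', Representation.mem_invariants] at hvU'
  refine (Submodule.ne_bot_iff _).2 ⟨v, ?_, hv0⟩
  rw [Representation.mem_invariants]
  let S : Subgroup A7 :=
    { carrier := {g | rho φ g v = v}
      one_mem' := by
        show rho φ 1 v = v
        rw [map_one, Module.End.one_apply]
      mul_mem' := by
        intro a b ha hb
        show rho φ (a * b) v = v
        rw [map_mul, Module.End.mul_apply, hb, ha]
      inv_mem' := by
        intro a ha
        show rho φ a⁻¹ v = v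
        have ha' : rho φ a v = v := ha
        conv_lhs => rw [← ha']
        rw [← Module.End.mul_apply, ← map_mul, inv_mul_cancel, map_one, Module.End.one_apply] }
  intro g
  have hstar : ∀ k : Fin 7, k ≠ 0 → swap 0 1 * swap 0 k ∈ S.map (alternatingGroup (Fin 7)).subtype := by
    have key : ∀ k : Fin 7, k ≠ 0 → (∃ a : A6, (up a : Perm (Fin 7)) = swap 0 1 * swap 0 k) ∨
        ∃ a : A6, (up' a : Perm (Fin 7)) = swap 0 1 * swap 0 k := by
      intro k hk
      fin_cases k
      · exact absurd rfl hk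
      · exact Or.inl ⟨⟨swap 0 1 * swap 0 1, Perm.mem_alternatingGroup.2 (by decide +kernel)⟩, by decide +kernel⟩
      · exact Or.inl ⟨⟨swap 0 1 * swap 0 2, Perm.mem_alternatingGroup.2 (by decide +kernel)⟩, by decide +kernel⟩
      · exact Or.inl ⟨⟨swap 0 1 * swap 0 3, Perm.mem_alternatingGroup.2 (by decide +kernel)⟩, by decide +kernel⟩
      · exact Or.inl ⟨⟨swap 0 1 * swap 0 4, Perm.mem_alternatingGroup.2 (by decide +kernel)⟩, by decide +kernel⟩
      · exact Or.inl ⟨⟨swap 0 1 * swap 0 5, Perm.mem_alternatingGroup.2 (by decide +kernel)⟩, by decide +kernel⟩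
      · exact Or.inr ⟨⟨swap 0 1 * swap 0 5, Perm.mem_alternatingGroup.2 (by decide +kernel)⟩, by decide +kernel⟩
    intro k hk
    rcases key k hk with ⟨a, ha⟩ | ⟨a, ha⟩
    · rw [← ha]
      exact ⟨up a, hvU a, rfl⟩
    · rw [← ha]
      exact ⟨up' a, hvU' a, rfl⟩
  obtain ⟨a, ha, ha'⟩ := H952.F4.Gen.mem_of_star (n := 5) (S.map (alternatingGroup (Fin 7)).subtype)
    (by
      rintro _ ⟨a, -, rfl⟩
      exact a.2) hstar g.2
  have : a = g := Subtype.ext ha'
  rw [← this]
  exact ha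

end Main

end Cfsg.Agent.H251.E6
end

-- part: H251/E6/LInv5
section
/-!
# Invariants of a cover of `A₇` on the adjoint module, characteristic 5 (helper251, S5927)
-/

set_option autoImplicit false

namespace Cfsg.Agent.H251.E6

open Cfsg Cfsg.Lie Module Equiv
open Cfsg.Agent.ChevalleyStructure.E6Min.Tables Cfsg.Agent.ChevalleyStructure.E6Min.Basic
  Cfsg.Agent.ChevalleyStructure.E6Min.Adjoint
open Cfsg.Agent.H952.F4 (ev sh cr tf GenT)
open Cfsg.Agent.H163.E6
open Cfsg.Agent.H952.F4.Kill (zz cc g1 r3 y7 z7)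
open scoped Matrix

universe u

/-! ### averages over a list of words -/

section List

/-- words in two letters, coded by numbers -/
def dec {G : Type*} [Group G] (a b : G) : ℕ → ℕ → G
  | 0, _ => 1
  | k + 1, v => if v ≤ 1 then 1 else (if v % 2 = 0 then a else b) * dec a b k (v / 2)

variable {K G V : Type*} [Field K] [Group G] [AddCommGroup V] [Module K V] [FiniteDimensional K V]

/-- the vectors fixed by two elements -/
def fixU (ρ : Representation K G V) (a b : G) : Submodule K V :=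
  End.eigenspace (ρ a) 1 ⊓ End.eigenspace (ρ b) 1

omit [FiniteDimensional K V] in
theorem mem_fixU {ρ : Representation K G V} {a b : G} {v : V} : v ∈ fixU ρ a b ↔ ρ a v = v ∧ ρ b v = v := by
  rw [fixU, Submodule.mem_inf, End.mem_eigenspace_iff, End.mem_eigenspace_iff, one_smul]

omit [FiniteDimensional K V] in
theorem dec_fix {ρ : Representation K G V} {a b : G} {v : V} (hv : v ∈ fixU ρ a b) : ∀ k m, ρ (dec a b k m) v = v := by
  rw [mem_fixU] at hv
  intro k
  induction k with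
  | zero =>
    intro m
    rw [dec, map_one, Module.End.one_apply]
  | succ k ih =>
    intro m
    rw [dec]
    split_ifs
    · rw [map_one, Module.End.one_apply]
    · rw [map_mul, Module.End.mul_apply, ih, hv.1]
    · rw [map_mul, Module.End.mul_apply, ih, hv.2]

theorem avg_list (ρ : Representation K G V) (a b : G) (tab : List (ℕ × ℕ × ℕ × ℕ × ℕ)) (τ : ℕ → ℤ)
    (h : ∀ t ∈ tab, a * dec a b 16 t.1 = dec a b 16 t.2.1 ∧ b * dec a b 16 t.1 = dec a b 16 t.2.2.1 ∧
      dec a b 16 t.1 * dec a b 16 t.2.2.2.2 = dec a b 16 t.2.2.2.2 * dec a b 16 t.2.2.2.1)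
    (px : (tab.map fun t => t.2.1).Perm (tab.map fun t => t.1))
    (py : (tab.map fun t => t.2.2.1).Perm (tab.map fun t => t.1))
    (htr : ∀ t ∈ tab, LinearMap.trace K V (ρ (dec a b 16 t.2.2.2.1)) = ((τ t.2.2.2.1 : ℤ) : K))
    (hN : ((tab.length : ℕ) : K) ≠ 0) :
    (((tab.map fun t => τ t.2.2.2.1).sum : ℤ) : K) = (tab.length : K) * (finrank K (fixU ρ a b) : K) := by
  set E : Module.End K V := (tab.map fun t => ρ (dec a b 16 t.1)).sum with hE
  have hEn : E = ((tab.map fun t => t.1).map fun m => ρ (dec a b 16 m)).sum := by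
    rw [List.map_map]; rfl
  have hax : ρ a * E = E := by
    rw [hE, ← List.sum_map_mul_left]
    have e1 : (tab.map fun t => ρ a * ρ (dec a b 16 t.1)) = (tab.map fun t => t.2.1).map fun m => ρ (dec a b 16 m) := by
      rw [List.map_map]
      refine List.map_congr_left fun t ht => ?_
      rw [← map_mul, (h t ht).1]
      rfl
    rw [e1, (px.map _).sum_eq, List.map_map]
    rfl
  have hbx : ρ b * E = E := by
    rw [hE, ← List.sum_map_mul_left]
    have e1 : (tab.map fun t => ρ b * ρ (dec a b 16 t.1)) = (tab.map fun t => t.2.2.1).map fun m => ρ (dec a b 16 m) := by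
      rw [List.map_map]
      refine List.map_congr_left fun t ht => ?_
      rw [← map_mul, (h t ht).2.1]
      rfl
    rw [e1, (py.map _).sum_eq, List.map_map]
    rfl
  have hmem : ∀ v, E v ∈ fixU ρ a b := fun v => by
    rw [mem_fixU]
    constructor
    · rw [← Module.End.mul_apply, hax]
    · rw [← Module.End.mul_apply, hbx]
  have hfix : ∀ v ∈ fixU ρ a b, E v = (tab.length : K) • v := by
    intro v hv
    rw [hE]
    clear hax hbx hmem hEn hE htr hN px py h
    induction tab with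
    | nil => simp only [_root_.List.map_nil, _root_.List.sum_nil, _root_.LinearMap.zero_apply, _root_.List.length_nil, _root_.Nat.cast_zero, _root_.zero_smul]
    | cons t tab ih =>
      rw [List.map_cons, List.sum_cons, LinearMap.add_apply, ih, dec_fix hv, List.length_cons, Nat.cast_succ, add_smul,
        one_smul, add_comm]
  have hproj : LinearMap.IsProj (fixU ρ a b) ((tab.length : K)⁻¹ • E) := by
    constructor
    · intro v
      exact Submodule.smul_mem _ _ (hmem v)
    · intro v hv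
      rw [LinearMap.smul_apply, hfix v hv, smul_smul, inv_mul_cancel₀ hN, one_smul]
  have h1 := LinearMap.IsProj.trace hproj
  rw [map_smul, smul_eq_mul] at h1
  have h2 : LinearMap.trace K V E = (((tab.map fun t => τ t.2.2.2.1).sum : ℤ) : K) := by
    rw [hE]
    clear hax hbx hmem hEn hE hN px py hfix hproj h1
    induction tab with
    | nil => simp
    | cons t tab ih =>
      rw [List.map_cons, List.sum_cons, map_add, List.map_cons, List.sum_cons, Int.cast_add,
        ih (fun t' ht' => h t' (List.mem_cons_of_mem _ ht')) (fun t' ht' => htr t' (List.mem_cons_of_mem _ ht')),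
        ← htr t List.mem_cons_self]
      congr 1
      have h3 := (h t List.mem_cons_self).2.2
      rw [eq_mul_inv_of_mul_eq h3, tr_conj]
  rw [← h2, ← h1, ← mul_assoc, mul_inv_cancel₀ hN, one_mul]

end List

/-! ### the subgroups -/

/-- the involution generating `L₃(2)` with `y7` -/
def gx : A7 :=
  ⟨⟨![1, 0, 2, 3, 6, 5, 4], ![1, 0, 2, 3, 6, 5, 4], by decide, by decide⟩, by
    rw [Equiv.Perm.mem_alternatingGroup]; decide⟩

/-- the involution generating `S₄` with `y7` -/
def gs : A7 :=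
  ⟨⟨![0, 6, 3, 2, 4, 5, 1], ![0, 6, 3, 2, 4, 5, 1], by decide, by decide⟩, by
    rw [Equiv.Perm.mem_alternatingGroup]; decide⟩

/-- the group `L₃(2)`: (element, x·element, y·element, representative, conjugator) -/
def tabS : List (ℕ × ℕ × ℕ × ℕ × ℕ) :=
  [(1, 2, 3, 1, 1), (2, 1, 5, 2, 1), (3, 6, 7, 3, 1), (5, 10, 11, 5, 1), (6, 3, 13, 5, 2),
   (7, 14, 1, 3, 5482), (10, 5, 21, 3, 2), (11, 22, 2, 11, 1), (13, 26, 27, 11, 5), (14, 7, 29, 11, 2),
   (21, 42, 43, 5, 3418), (22, 11, 45, 3, 2741), (26, 13, 53, 5, 1709), (27, 54, 6, 2, 7), (29, 58, 59, 2, 3),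
   (42, 21, 85, 11, 10), (43, 86, 10, 43, 1), (45, 90, 91, 43, 5), (53, 106, 107, 43, 7),
   (54, 27, 109, 43, 2), (58, 29, 117, 43, 3), (59, 118, 14, 5, 3), (85, 170, 171, 11, 5546),
   (86, 43, 173, 2, 14), (90, 45, 181, 2, 6), (91, 182, 22, 11, 2733), (106, 53, 213, 11, 2773),
   (107, 214, 26, 3, 11), (109, 218, 219, 11, 1366), (117, 234, 235, 3, 5), (118, 59, 237, 11, 5466),
   (170, 85, 341, 43, 14), (171, 342, 42, 43, 45), (173, 346, 347, 43, 181), (181, 362, 363, 43, 182),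
   (182, 91, 365, 5, 6), (213, 426, 427, 43, 22), (214, 107, 429, 43, 90), (218, 109, 437, 43, 362),
   (219, 438, 54, 3, 1370), (234, 117, 469, 43, 91), (235, 470, 58, 5, 854), (237, 474, 475, 3, 5483),
   (341, 475, 683, 5, 3498), (342, 171, 685, 3, 22), (346, 173, 693, 11, 683), (347, 694, 86, 43, 58),
   (362, 181, 725, 3, 10), (363, 726, 90, 43, 234), (365, 730, 426, 43, 59), (426, 213, 182, 5, 1749),
   (427, 854, 106, 11, 43), (429, 858, 859, 43, 235), (437, 874, 875, 43, 237), (438, 219, 877, 43, 29),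
   (469, 938, 939, 11, 21), (470, 235, 941, 43, 117), (474, 237, 949, 43, 118), (475, 341, 118, 43, 11),
   (683, 1366, 170, 5, 13), (685, 1370, 1371, 5, 53), (693, 1386, 1387, 5, 213), (694, 347, 1389, 3, 685),
   (725, 1450, 1451, 5, 54), (726, 363, 1453, 5, 427), (730, 365, 1461, 3, 2923), (854, 427, 1709, 5, 26),
   (858, 429, 1717, 5, 106), (859, 1718, 214, 2, 59), (874, 437, 1749, 5, 219), (875, 1387, 218, 2, 27),
   (877, 1754, 938, 5, 874), (938, 469, 438, 5, 27), (939, 1878, 234, 11, 1386), (941, 1453, 1883, 2, 29),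
   (949, 1898, 1899, 2, 13), (1366, 683, 2733, 11, 86), (1370, 685, 2741, 43, 470),
   (1371, 2742, 342, 3, 1389), (1386, 693, 2773, 43, 474), (1387, 875, 346, 2, 1709),
   (1389, 2778, 1450, 3, 5557), (1450, 725, 694, 11, 42), (1451, 2902, 362, 3, 725),
   (1453, 941, 2907, 2, 3419), (1461, 2922, 2923, 3, 2902), (1709, 3418, 3419, 3, 694),
   (1717, 3434, 3435, 2, 854), (1718, 859, 3437, 3, 2778), (1749, 3498, 3499, 3, 362),
   (1754, 877, 3509, 3, 11114), (1878, 939, 3757, 3, 1450), (1883, 3766, 470, 43, 363),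
   (1898, 949, 3797, 3, 1451), (1899, 3435, 474, 43, 365), (2733, 5466, 5467, 3, 730),
   (2741, 5482, 5483, 3, 170), (2742, 1371, 5485, 2, 118), (2773, 5546, 5547, 3, 171),
   (2778, 1389, 5557, 5, 437), (2902, 1451, 5805, 11, 693), (2907, 5814, 726, 11, 170),
   (2922, 1461, 5845, 2, 26), (2923, 5483, 730, 11, 347), (3418, 1709, 6837, 3, 365),
   (3419, 6838, 854, 3, 91), (3434, 1717, 6869, 3, 85), (3435, 1899, 858, 11, 341),
   (3437, 6874, 3498, 11, 171), (3498, 1749, 1718, 3, 342), (3499, 6998, 874, 3, 43),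
   (3509, 7018, 7019, 11, 173), (3757, 7514, 7515, 3, 45), (3766, 1883, 7533, 11, 85),
   (3797, 7594, 7595, 3, 21), (5466, 2733, 10933, 3, 347), (5467, 10934, 1366, 3, 5805),
   (5482, 2741, 10965, 2, 427), (5483, 2923, 1370, 43, 730), (5485, 10970, 5546, 3, 5546),
   (5546, 2773, 2742, 3, 181), (5547, 11094, 1386, 43, 2907), (5557, 11114, 11115, 3, 5547),
   (5805, 11610, 11611, 43, 2922), (5814, 2907, 11629, 43, 726), (5845, 11690, 11691, 3, 11691),
   (6837, 13674, 13675, 43, 2923), (6838, 3419, 11610, 3, 5485), (6869, 13738, 13739, 43, 1453),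
   (6874, 3437, 13749, 3, 2773), (6998, 3499, 13997, 43, 5814), (7018, 3509, 11094, 3, 5845),
   (7019, 13675, 1754, 3, 1461), (7514, 3757, 15029, 43, 1461), (7515, 15030, 1878, 5, 107),
   (7533, 15066, 7594, 3, 1371), (7594, 3797, 3766, 3, 11115), (7595, 15190, 1898, 5, 109),
   (10933, 13739, 21867, 2, 53), (10934, 5467, 7514, 3, 182), (10965, 15029, 13674, 2, 213),
   (10970, 5485, 21941, 11, 342), (11094, 5547, 22189, 3, 86), (11114, 5557, 6998, 11, 346),
   (11115, 21867, 2778, 43, 3766), (11610, 5805, 13738, 3, 90), (11611, 23222, 2902, 3, 726),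
   (11629, 23258, 11690, 43, 949), (11690, 5845, 5814, 3, 42), (11691, 23382, 2922, 3, 173),
   (13674, 6837, 5482, 2, 106), (13675, 7019, 3418, 43, 1883), (13738, 6869, 6838, 2, 426),
   (13739, 10933, 3434, 43, 1899), (13749, 21941, 23382, 43, 3797), (13997, 27994, 11114, 3, 693),
   (15029, 10965, 10934, 43, 941), (15030, 7515, 27994, 3, 363), (15066, 7533, 23222, 43, 1898),
   (15190, 7595, 10970, 3, 346), (21867, 11115, 5466, 3, 2922), (21941, 13749, 15190, 43, 5845),
   (22189, 44378, 7018, 2, 107), (23222, 11611, 44378, 5, 214), (23258, 11629, 15030, 3, 2742),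
   (23382, 11691, 6874, 5, 218), (27994, 13997, 23258, 2, 214), (44378, 22189, 15066, 3, 1386)]

/-- the group `S₄` -/
def tabQ : List (ℕ × ℕ × ℕ × ℕ × ℕ) :=
  [(1, 2, 3, 1, 1), (2, 1, 5, 2, 1), (3, 6, 7, 3, 1), (5, 10, 11, 5, 1), (6, 3, 13, 5, 2), (7, 14, 1, 3, 86),
   (10, 5, 21, 3, 2), (11, 22, 2, 5, 13), (13, 26, 27, 5, 6), (14, 7, 29, 5, 26), (21, 42, 43, 21, 1),
   (22, 11, 45, 3, 43), (26, 13, 22, 21, 2), (27, 54, 6, 2, 7), (29, 58, 42, 2, 3), (42, 21, 14, 5, 3),
   (43, 86, 10, 3, 10), (45, 90, 26, 3, 11), (54, 27, 109, 3, 5), (58, 29, 54, 3, 21), (86, 43, 173, 2, 14),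
   (90, 45, 86, 2, 6), (109, 173, 58, 21, 3), (173, 109, 90, 2, 13)]

set_option maxRecDepth 100000 in
theorem tabS_px : (tabS.map fun t => t.2.1).Perm (tabS.map fun t => t.1) := by decide +kernel
set_option maxRecDepth 100000 in
theorem tabS_py : (tabS.map fun t => t.2.2.1).Perm (tabS.map fun t => t.1) := by decide +kernel
set_option maxRecDepth 100000 in
theorem tabQ_px : (tabQ.map fun t => t.2.1).Perm (tabQ.map fun t => t.1) := by decide +kernel
set_option maxRecDepth 100000 in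
theorem tabQ_py : (tabQ.map fun t => t.2.2.1).Perm (tabQ.map fun t => t.1) := by decide +kernel

set_option maxRecDepth 100000 in
theorem tabS_rep : ∀ t ∈ tabS, t.2.2.2.1 = 1 ∨ t.2.2.2.1 = 2 ∨ t.2.2.2.1 = 3 ∨ t.2.2.2.1 = 5 ∨ t.2.2.2.1 = 11 ∨
    t.2.2.2.1 = 43 := by decide +kernel

set_option maxRecDepth 100000 in
theorem tabQ_rep : ∀ t ∈ tabQ, t.2.2.2.1 = 1 ∨ t.2.2.2.1 = 2 ∨ t.2.2.2.1 = 3 ∨ t.2.2.2.1 = 5 ∨ t.2.2.2.1 = 21 := by
  decide +kernel

theorem tabQ_ok : ∀ t ∈ tabQ, gs * dec gs y7 16 t.1 = dec gs y7 16 t.2.1 ∧ y7 * dec gs y7 16 t.1 = dec gs y7 16 t.2.2.1 ∧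
      dec gs y7 16 t.1 * dec gs y7 16 t.2.2.2.2 = dec gs y7 16 t.2.2.2.2 * dec gs y7 16 t.2.2.2.1 := by
  (set_option synthInstance.maxSize 9000 in open scoped Cfsg.Agent.Lib.FastPerm in decide +kernel)

theorem tabS_ok : ∀ t ∈ tabS, gx * dec gx y7 16 t.1 = dec gx y7 16 t.2.1 ∧ y7 * dec gx y7 16 t.1 = dec gx y7 16 t.2.2.1 ∧
      dec gx y7 16 t.1 * dec gx y7 16 t.2.2.2.2 = dec gx y7 16 t.2.2.2.2 * dec gx y7 16 t.2.2.2.1 := by
  (set_option synthInstance.maxSize 9000 in open scoped Cfsg.Agent.Lib.FastPerm in decide +kernel)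

theorem tabS_len : tabS.length = 168 := by decide +kernel
theorem tabQ_len : tabQ.length = 24 := by decide +kernel

/-- traces by representative -/
def tauS (m : ℕ) : ℤ := if m = 1 then 78 else if m = 2 then -2 else if m = 3 then 6 else if m = 43 then 2 else 1

/-- traces by representative -/
def tauQ (m : ℕ) : ℤ := if m = 1 then 78 else if m = 2 then -2 else if m = 3 then 6 else if m = 5 then 2 else -2

theorem tabS_sum : (tabS.map fun t => tauS t.2.2.2.1).sum = 504 := by decide +kernel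
theorem tabQ_sum : (tabQ.map fun t => tauQ t.2.2.2.1).sum = 120 := by decide +kernel

theorem gx_type : (gx : Perm (Fin 7)).cycleType = {2, 2} := by decide +kernel
theorem gs_type : (gs : Perm (Fin 7)).cycleType = {2, 2} := by decide +kernel
theorem gxy_type : ((gx * y7 : A7) : Perm (Fin 7)).cycleType = {7} := by decide +kernel
theorem s11_t : ((dec gx y7 16 11 : A7) : Perm (Fin 7)).cycleType = {7} := by decide +kernel
theorem s43_t : ((dec gx y7 16 43 : A7) : Perm (Fin 7)).cycleType = {4, 2} := by decide +kernel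
theorem q5_t : ((dec gs y7 16 5 : A7) : Perm (Fin 7)).cycleType = {4, 2} := by decide +kernel
theorem q21_t : ((dec gs y7 16 21 : A7) : Perm (Fin 7)).cycleType = {2, 2} := by decide +kernel
theorem q21_m : ((gs * dec gs y7 16 21 : A7) : Perm (Fin 7)).cycleType = {4, 2} := by decide +kernel
theorem s5_c : gx * dec gx y7 16 5 * gx⁻¹ = gx * y7 := by decide +kernel
theorem s11_c : dec gx y7 16 11 * (gx * y7) = 1 := by decide +kernel
theorem gs_word : dec gx y7 16 86 = gs := by decide +kernel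

/-- conjugation by an odd permutation centralising the `S₄` -/
def ct : Perm (Fin 7) := ⟨![0, 3, 6, 1, 5, 4, 2], ![0, 3, 6, 1, 5, 4, 2], by decide, by decide⟩

/-- conjugation by `ct` -/
def cj : A7 →* A7 where
  toFun g := ⟨ct * (g : Perm (Fin 7)) * ct⁻¹, by
    rw [Perm.mem_alternatingGroup, Perm.sign_mul, Perm.sign_mul, Perm.sign_inv,
      Perm.mem_alternatingGroup.1 g.2, mul_one, Int.units_mul_self]⟩
  map_one' := Subtype.ext (by simp)
  map_mul' g h := Subtype.ext (by
    show ct * ((g * h : A7) : Perm (Fin 7)) * ct⁻¹ = ct * (g : Perm (Fin 7)) * ct⁻¹ * (ct * (h : Perm (Fin 7)) * ct⁻¹)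
    rw [Subgroup.coe_mul]
    group)

theorem coe_cj (g : A7) : (cj g : Perm (Fin 7)) = ct * (g : Perm (Fin 7)) * ct⁻¹ := rfl

theorem type_cj (g : A7) : (cj g : Perm (Fin 7)).cycleType = (g : Perm (Fin 7)).cycleType := by
  rw [coe_cj, Perm.cycleType_conj]

theorem cj_inj : Function.Injective cj := by
  intro g h e
  have h1 := congrArg Subtype.val e
  have h2 : ct * (g : Perm (Fin 7)) * ct⁻¹ = ct * (h : Perm (Fin 7)) * ct⁻¹ := h1
  exact Subtype.ext (mul_left_cancel (mul_right_cancel h2))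

theorem cj_y : cj y7 = y7 := by decide +kernel
theorem cj_s : cj gs = gs := by decide +kernel

/-- the star elements as words -/
theorem stars : ∀ k : Fin 7, k ≠ 0 → ∃ l : List (Fin 3),
    (((l.map (![gx, y7, cj gx] : Fin 3 → A7)).prod : A7) : Perm (Fin 7)) = swap (0 : Fin 7) 1 * swap 0 k := by
  intro k hk
  fin_cases k
  · exact absurd rfl hk
  · exact ⟨[], by decide +kernel⟩
  · exact ⟨[0, 1, 2, 0, 1, 0, 2, 0], by decide +kernel⟩
  · exact ⟨[2, 0, 2, 0], by decide +kernel⟩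
  · exact ⟨[2, 0, 1, 0, 2, 1], by decide +kernel⟩
  · exact ⟨[2, 0, 1, 2, 0, 1], by decide +kernel⟩
  · exact ⟨[2, 0, 1, 1, 2, 0, 1, 1], by decide +kernel⟩

/-! ### dimensions -/

section Main

variable {F : Type u} [Field F] [Finite F] {φ : A7 →* ↥(chevE6.group F)}

theorem Cls.comp (hC : Cls φ) : Cls (φ.comp cj) where
  two g hg := hC.two (cj g) ((type_cj g).trans hg)
  three g hg := hC.three (cj g) (by rw [type_cj g]; exact hg)
  four g hg := hC.four (cj g) ((type_cj g).trans hg)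

theorem seven_tr (p : ℕ) [Fact p.Prime] [CharP F p] (hp : p ≠ 7) (hφ : Function.Injective φ) {a : A7}
    (ha : (a : Perm (Fin 7)).cycleType = {7}) :
    (ev (rho φ a) 1 = 12 ∧ LinearMap.trace F _ (rho φ a) = 1) ∨ 18 ≤ ev (rho φ a) 1 := by
  have h7 : (a : A7) ^ 7 = 1 := H952.F4.SixFive.pow_of_ct a ha
  have hne : a ≠ 1 := by
    rintro rfl
    rw [Subgroup.coe_one, Perm.cycleType_one] at ha
    exact absurd ha (by decide)
  obtain ⟨τ, hτ⟩ := isConj_iff.1 (Perm.isConj_iff_cycleType_eq.2 (z7_type.trans ha.symm))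
  have hb : τ * (y7 : Perm (Fin 7)) * τ⁻¹ ∈ alternatingGroup (Fin 7) := by
    rw [Perm.mem_alternatingGroup, Perm.sign_mul, Perm.sign_mul, Perm.sign_inv]
    have h1 := Perm.mem_alternatingGroup.1 y7.2
    rw [h1, mul_one, Int.units_mul_self]
  set b : A7 := ⟨τ * (y7 : Perm (Fin 7)) * τ⁻¹, hb⟩ with hbdef
  have hba : b * a * b⁻¹ = a ^ 2 := by
    apply Subtype.ext
    show τ * (y7 : Perm (Fin 7)) * τ⁻¹ * (a : Perm (Fin 7)) * (τ * (y7 : Perm (Fin 7)) * τ⁻¹)⁻¹ = (a : Perm (Fin 7)) ^ 2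
    rw [← hτ, conj_pow]
    have h1 : (y7 : Perm (Fin 7)) * (z7 : Perm (Fin 7)) * (y7 : Perm (Fin 7))⁻¹ = (z7 : Perm (Fin 7)) ^ 2 :=
      congrArg Subtype.val H952.F4.Kill.y7_z7
    rw [← h1]
    group
  obtain ⟨x, hx, h1, hr⟩ := lift_pow φ (a := a) (k := 7) (m := 5) (s := 2) h7 (by norm_num)
  obtain ⟨y, hy⟩ := hr b 2 hba
  have hne' : x ≠ 1 := by
    rintro rfl
    rw [map_one] at hx
    exact hne (hφ (hx.symm.trans (map_one φ).symm))
  rw [rho_eq hx]
  rcases (Tor.tab p).seven_rat hp x hne' h1 ⟨y, hy⟩ with h | h | h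
  · exact Or.inr (by omega)
  · exact Or.inl ⟨h.2.1, h.2.2.2⟩
  · exact Or.inr (by omega)

/-- the unit of an element -/
noncomputable abbrev un (φ : A7 →* ↥(chevE6.group F)) : A7 →* (Module.End F (chevE6.Idx → F))ˣ := (rho φ).toHomUnits

theorem h_small [CharP F 5] (n : ℕ) (h : ¬ 5 ∣ n) : ((n : ℕ) : F) ≠ 0 := fun h0 =>
  h ((CharP.cast_eq_zero_iff F 5 n).1 h0)

theorem ev_inv' (ρ : Representation F A7 (chevE6.Idx → F)) {a b : A7} (h : a * b = 1) :
    ev (ρ a) 1 = ev (ρ b) 1 := by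
  have h' : b * a = 1 := by
    rw [← inv_eq_of_mul_eq_one_right h, inv_mul_cancel]
  have e : End.eigenspace (ρ a) 1 = End.eigenspace (ρ b) 1 := by
    ext v
    rw [End.mem_eigenspace_iff, End.mem_eigenspace_iff, one_smul]
    constructor
    · intro hv
      nth_rw 1 [← hv]
      rw [← Module.End.mul_apply, ← map_mul, h', map_one, Module.End.one_apply]
    · intro hv
      nth_rw 1 [← hv]
      rw [← Module.End.mul_apply, ← map_mul, h, map_one, Module.End.one_apply]
  unfold ev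
  rw [e]

theorem dimS [CharP F 5] (hφ : Function.Injective φ) (hC : Cls φ) : 3 ≤ finrank F (fixU (rho φ) gx y7) := by
  haveI : Fact (Nat.Prime 5) := ⟨by norm_num⟩
  have h2 : (2 : F) ≠ 0 := by
    have := h_small (F := F) 2 (by norm_num)
    exact_mod_cast this
  have h3 : (3 : F) ≠ 0 := by
    have := h_small (F := F) 3 (by norm_num)
    exact_mod_cast this
  have hx := hC.two gx gx_type
  have hy := hC.three y7 (Or.inr y7_type)
  rcases seven_tr 5 (by norm_num) hφ gxy_type with h7 | h7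
  · have h5 : LinearMap.trace F _ (rho φ (dec gx y7 16 5)) = 1 := by
      rw [← tr_conj (rho φ) gx, s5_c]
      exact h7.2
    have h11 : LinearMap.trace F _ (rho φ (dec gx y7 16 11)) = 1 := by
      rcases seven_tr 5 (by norm_num) hφ s11_t with h | h
      · exact h.2
      · rw [ev_inv' (rho φ) s11_c, h7.1] at h
        omega
    have key := avg_list (rho φ) gx y7 tabS tauS tabS_ok tabS_px tabS_py (fun t ht => by
      rcases tabS_rep t ht with h | h | h | h | h | h <;> rw [h]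
      · have e : dec gx y7 16 1 = 1 := by decide +kernel
        rw [e, map_one, tr_one']
        norm_num [tauS]
      · have e : dec gx y7 16 2 = gx := by decide +kernel
        rw [e, hx.2]
        norm_num [tauS]
      · have e : dec gx y7 16 3 = y7 := by decide +kernel
        rw [e, hy.2]
        norm_num [tauS]
      · rw [h5]
        norm_num [tauS]
      · rw [h11]
        norm_num [tauS]
      · rw [(hC.four _ s43_t).2]
        norm_num [tauS]) (by rw [tabS_len]; exact h_small 168 (by norm_num))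
    rw [tabS_sum, tabS_len] at key
    have hd : ((finrank F (fixU (rho φ) gx y7) : ℕ) : F) = ((3 : ℕ) : F) := by
      have h168 : ((168 : ℕ) : F) ≠ 0 := h_small 168 (by norm_num)
      apply mul_left_cancel₀ h168
      rw [← key]
      push_cast
      norm_num
    rw [CharP.natCast_eq_natCast F 5, Nat.ModEq] at hd
    omega
  · have hs := scott_units (un φ gx) (un φ y7) (Bf F) (Bf_nondeg h2 h3) (fun v w => Bf_LK (φ gx) v w)
      (fun v w => Bf_LK (φ y7) v w) (W := fixU (rho φ) gx y7) (fun v h4 h5 => mem_fixU.2 ⟨h4, h5⟩)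
    rw [← map_mul] at hs
    have e1 : ev ((un φ gx : (Module.End F (chevE6.Idx → F))ˣ) : Module.End F (chevE6.Idx → F)) 1 = 38 := hx.1
    have e2 : ev ((un φ y7 : (Module.End F (chevE6.Idx → F))ˣ) : Module.End F (chevE6.Idx → F)) 1 = 30 := hy.1
    have e3 : 18 ≤ ev ((un φ (gx * y7) : (Module.End F (chevE6.Idx → F))ˣ) : Module.End F (chevE6.Idx → F)) 1 := h7
    rw [e1, e2, finrank_L] at hs
    omega

theorem dimQ [CharP F 5] (hC : Cls φ) : finrank F (fixU (rho φ) gs y7) ≤ 5 := by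
  haveI : Fact (Nat.Prime 5) := ⟨by norm_num⟩
  have h2 : (2 : F) ≠ 0 := by
    have := h_small (F := F) 2 (by norm_num)
    exact_mod_cast this
  have h3 : (3 : F) ≠ 0 := by
    have := h_small (F := F) 3 (by norm_num)
    exact_mod_cast this
  have key := avg_list (rho φ) gs y7 tabQ tauQ tabQ_ok tabQ_px tabQ_py (fun t ht => by
    rcases tabQ_rep t ht with h | h | h | h | h <;> rw [h]
    · have e : dec gs y7 16 1 = 1 := by decide +kernel
      rw [e, map_one, tr_one']
      norm_num [tauQ]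
    · have e : dec gs y7 16 2 = gs := by decide +kernel
      rw [e, (hC.two gs gs_type).2]
      norm_num [tauQ]
    · have e : dec gs y7 16 3 = y7 := by decide +kernel
      rw [e, (hC.three y7 (Or.inr y7_type)).2]
      norm_num [tauQ]
    · rw [(hC.four _ q5_t).2]
      norm_num [tauQ]
    · rw [(hC.two _ q21_t).2]
      norm_num [tauQ]) (by rw [tabQ_len]; exact h_small 24 (by norm_num))
  rw [tabQ_sum, tabQ_len] at key
  have hd : ((finrank F (fixU (rho φ) gs y7) : ℕ) : F) = ((0 : ℕ) : F) := by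
    have h24 : ((24 : ℕ) : F) ≠ 0 := h_small 24 (by norm_num)
    apply mul_left_cancel₀ h24
    rw [← key]
    have h5 : ((5 : ℕ) : F) = 0 := CharP.cast_eq_zero F 5
    have : ((120 : ℤ) : F) = ((5 : ℕ) : F) * 24 := by push_cast; norm_num
    rw [this, h5]
    simp
  rw [CharP.natCast_eq_natCast F 5, Nat.ModEq] at hd
  have hle := dih_le h2 (un φ gs) (un φ (dec gs y7 16 21)) (Bf F) (Bf_nondeg h2 h3) (fun v w => Bf_LK (φ gs) v w)
    (fun v w => Bf_LK (φ (dec gs y7 16 21)) v w) (U := fixU (rho φ) gs y7) (fun v hv =>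
      ⟨(mem_fixU.1 hv).1, dec_fix hv 16 21⟩)
  have hev : ∀ g : A7, g * g = 1 → (g : Perm (Fin 7)).cycleType = {2, 2} → ev (rho φ g) (-1) = 40 := by
    intro g hg ht
    have h4 := ev_neg_add (X := rho φ g) h2 (by rw [← map_mul, hg, map_one])
    rw [finrank_L, (hC.two g ht).1] at h4
    omega
  rw [← map_mul] at hle
  have e1 : ev ((un φ gs : (Module.End F (chevE6.Idx → F))ˣ) : Module.End F (chevE6.Idx → F)) (-1) = 40 :=
    hev gs (by decide +kernel) gs_type
  have e2 : ev ((un φ (dec gs y7 16 21) : (Module.End F (chevE6.Idx → F))ˣ) : Module.End F (chevE6.Idx → F)) (-1) = 40 :=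
    hev _ (by decide +kernel) q21_t
  have e3 : ev ((un φ (gs * dec gs y7 16 21) : (Module.End F (chevE6.Idx → F))ˣ) : Module.End F (chevE6.Idx → F)) 1 = 20 :=
    (hC.four _ q21_m).1
  rw [e1, e2, e3, finrank_L] at hle
  omega

/-- **invariants on the adjoint module, characteristic 5** -/
theorem inv_ne_bot_five [CharP F 5] (hφ : Function.Injective φ) {ω : Fˣ} (hc : Cover φ ω) :
    (rho φ).invariants ≠ ⊥ := by
  haveI : Fact (Nat.Prime 5) := ⟨by norm_num⟩
  rcases cls_or 5 le_rfl hφ hc with h | hC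
  · exact h
  have d1 := dimS hφ hC
  have d2 : 3 ≤ finrank F (fixU (rho (φ.comp cj)) gx y7) := dimS (hφ.comp cj_inj) hC.comp
  have d3 := dimQ hC
  set U := fixU (rho φ) gx y7 with hU
  set U' := fixU (rho (φ.comp cj)) gx y7 with hU'
  set W := fixU (rho φ) gs y7 with hW
  have hle : U ⊔ U' ≤ W := by
    refine sup_le (fun v hv => ?_) (fun v hv => ?_)
    · rw [hW, mem_fixU]
      refine ⟨?_, (mem_fixU.1 hv).2⟩
      have := dec_fix hv 16 86
      rwa [gs_word] at this
    · rw [hW, mem_fixU]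
      have h1 := dec_fix hv 16 86
      rw [gs_word] at h1
      have h2 := (mem_fixU.1 hv).2
      have h1' : rho φ (cj gs) v = v := h1
      have h2' : rho φ (cj y7) v = v := h2
      rw [cj_s] at h1'
      rw [cj_y] at h2'
      exact ⟨h1', h2'⟩
  have h1 := Submodule.finrank_mono hle
  have h2 := Submodule.finrank_sup_add_finrank_inf_eq U U'
  have h3 : U ⊓ U' ≠ ⊥ := by
    intro h0
    rw [h0, finrank_bot] at h2
    omega
  obtain ⟨v, hv, hv0⟩ := Submodule.exists_mem_ne_zero_of_ne_bot h3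
  obtain ⟨hvU, hvU'⟩ := Submodule.mem_inf.1 hv
  rw [hU, mem_fixU] at hvU
  have hvx : rho φ (cj gx) v = v := (mem_fixU.1 hvU').1
  refine (Submodule.ne_bot_iff _).2 ⟨v, ?_, hv0⟩
  rw [Representation.mem_invariants]
  let S : Subgroup A7 :=
    { carrier := {g | rho φ g v = v}
      one_mem' := by
        show rho φ 1 v = v
        rw [map_one, Module.End.one_apply]
      mul_mem' := by
        intro a b ha hb
        show rho φ (a * b) v = v
        rw [map_mul, Module.End.mul_apply, hb, ha]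
      inv_mem' := by
        intro a ha
        show rho φ a⁻¹ v = v
        have ha' : rho φ a v = v := ha
        conv_lhs => rw [← ha']
        rw [← Module.End.mul_apply, ← map_mul, inv_mul_cancel, map_one, Module.End.one_apply] }
  intro g
  have hstar : ∀ k : Fin 7, k ≠ 0 → swap (0 : Fin 7) 1 * swap 0 k ∈ S.map (alternatingGroup (Fin 7)).subtype := by
    intro k hk
    obtain ⟨l, hl⟩ := stars k hk
    rw [← hl]
    refine ⟨(l.map (![gx, y7, cj gx] : Fin 3 → A7)).prod, Subgroup.list_prod_mem _ fun a ha => ?_, rfl⟩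
    obtain ⟨i, -, rfl⟩ := List.mem_map.1 ha
    fin_cases i
    · exact hvU.1
    · exact hvU.2
    · exact hvx
  obtain ⟨a, ha, ha'⟩ := H952.F4.Gen.mem_of_star (n := 5) (S.map (alternatingGroup (Fin 7)).subtype)
    (by
      rintro _ ⟨a, -, rfl⟩
      exact a.2) hstar g.2
  have : a = g := Subtype.ext ha'
  rw [← this]
  exact ha

/-- **a cover of `A₇` fixes a vector of the adjoint module, characteristic at least 5** -/
theorem inv_ne_bot (p : ℕ) [Fact p.Prime] [CharP F p] (hp : 5 ≤ p) (hφ : Function.Injective φ) {ω : Fˣ}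
    (hc : Cover φ ω) : (rho φ).invariants ≠ ⊥ := by
  by_cases h7 : 7 ≤ p
  · exact inv_ne_bot_big p h7 hφ hc
  have h56 : p = 5 ∨ p = 6 := by omega
  rcases h56 with rfl | rfl
  · exact inv_ne_bot_five hφ hc
  · exact absurd (Fact.out : Nat.Prime 6) (by norm_num)

end Main

end Cfsg.Agent.H251.E6
end

-- part: H710/E6C/ExXAll
section
/-!
# S5927: the three-fold covers of `A₆`, `A₇`, `p ≥ 5`: an `H`-stable line in the Lie algebra (helper710, helper251)
-/

set_option autoImplicit false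

namespace Cfsg.Agent.H163.E6.Cov

open Cfsg Cfsg.Lie Module
open Cfsg.Agent.ChevalleyStructure.E6Min.Tables Cfsg.Agent.ChevalleyStructure.E6Min.Basic
  Cfsg.Agent.ChevalleyStructure.E6Min.Adjoint
open Cfsg.Agent.H952.F4 (ev es matRep GenT)

universe u

variable {F : Type u} [Field F] [Finite F] {H : Subgroup ↥(chevE6.group F)} {n : ℕ}
  {φ : ↥(alternatingGroup (Fin n)) →* ↥(chevE6.group F)}

/-- **`L^A ≠ 0`** -/
theorem inv_ne_bot (p : ℕ) [Fact p.Prime] [CharP F p] (hp : 5 ≤ p) (hn : n = 6 ∨ n = 7) (hφ : Function.Injective φ)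
    {ω : Fˣ} (hc : Cover φ ω) :
    Representation.invariants (MonoidHom.comp (LK F) φ : Representation F ↥(alternatingGroup (Fin n)) _) ≠ ⊥ := by
  rcases hn with rfl | rfl
  · exact inv_six p hp rfl hφ hc
  · exact H251.E6.inv_ne_bot p hp hφ hc

/-- **P2** -/
theorem exists_X (p : ℕ) [Fact p.Prime] [CharP F p] (hp : 5 ≤ p) (hn : n = 6 ∨ n = 7) (hS : Sit H n φ) {ω : Fˣ}
    (hc : Cover φ ω) :
    ∃ X : chevE6.Idx → F, X ≠ 0 ∧ ∀ h ∈ H, ∃ c : F, LK F h X = c • X :=
  exists_line_of hS (inv_ne_bot p hp hn hS.inj hc)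

end Cfsg.Agent.H163.E6.Cov
end

private theorem dce_4e6b1bf964ca : _root_.True := by
  try have : _root_.True := by simp only [_root_.Cfsg.Agent.H251.E6.dec.eq_1]
  try have : _root_.True := by simp only [_root_.Cfsg.Agent.H251.E6.tauS.eq_1]
  try have : _root_.True := by simp only [_root_.Cfsg.Agent.H251.E6.dec.eq_2]
  try have : _root_.True := by simp only [_root_.Cfsg.Agent.H251.E6.tauQ.eq_1]
  try have : _root_.True := by simp only [_root_.Cfsg.Agent.H251.E6.fixU.eq_1]
  try have : _root_.True := by simp only [_root_.Cfsg.Agent.H251.E6.dec.eq_def]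
  exact _root_.True.intro
end
end
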